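import Mathlib

/-!
Helper lemmas (helper30) about conjugate subgroups written as `A.map (MulAut.conj g).toMonoidHom`,
the form used throughout the frozen statements.
-/

set_option autoImplicit false

namespace Cfsg.Agent.Helper30

variable {G : Type*} [Group G]

theorem mem_cj {g x : G} {A : Subgroup G} :
    x ∈ A.map (MulAut.conj g).toMonoidHom ↔ g⁻¹ * x * g ∈ A := by
  constructor
  · rintro ⟨y, hy, rfl⟩
    simpa [MulAut.conj_apply, mul_assoc] using hy
  · intro h
    exact ⟨g⁻¹ * x * g, h, by simp [MulAut.conj_apply, mul_assoc]⟩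

theorem conj_mem_cj {g a : G} {A : Subgroup G} (ha : a ∈ A) :
    g * a * g⁻¹ ∈ A.map (MulAut.conj g).toMonoidHom :=
  ⟨a, ha, by simp [MulAut.conj_apply]⟩

theorem cj_cj (x y : G) (A : Subgroup G) :
    (A.map (MulAut.conj x).toMonoidHom).map (MulAut.conj y).toMonoidHom =
      A.map (MulAut.conj (y * x)).toMonoidHom := by
  rw [Subgroup.map_map]
  congr 1
  ext z
  simp [MulAut.conj_apply, mul_assoc]

theorem cj_one (A : Subgroup G) : A.map (MulAut.conj (1 : G)).toMonoidHom = A := by
  ext x
  rw [mem_cj]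
  simp

theorem cj_injective (g : G) : Function.Injective (MulAut.conj g).toMonoidHom :=
  (MulAut.conj g).injective

theorem cj_eq_self_iff {g : G} {A : Subgroup G} :
    A.map (MulAut.conj g).toMonoidHom = A ↔ g ∈ Subgroup.normalizer (A : Set G) :=
  Subgroup.mem_normalizer_iff_map_conj_eq.symm

theorem card_cj (g : G) (A : Subgroup G) :
    Nat.card ↥(A.map (MulAut.conj g).toMonoidHom) = Nat.card ↥A :=
  Subgroup.card_map_of_injective (cj_injective g)

theorem cj_inf (g : G) (A B : Subgroup G) :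
    (A ⊓ B).map (MulAut.conj g).toMonoidHom =
      A.map (MulAut.conj g).toMonoidHom ⊓ B.map (MulAut.conj g).toMonoidHom :=
  Subgroup.map_inf A B _ (cj_injective g)

theorem cj_mono {g : G} {A B : Subgroup G} (h : A ≤ B) :
    A.map (MulAut.conj g).toMonoidHom ≤ B.map (MulAut.conj g).toMonoidHom :=
  Subgroup.map_mono h

theorem cj_le_cj_iff {g : G} {A B : Subgroup G} :
    A.map (MulAut.conj g).toMonoidHom ≤ B.map (MulAut.conj g).toMonoidHom ↔ A ≤ B :=
  Subgroup.map_le_map_iff_of_injective (cj_injective g)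

/-- The TI property is inherited by conjugates. -/
theorem ti_cj {A : Subgroup G}
    (hti : ∀ h : G, A.map (MulAut.conj h).toMonoidHom = A ∨ A.map (MulAut.conj h).toMonoidHom ⊓ A = ⊥)
    (g : G) (h : G) :
    (A.map (MulAut.conj g).toMonoidHom).map (MulAut.conj h).toMonoidHom = A.map (MulAut.conj g).toMonoidHom ∨
      (A.map (MulAut.conj g).toMonoidHom).map (MulAut.conj h).toMonoidHom ⊓ A.map (MulAut.conj g).toMonoidHom = ⊥ := by
  have e : (A.map (MulAut.conj g).toMonoidHom).map (MulAut.conj h).toMonoidHom =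
      (A.map (MulAut.conj (g⁻¹ * h * g)).toMonoidHom).map (MulAut.conj g).toMonoidHom := by
    rw [cj_cj, cj_cj]
    congr 3
    group
  rcases hti (g⁻¹ * h * g) with h1 | h1
  · left
    rw [e, h1]
  · right
    rw [e, ← cj_inf, h1, Subgroup.map_bot]

/-- In a TI subgroup `A`, an element commuting with a nontrivial element of `A` normalizes `A`. -/
theorem ti_normalizes {A : Subgroup G}
    (hti : ∀ h : G, A.map (MulAut.conj h).toMonoidHom = A ∨ A.map (MulAut.conj h).toMonoidHom ⊓ A = ⊥)
    {x : G} (hx : x ∈ A) (hx1 : x ≠ 1) {b : G} (hbx : b * x = x * b) :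
    b ∈ Subgroup.normalizer (A : Set G) := by
  rcases hti b with h | h
  · exact cj_eq_self_iff.1 h
  · exfalso
    have hm : x ∈ A.map (MulAut.conj b).toMonoidHom ⊓ A := by
      refine Subgroup.mem_inf.2 ⟨?_, hx⟩
      rw [mem_cj]
      have : b⁻¹ * x * b = x := by rw [mul_assoc, ← hbx, inv_mul_cancel_left]
      rw [this]; exact hx
    rw [h] at hm
    exact hx1 (Subgroup.mem_bot.1 hm)

end Cfsg.Agent.Helper30
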