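import Mathlib

/-!
Explicit collection formula in a group of class at most three:
if `y x = x y c`, `c x = x c d`, `c y = y c e` with `d`, `e` central, then
`(x y)^n = x^n y^n c^(n choose 2) d^(n choose 3) e^(sqSum n)` where `sqSum n = ∑_{k<n} k^2`.
-/

set_option autoImplicit false

namespace Cfsg.Agent.Helper30

open scoped commutatorElement

variable {R : Type*} [Group R]

/-- collection data -/
structure Coll (x y c d e : R) : Prop where
  h1 : y * x = x * y * c
  h2 : c * x = x * c * d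
  h3 : c * y = y * c * e
  hd : ∀ g : R, Commute d g
  he : ∀ g : R, Commute e g

/-- `∑_{k<n} k^2` -/
def sqSum : ℕ → ℕ
  | 0 => 0
  | (n+1) => sqSum n + n ^ 2

theorem six_mul_sqSum_succ (n : ℕ) : 6 * sqSum (n+1) = n * (n+1) * (2*n+1) := by
  induction n with
  | zero => simp [sqSum]
  | succ n ih =>
    have : sqSum (n+1+1) = sqSum (n+1) + (n+1)^2 := rfl
    rw [this, mul_add, ih]; ring

theorem prime_dvd_sqSum {p : ℕ} (hp : p.Prime) (h3 : 3 < p) : p ∣ sqSum p := by
  obtain ⟨m, rfl⟩ : ∃ m, p = m + 1 := ⟨p - 1, by have := hp.pos; omega⟩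
  have h6 : (m+1) ∣ 6 * sqSum (m+1) := by
    rw [six_mul_sqSum_succ]
    exact Dvd.dvd.mul_right (Dvd.intro_left m rfl) _
  have hcop : Nat.Coprime (m+1) 6 := by
    rw [Nat.Prime.coprime_iff_not_dvd hp]
    intro h
    have h' : (m+1) ∣ 2 * 3 := h
    rcases (Nat.Prime.dvd_mul hp).1 h' with h2 | h2
    · have := Nat.le_of_dvd (by norm_num) h2; omega
    · have := Nat.le_of_dvd (by norm_num) h2; omega
  exact hcop.dvd_of_dvd_mul_left h6

namespace Coll

variable {x y c d e : R}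

theorem cpow_x (h : Coll x y c d e) (k : ℕ) : c ^ k * x = x * c ^ k * d ^ k := by
  induction k with
  | zero => simp
  | succ k ih =>
    calc c ^ (k+1) * x = c ^ k * (c * x) := by rw [pow_succ, mul_assoc]
      _ = c ^ k * (x * c * d) := by rw [h.h2]
      _ = (c ^ k * x) * c * d := by simp only [mul_assoc]
      _ = x * c ^ k * d ^ k * c * d := by rw [ih]
      _ = x * c ^ k * (d ^ k * c) * d := by simp only [mul_assoc]
      _ = x * c ^ k * (c * d ^ k) * d := by rw [((h.hd c).pow_left k).eq]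
      _ = x * c ^ (k+1) * d ^ (k+1) := by simp only [pow_succ, mul_assoc]

theorem cpow_y (h : Coll x y c d e) (k : ℕ) : c ^ k * y = y * c ^ k * e ^ k := by
  induction k with
  | zero => simp
  | succ k ih =>
    calc c ^ (k+1) * y = c ^ k * (c * y) := by rw [pow_succ, mul_assoc]
      _ = c ^ k * (y * c * e) := by rw [h.h3]
      _ = (c ^ k * y) * c * e := by simp only [mul_assoc]
      _ = y * c ^ k * e ^ k * c * e := by rw [ih]
      _ = y * c ^ k * (e ^ k * c) * e := by simp only [mul_assoc]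
      _ = y * c ^ k * (c * e ^ k) * e := by rw [((h.he c).pow_left k).eq]
      _ = y * c ^ (k+1) * e ^ (k+1) := by simp only [pow_succ, mul_assoc]

theorem c_xpow (h : Coll x y c d e) (n : ℕ) : c * x ^ n = x ^ n * c * d ^ n := by
  induction n with
  | zero => simp
  | succ n ih =>
    calc c * x ^ (n+1) = (c * x ^ n) * x := by rw [pow_succ, mul_assoc]
      _ = x ^ n * c * d ^ n * x := by rw [ih]
      _ = x ^ n * (c * x) * d ^ n := by
          rw [mul_assoc (x ^ n * c), ((h.hd x).pow_left n).eq]; simp only [mul_assoc]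
      _ = x ^ n * (x * c * d) * d ^ n := by rw [h.h2]
      _ = x ^ (n+1) * c * d ^ (n+1) := by
          rw [pow_succ, pow_succ', mul_assoc, mul_assoc, mul_assoc, mul_assoc, mul_assoc]

theorem c_ypow (h : Coll x y c d e) (n : ℕ) : c * y ^ n = y ^ n * c * e ^ n := by
  induction n with
  | zero => simp
  | succ n ih =>
    calc c * y ^ (n+1) = (c * y ^ n) * y := by rw [pow_succ, mul_assoc]
      _ = y ^ n * c * e ^ n * y := by rw [ih]
      _ = y ^ n * (c * y) * e ^ n := by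
          rw [mul_assoc (y ^ n * c), ((h.he y).pow_left n).eq]; simp only [mul_assoc]
      _ = y ^ n * (y * c * e) * e ^ n := by rw [h.h3]
      _ = y ^ (n+1) * c * e ^ (n+1) := by
          rw [pow_succ, pow_succ', mul_assoc, mul_assoc, mul_assoc, mul_assoc, mul_assoc]

theorem ypow_x (h : Coll x y c d e) (n : ℕ) :
    y ^ n * x = x * y ^ n * c ^ n * e ^ (n.choose 2) := by
  induction n with
  | zero => simp
  | succ n ih =>
    have hch : (n+1).choose 2 = n + n.choose 2 := by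
      rw [Nat.choose_succ_succ, Nat.choose_one_right]
    calc y ^ (n+1) * x = y * (y ^ n * x) := by rw [pow_succ', mul_assoc]
      _ = y * (x * y ^ n * c ^ n * e ^ (n.choose 2)) := by rw [ih]
      _ = (y * x) * y ^ n * c ^ n * e ^ (n.choose 2) := by simp only [mul_assoc]
      _ = x * y * c * y ^ n * c ^ n * e ^ (n.choose 2) := by rw [h.h1]
      _ = x * y * (c * y ^ n) * c ^ n * e ^ (n.choose 2) := by simp only [mul_assoc]
      _ = x * y * (y ^ n * c * e ^ n) * c ^ n * e ^ (n.choose 2) := by rw [h.c_ypow]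
      _ = x * (y * y ^ n) * c * (e ^ n * c ^ n) * e ^ (n.choose 2) := by simp only [mul_assoc]
      _ = x * (y * y ^ n) * c * (c ^ n * e ^ n) * e ^ (n.choose 2) := by
          rw [((h.he (c ^ n)).pow_left n).eq]
      _ = x * y ^ (n+1) * c ^ (n+1) * e ^ ((n+1).choose 2) := by
          rw [hch, pow_add e, pow_succ' y, pow_succ' c]; simp only [mul_assoc]

theorem y_xpow (h : Coll x y c d e) (n : ℕ) :
    y * x ^ n = x ^ n * y * c ^ n * d ^ (n.choose 2) := by
  induction n with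
  | zero => simp
  | succ n ih =>
    have hch : (n+1).choose 2 = n + n.choose 2 := by
      rw [Nat.choose_succ_succ, Nat.choose_one_right]
    calc y * x ^ (n+1) = (y * x ^ n) * x := by rw [pow_succ, mul_assoc]
      _ = x ^ n * y * c ^ n * d ^ (n.choose 2) * x := by rw [ih]
      _ = x ^ n * y * c ^ n * (d ^ (n.choose 2) * x) := by simp only [mul_assoc]
      _ = x ^ n * y * c ^ n * (x * d ^ (n.choose 2)) := by
          rw [((h.hd x).pow_left _).eq]
      _ = x ^ n * y * (c ^ n * x) * d ^ (n.choose 2) := by simp only [mul_assoc]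
      _ = x ^ n * y * (x * c ^ n * d ^ n) * d ^ (n.choose 2) := by rw [h.cpow_x]
      _ = x ^ n * (y * x) * c ^ n * d ^ n * d ^ (n.choose 2) := by simp only [mul_assoc]
      _ = x ^ n * (x * y * c) * c ^ n * d ^ n * d ^ (n.choose 2) := by rw [h.h1]
      _ = x ^ (n+1) * y * c ^ (n+1) * d ^ ((n+1).choose 2) := by
          rw [hch, pow_add d, pow_succ x, pow_succ' c]; simp only [mul_assoc]

theorem mul_pow_eq (h : Coll x y c d e) (n : ℕ) :
    (x * y) ^ n = x ^ n * y ^ n * c ^ (n.choose 2) * d ^ (n.choose 3) * e ^ (sqSum n) := by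
  induction n with
  | zero => simp [sqSum]
  | succ n ih =>
    have hch2 : (n+1).choose 2 = n + n.choose 2 := by
      rw [Nat.choose_succ_succ, Nat.choose_one_right]
    have hch3 : (n+1).choose 3 = n.choose 2 + n.choose 3 := by
      rw [Nat.choose_succ_succ]
    have hsq : sqSum (n+1) = sqSum n + n.choose 2 + (n + n.choose 2) := by
      have h2 : 2 * n.choose 2 + n = n ^ 2 := by
        have := Nat.choose_two_right n
        have h3 := Nat.triangle_succ n
        rcases n with _ | m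
        · simp
        · have : (m+1).choose 2 * 2 = (m+1) * m := by
            rw [Nat.choose_two_right, Nat.add_sub_cancel]
            exact Nat.div_mul_cancel (by
              have := Nat.even_mul_succ_self m
              rw [mul_comm] at this
              exact this.two_dvd)
          nlinarith
      show sqSum n + n ^ 2 = _
      omega
    set a := n.choose 2 with ha
    set α := n.choose 3 with hα
    set β := sqSum n with hβ
    calc (x * y) ^ (n+1) = (x * y) ^ n * (x * y) := pow_succ _ _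
      _ = x ^ n * y ^ n * c ^ a * d ^ α * e ^ β * (x * y) := by rw [ih]
      _ = x ^ n * y ^ n * c ^ a * (d ^ α * (e ^ β * (x * y))) := by simp only [mul_assoc]
      _ = x ^ n * y ^ n * c ^ a * ((x * y) * (d ^ α * e ^ β)) := by
          rw [((h.he (x * y)).pow_left β).eq, ← mul_assoc (d ^ α), ((h.hd (x * y)).pow_left α).eq]
          simp only [mul_assoc]
      _ = x ^ n * y ^ n * (c ^ a * x) * y * (d ^ α * e ^ β) := by simp only [mul_assoc]
      _ = x ^ n * y ^ n * (x * c ^ a * d ^ a) * y * (d ^ α * e ^ β) := by rw [h.cpow_x]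
      _ = x ^ n * (y ^ n * x) * c ^ a * (d ^ a * y) * (d ^ α * e ^ β) := by simp only [mul_assoc]
      _ = x ^ n * (x * y ^ n * c ^ n * e ^ a) * c ^ a * (y * d ^ a) * (d ^ α * e ^ β) := by
          rw [h.ypow_x, ((h.hd y).pow_left a).eq]
      _ = x ^ n * x * y ^ n * c ^ n * (e ^ a * c ^ a) * y * d ^ a * (d ^ α * e ^ β) := by
          simp only [mul_assoc]
      _ = x ^ n * x * y ^ n * c ^ n * (c ^ a * e ^ a) * y * d ^ a * (d ^ α * e ^ β) := by
          rw [((h.he (c ^ a)).pow_left a).eq]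
      _ = x ^ n * x * y ^ n * (c ^ n * c ^ a) * (e ^ a * y) * d ^ a * (d ^ α * e ^ β) := by
          simp only [mul_assoc]
      _ = x ^ n * x * y ^ n * (c ^ (n + a)) * (y * e ^ a) * d ^ a * (d ^ α * e ^ β) := by
          rw [((h.he y).pow_left a).eq, pow_add]
      _ = x ^ n * x * y ^ n * (c ^ (n + a) * y) * e ^ a * d ^ a * (d ^ α * e ^ β) := by
          simp only [mul_assoc]
      _ = x ^ n * x * y ^ n * (y * c ^ (n + a) * e ^ (n + a)) * e ^ a * d ^ a * (d ^ α * e ^ β) := by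
          rw [h.cpow_y]
      _ = x ^ (n+1) * y ^ (n+1) * c ^ (n + a) * (e ^ (n + a) * (e ^ a * (d ^ a * d ^ α))) * e ^ β := by
          rw [pow_succ x, pow_succ y]; simp only [mul_assoc]
      _ = x ^ (n+1) * y ^ (n+1) * c ^ (n + a) * ((d ^ a * d ^ α) * (e ^ (n + a) * e ^ a)) * e ^ β := by
          rw [← mul_assoc (e ^ (n+a)) (e ^ a), ((h.hd (e ^ (n + a) * e ^ a)).pow_left a |>.mul_left
            ((h.hd (e ^ (n + a) * e ^ a)).pow_left α)).eq]
      _ = x ^ (n+1) * y ^ (n+1) * c ^ ((n+1).choose 2) * d ^ ((n+1).choose 3) * e ^ (sqSum (n+1)) := by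
          rw [hch2, hch3, hsq, ← pow_add d, ← pow_add e]
          rw [show β + a + (n + a) = (n + a + a) + β by omega, pow_add e (n + a + a) β]
          simp only [mul_assoc]

theorem pow_eq_one_of_left (h : Coll x y c d e) {p : ℕ} (hp : p.Prime) (hp2 : p ≠ 2)
    (hx : x ^ p = 1) : c ^ p = 1 ∧ d ^ p = 1 ∧ e ^ p = 1 := by
  have hd : d ^ p = 1 := by
    have := h.c_xpow p
    rw [hx, mul_one, one_mul] at this
    exact (mul_eq_left.mp this.symm)
  have h2p : 2 < p := lt_of_le_of_ne hp.two_le (Ne.symm hp2)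
  have hdc : d ^ (p.choose 2) = 1 := by
    obtain ⟨k, hk⟩ := hp.dvd_choose_self (by norm_num : (2:ℕ) ≠ 0) h2p
    rw [hk, pow_mul, hd, one_pow]
  have hc : c ^ p = 1 := by
    have := h.y_xpow p
    rw [hx, mul_one, one_mul, hdc, mul_one] at this
    exact (mul_eq_left.mp this.symm)
  refine ⟨hc, hd, ?_⟩
  have := h.cpow_y p
  rw [hc, one_mul, mul_one] at this
  exact (mul_eq_left.mp this.symm)

theorem mul_pow_prime (h : Coll x y c d e) {p : ℕ} (hp : p.Prime)
    (hc : c ^ p = 1) (hd : d ^ p = 1) (he : e ^ p = 1)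
    (hcase : (p ≠ 2 ∧ d = 1 ∧ e = 1) ∨ 3 < p) : (x * y) ^ p = x ^ p * y ^ p := by
  rw [h.mul_pow_eq p]
  have hp2 : 2 < p := by
    rcases hcase with ⟨h2, -, -⟩ | h3
    · exact lt_of_le_of_ne hp.two_le (Ne.symm h2)
    · omega
  have hcc : c ^ (p.choose 2) = 1 := by
    obtain ⟨k, hk⟩ := hp.dvd_choose_self (by norm_num : (2:ℕ) ≠ 0) hp2
    rw [hk, pow_mul, hc, one_pow]
  have hdd : d ^ (p.choose 3) = 1 := by
    rcases hcase with ⟨-, h1, -⟩ | h3
    · rw [h1, one_pow]
    · obtain ⟨k, hk⟩ := hp.dvd_choose_self (by norm_num : (3:ℕ) ≠ 0) h3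
      rw [hk, pow_mul, hd, one_pow]
  have hee : e ^ (sqSum p) = 1 := by
    rcases hcase with ⟨-, -, h1⟩ | h3
    · rw [h1, one_pow]
    · obtain ⟨k, hk⟩ := prime_dvd_sqSum hp h3
      rw [hk, pow_mul, he, one_pow]
  rw [hcc, hdd, hee, mul_one, mul_one, mul_one]

end Coll

/-- the collection data attached to a pair of elements of a group of class at most three -/
theorem coll_of_class_three
    (hcl : ⁅⁅commutator R, (⊤ : Subgroup R)⁆, (⊤ : Subgroup R)⁆ = ⊥) (x y : R) :
    Coll x y ⁅y⁻¹, x⁻¹⁆ ⁅⁅y⁻¹, x⁻¹⁆⁻¹, x⁻¹⁆ ⁅⁅y⁻¹, x⁻¹⁆⁻¹, y⁻¹⁆ := by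
  have hcm : ⁅y⁻¹, x⁻¹⁆⁻¹ ∈ commutator R := by
    rw [commutator_def]
    exact inv_mem (Subgroup.commutator_mem_commutator (Subgroup.mem_top _) (Subgroup.mem_top _))
  have hcen : ∀ u ∈ ⁅commutator R, (⊤ : Subgroup R)⁆, ∀ g : R, Commute u g := by
    intro u hu g
    have : ⁅u, g⁆ ∈ ⁅⁅commutator R, (⊤ : Subgroup R)⁆, (⊤ : Subgroup R)⁆ :=
      Subgroup.commutator_mem_commutator hu (Subgroup.mem_top _)
    rw [hcl, Subgroup.mem_bot, commutatorElement_eq_one_iff_commute] at this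
    exact this
  refine ⟨?_, ?_, ?_, ?_, ?_⟩
  · simp only [commutatorElement_def]; group
  · simp only [commutatorElement_def]; group
  · simp only [commutatorElement_def]; group
  · exact hcen _ (Subgroup.commutator_mem_commutator hcm (Subgroup.mem_top _))
  · exact hcen _ (Subgroup.commutator_mem_commutator hcm (Subgroup.mem_top _))

/-- In a group of class at most two (`p` odd) or at most three (`p > 3`), elements of order
dividing `p` form a subgroup. -/
theorem pow_prime_eq_one_of_mem_closure {p : ℕ} (hp : p.Prime)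
    (hcl : (p ≠ 2 ∧ ⁅commutator R, (⊤ : Subgroup R)⁆ = ⊥) ∨
      (3 < p ∧ ⁅⁅commutator R, (⊤ : Subgroup R)⁆, (⊤ : Subgroup R)⁆ = ⊥))
    {g : R} (hg : g ∈ Subgroup.closure {x : R | x ^ p = 1}) : g ^ p = 1 := by
  have hcl3 : ⁅⁅commutator R, (⊤ : Subgroup R)⁆, (⊤ : Subgroup R)⁆ = ⊥ := by
    rcases hcl with ⟨-, h⟩ | ⟨-, h⟩
    · rw [h]; exact Subgroup.commutator_bot_left _
    · exact h
  have hp2 : p ≠ 2 := by
    rcases hcl with ⟨h, -⟩ | ⟨h, -⟩
    · exact h
    · omega
  induction hg using Subgroup.closure_induction with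
  | mem x hx => exact hx
  | one => exact one_pow _
  | mul x y _ _ hx hy =>
    have hC := coll_of_class_three hcl3 x y
    obtain ⟨hc, hd, he⟩ := hC.pow_eq_one_of_left hp hp2 hx
    have hcase : (p ≠ 2 ∧ ⁅⁅y⁻¹, x⁻¹⁆⁻¹, x⁻¹⁆ = 1 ∧ ⁅⁅y⁻¹, x⁻¹⁆⁻¹, y⁻¹⁆ = 1) ∨ 3 < p := by
      rcases hcl with ⟨h, h2⟩ | ⟨h, -⟩
      · left
        have hcm : ⁅y⁻¹, x⁻¹⁆⁻¹ ∈ commutator R := by
          rw [commutator_def]
          exact inv_mem (Subgroup.commutator_mem_commutator (Subgroup.mem_top _) (Subgroup.mem_top _))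
        refine ⟨h, ?_, ?_⟩
        · have : ⁅⁅y⁻¹, x⁻¹⁆⁻¹, x⁻¹⁆ ∈ ⁅commutator R, (⊤ : Subgroup R)⁆ :=
            Subgroup.commutator_mem_commutator hcm (Subgroup.mem_top _)
          rwa [h2, Subgroup.mem_bot] at this
        · have : ⁅⁅y⁻¹, x⁻¹⁆⁻¹, y⁻¹⁆ ∈ ⁅commutator R, (⊤ : Subgroup R)⁆ :=
            Subgroup.commutator_mem_commutator hcm (Subgroup.mem_top _)
          rwa [h2, Subgroup.mem_bot] at this
      · right; exact h
    rw [hC.mul_pow_prime hp hc hd he hcase, hx, hy, one_mul]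
  | inv x _ hx => rw [inv_pow, hx, inv_one]

/-- the `p`-th power map is multiplicative when moreover the derived subgroup lies in `Ω₁`. -/
theorem mul_pow_prime_of_class {p : ℕ} (hp : p.Prime)
    (hcl : (p ≠ 2 ∧ ⁅commutator R, (⊤ : Subgroup R)⁆ = ⊥) ∨
      (3 < p ∧ ⁅⁅commutator R, (⊤ : Subgroup R)⁆, (⊤ : Subgroup R)⁆ = ⊥))
    (hder : commutator R ≤ Subgroup.closure {x : R | x ^ p = 1}) (x y : R) :
    (x * y) ^ p = x ^ p * y ^ p := by
  have hcl3 : ⁅⁅commutator R, (⊤ : Subgroup R)⁆, (⊤ : Subgroup R)⁆ = ⊥ := by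
    rcases hcl with ⟨-, h⟩ | ⟨-, h⟩
    · rw [h]; exact Subgroup.commutator_bot_left _
    · exact h
  have hC := coll_of_class_three hcl3 x y
  have hcm : ⁅y⁻¹, x⁻¹⁆ ∈ commutator R := by
    rw [commutator_def]
    exact Subgroup.commutator_mem_commutator (Subgroup.mem_top _) (Subgroup.mem_top _)
  have hle : ⁅commutator R, (⊤ : Subgroup R)⁆ ≤ commutator R := by
    rw [commutator_def]
    exact Subgroup.commutator_le_left _ _
  have hdm : ⁅⁅y⁻¹, x⁻¹⁆⁻¹, x⁻¹⁆ ∈ ⁅commutator R, (⊤ : Subgroup R)⁆ :=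
    Subgroup.commutator_mem_commutator (inv_mem hcm) (Subgroup.mem_top _)
  have hem : ⁅⁅y⁻¹, x⁻¹⁆⁻¹, y⁻¹⁆ ∈ ⁅commutator R, (⊤ : Subgroup R)⁆ :=
    Subgroup.commutator_mem_commutator (inv_mem hcm) (Subgroup.mem_top _)
  have hc := pow_prime_eq_one_of_mem_closure hp hcl (hder hcm)
  have hd := pow_prime_eq_one_of_mem_closure hp hcl (hder (hle hdm))
  have he := pow_prime_eq_one_of_mem_closure hp hcl (hder (hle hem))
  have hcase : (p ≠ 2 ∧ ⁅⁅y⁻¹, x⁻¹⁆⁻¹, x⁻¹⁆ = 1 ∧ ⁅⁅y⁻¹, x⁻¹⁆⁻¹, y⁻¹⁆ = 1) ∨ 3 < p := by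
    rcases hcl with ⟨h, h2⟩ | ⟨h, -⟩
    · left
      refine ⟨h, ?_, ?_⟩
      · rwa [h2, Subgroup.mem_bot] at hdm
      · rwa [h2, Subgroup.mem_bot] at hem
    · right; exact h
  exact hC.mul_pow_prime hp hc hd he hcase

end Cfsg.Agent.Helper30
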