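import Mathlib
import Cfsg.Agent.Helper77.Blk.Defs

/-!
helper30 for helper77 (S3888 Blackburn, farm #13307): piece (CHAIN) `chain_conj` of
`tools/helper77_blk/Skel.lean.txt`: conjugation by `x^k` along a chain `u2 → u1 → f → g`.
-/

set_option autoImplicit false
set_option linter.unusedVariables false

universe u

namespace Cfsg.Agent.Helper30.Blk

open Subgroup Cfsg.Agent.Helper77.Blk

/-- (CHAIN) If `x` conjugates `u2 ↦ u2*u1`, `u1 ↦ u1*f`, `f ↦ f*g`, `g ↦ g` and `u1, f, g` commute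
pairwise, then `x^k` conjugates `u2` to `u2 * u1^k * f^C(k,2) * g^C(k,3)`. -/
theorem chain_conj {G : Type u} [Group G] (x u2 u1 f g : G)
    (h2 : x⁻¹ * u2 * x = u2 * u1) (h1 : x⁻¹ * u1 * x = u1 * f) (hf : x⁻¹ * f * x = f * g)
    (hg : x⁻¹ * g * x = g) (c1 : u1 * f = f * u1) (c2 : u1 * g = g * u1) (c3 : f * g = g * f) (k : ℕ) :
    (x ^ k)⁻¹ * u2 * x ^ k = u2 * u1 ^ k * f ^ (k.choose 2) * g ^ (k.choose 3) := by
  induction k with
  | zero => simp
  | succ k ih =>
    have hconj : ∀ y z : G, x⁻¹ * (y * z) * x = (x⁻¹ * y * x) * (x⁻¹ * z * x) := by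
      intro y z
      group
    have hpow : ∀ (y : G) (n : ℕ), x⁻¹ * y ^ n * x = (x⁻¹ * y * x) ^ n := by
      intro y n
      induction n with
      | zero => simp
      | succ n ihn => rw [pow_succ, pow_succ, hconj, ihn]
    have e : (x ^ (k + 1))⁻¹ * u2 * x ^ (k + 1) = x⁻¹ * ((x ^ k)⁻¹ * u2 * x ^ k) * x := by
      rw [pow_succ]
      group
    have C1 : Commute u1 f := c1
    have C3 : Commute f g := c3
    rw [e, ih, hconj, hconj, hconj, hpow, hpow, hpow, h2, h1, hf, hg, C1.mul_pow, C3.mul_pow,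
      Nat.choose_succ_succ' k 1, Nat.choose_succ_succ' k 2, Nat.choose_one_right, pow_succ' u1,
      pow_add, pow_add]
    simp only [mul_assoc]

end Cfsg.Agent.Helper30.Blk
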