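import Cfsg.Agent.Helper16.DT.Defs
import Cfsg.Agent.S0901

/-!
helper30 for helper16 (DT farm #13881): leaves (TEI) `teich_zero`, `teich_mk_root`, `teich_spec` of
`tools/helper16_dt/Skel.lean.txt`: the Teichmüller lift, from the landed S0901.
-/

set_option autoImplicit false
set_option linter.unusedSectionVars false
set_option linter.unusedVariables false

namespace Cfsg.Agent.Helper30.DT

open Cfsg Cfsg.Agent.Helper16 Cfsg.Agent.Helper16.DT Polynomial Matrix

universe u v w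

/-- (TEI) the Teichmüller lift of zero: a root of unity is a unit of `AlgInt`, so not in `M`. -/
theorem teich_zero (p : ℕ) (M : Ideal AlgInt) [hMax : M.IsMaximal] : teich p M 0 = 0 := by
  classical
  unfold teich
  rw [dif_neg]
  rintro ⟨x, ⟨m, hm, hxm⟩, hx0⟩
  have hxM : x ∈ M := Ideal.Quotient.eq_zero_iff_mem.1 hx0
  have hm0 : m ≠ 0 := by
    rintro rfl
    exact hm (dvd_zero p)
  have hx1 : x ^ m = 1 := by
    apply Subtype.ext
    push_cast
    exact hxm
  have h1 : (1 : AlgInt) ∈ M := by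
    rw [← hx1]
    exact Ideal.pow_mem_of_mem M hxM m (Nat.pos_of_ne_zero hm0)
  exact hMax.ne_top ((Ideal.eq_top_iff_one M).2 h1)

/-- (TEI) the Teichmüller lift of the residue of a root of unity of order prime to `p`. -/
theorem teich_mk_root {p : ℕ} [Fact p.Prime] {M : Ideal AlgInt} [hMax : M.IsMaximal]
    (hpM : (p : AlgInt) ∈ M) {x : AlgInt} (hx : IsPPrimeRoot p (x : ℂ)) :
    teich p M (Ideal.Quotient.mk M x) = (x : ℂ) := by
  classical
  have h : ∃ x' : AlgInt, IsPPrimeRoot p (x' : ℂ) ∧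
      Ideal.Quotient.mk M x' = Ideal.Quotient.mk M x := ⟨x, hx, rfl⟩
  unfold teich
  rw [dif_pos h]
  obtain ⟨h1, h2⟩ := h.choose_spec
  have hM : IsPModular p M := ⟨Fact.out, hMax, hpM⟩
  have hinj := (Cfsg.Agent.S0901.result p M hM).1 h.choose x h1 hx (Ideal.Quotient.eq.1 h2)
  rw [hinj]

/-- (TEI) the Teichmüller lift of a nonzero residue. -/
theorem teich_spec {p : ℕ} [Fact p.Prime] {M : Ideal AlgInt} [hMax : M.IsMaximal]
    (hpM : (p : AlgInt) ∈ M) {y : AlgInt ⧸ M} (hy : y ≠ 0) :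
    ∃ x : AlgInt, IsPPrimeRoot p (x : ℂ) ∧ Ideal.Quotient.mk M x = y ∧ teich p M y = (x : ℂ) := by
  classical
  obtain ⟨a, rfl⟩ := Ideal.Quotient.mk_surjective y
  have haM : a ∉ M := fun h => hy (Ideal.Quotient.eq_zero_iff_mem.2 h)
  have hM : IsPModular p M := ⟨Fact.out, hMax, hpM⟩
  obtain ⟨ε, hε, hεM⟩ := (Cfsg.Agent.S0901.result p M hM).2 a haM
  have hmk : Ideal.Quotient.mk M ε = Ideal.Quotient.mk M a :=
    (Ideal.Quotient.eq.2 hεM).symm
  refine ⟨ε, hε, hmk, ?_⟩
  rw [← hmk]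
  exact teich_mk_root hpM hε

end Cfsg.Agent.Helper30.DT
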