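import Cfsg.Agent.Helper16.DT.Defs
import Cfsg.Agent.Helper30.DT_TEI

/-!
helper30 for helper16 (DT farm #13881): leaf (RED) `brauerFull_redRep` of
`tools/helper16_dt/Skel.lean.txt`: on `p`-regular elements the lifted trace function of the reduction
of a representation over the local ring is its complex trace.
-/

set_option autoImplicit false
set_option linter.unusedSectionVars false
set_option linter.unusedVariables false

namespace Cfsg.Agent.Helper30.DT

open Cfsg Cfsg.Agent.Helper16 Cfsg.Agent.Helper16.DT Polynomial Matrix

universe u v w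

section Res

variable {p : ℕ} [Fact p.Prime] {M : Ideal AlgInt} [M.IsMaximal] {G : Type u} [Group G]

/-- the inclusion of the algebraic integers in the local ring -/
noncomputable def RED_incl (M : Ideal AlgInt) [M.IsMaximal] (x : AlgInt) : Rloc M :=
  ⟨(x : ℂ), memLocalRing_algInt x⟩

theorem RED_res_incl (x : AlgInt) : res M (RED_incl M x) = Ideal.Quotient.mk M x :=
  resC_algInt x

/-- (RED) on `p`-regular elements, the lifted trace function of the reduction of a representation
over the local ring is its complex trace. -/
theorem brauerFull_redRep (hpM : (p : AlgInt) ∈ M) {ι : Type w} [Fintype ι] [DecidableEq ι]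
    (A : G →* Matrix ι ι (Rloc M)) (g : G) (hg : IsPRegular p g) :
    brauerFull p M (redRep A) g = cplxTrace A g := by
  classical
  have hg' : ¬ p ∣ orderOf g := hg
  have hm0 : orderOf g ≠ 0 := by
    intro h
    apply hg'
    rw [h]
    exact dvd_zero p
  obtain ⟨m, hm⟩ : ∃ m, m = orderOf g := ⟨_, rfl⟩
  rw [← hm] at hm0 hg'
  have hgm : g ^ m = 1 := by rw [hm]; exact pow_orderOf_eq_one g
  -- the complex matrix
  obtain ⟨B, hBdef⟩ : ∃ B : Matrix ι ι ℂ, B = cplxRep A g := ⟨_, rfl⟩
  have hB : B = (A g).map (Rloc M).subtype := hBdef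
  have hBm : B ^ m = 1 := by
    rw [hBdef, ← map_pow, hgm, map_one]
  -- its eigenvalues are `m`-th roots of unity
  have hroot : ∀ r ∈ B.charpoly.roots, r ^ m = 1 := by
    intro r hr
    have hr' : IsRoot B.charpoly r := isRoot_of_mem_roots hr
    rcases isEmpty_or_nonempty ι with hι | hι
    · exfalso
      have h1 : B.charpoly = 1 := by
        unfold Matrix.charpoly
        exact Matrix.det_isEmpty
      rw [h1] at hr
      simp at hr
    · have hsp : r ∈ spectrum ℂ B := Matrix.mem_spectrum_iff_isRoot_charpoly.2 hr'
      have h2 := spectrum.pow_mem_pow B m hsp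
      rw [hBm, spectrum.one_eq] at h2
      exact h2
  have hint : ∀ r ∈ B.charpoly.roots, r ∈ AlgInt := by
    intro r hr
    refine ⟨X ^ m - C 1, monic_X_pow_sub_C 1 hm0, ?_⟩
    simp [hroot r hr]
  -- lift the eigenvalues to the algebraic integers
  obtain ⟨S', hS'⟩ : ∃ S' : Multiset AlgInt, S'.map (fun x : AlgInt => (x : ℂ)) = B.charpoly.roots := by
    refine ⟨B.charpoly.roots.pmap (fun r hr => (⟨r, hr⟩ : AlgInt)) hint, ?_⟩
    rw [Multiset.map_pmap]
    simp only [Multiset.pmap_eq_map, Multiset.map_id']
  have hS'root : ∀ x ∈ S', IsPPrimeRoot p (x : ℂ) := by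
    intro x hx
    have : (x : ℂ) ∈ B.charpoly.roots := by
      rw [← hS']
      exact Multiset.mem_map_of_mem _ hx
    exact ⟨m, hg', hroot _ this⟩
  -- the characteristic polynomial over the local ring
  have hsplit : B.charpoly = (B.charpoly.roots.map (fun r => X - C r)).prod :=
    (IsAlgClosed.splits B.charpoly).eq_prod_roots_of_monic (Matrix.charpoly_monic B)
  have hq : (A g).charpoly = ((S'.map (RED_incl M)).map (fun t => X - C t)).prod := by
    apply Polynomial.map_injective (Rloc M).subtype Subtype.val_injective
    rw [← Matrix.charpoly_map, ← hB, hsplit, Polynomial.map_multiset_prod, ← hS']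
    simp only [Multiset.map_map, Function.comp_def, Polynomial.map_sub, Polynomial.map_X,
      Polynomial.map_C]
    rfl
  -- reduce modulo `M`
  have hred : (redRep A g).charpoly = ((S'.map (Ideal.Quotient.mk M)).map (fun t => X - C t)).prod := by
    have h1 : redRep A g = (A g).map (res M) := rfl
    rw [h1, Matrix.charpoly_map, hq, Polynomial.map_multiset_prod]
    simp only [Multiset.map_map, Function.comp_def, Polynomial.map_sub, Polynomial.map_X,
      Polynomial.map_C, RED_res_incl]
  have hroots : (redRep A g).charpoly.roots = S'.map (Ideal.Quotient.mk M) := by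
    rw [hred, roots_multiset_prod_X_sub_C]
  -- conclude
  show bfull p M (redRep A g) = (cplxRep A g).trace
  unfold bfull
  rw [hroots, Multiset.map_map, ← hBdef, Matrix.trace_eq_sum_roots_charpoly B, ← hS']
  congr 1
  apply Multiset.map_congr rfl
  intro x hx
  exact teich_mk_root hpM (hS'root x hx)

end Res

end Cfsg.Agent.Helper30.DT
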