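import Mathlib
import Cfsg.Agent.Helper5.OmBN.Defs

/-!
# (MEMXI) of helper5's S2549 farm (#11691): the root elements `xMat a b t` (outer positions) are isometries of `Qm α β`
-/

set_option autoImplicit false
set_option linter.unusedSectionVars false
set_option linter.unusedVariables false
set_option linter.unusedSimpArgs false

namespace Cfsg.Agent.Helper30.OmBN

open Matrix Cfsg.Agent.Helper5.OmBN

variable {F : Type*} [Field F] {m : ℕ} {α β : F}

theorem memxi_polar_sum (a b : Fin (2 * m + 2)) (t : F) (p r : Fin (2 * m + 2)) :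
    ∑ i, xMat a b t i p * xMat a b t (Fin.rev i) r =
      xMat a b t (Fin.rev p) r + (if b = p then t * xMat a b t (Fin.rev a) r else 0)
        - (if Fin.rev a = p then t * xMat a b t b r else 0) := by
  rw [Finset.sum_congr rfl (fun i _ => by rw [xMat_apply a b t i p])]
  simp only [add_mul, sub_mul, Finset.sum_add_distrib, Finset.sum_sub_distrib, ite_and, ite_mul,
    zero_mul, one_mul, Finset.sum_ite_eq, Finset.sum_ite_eq', Finset.mem_univ, if_true, Fin.rev_rev]

theorem memxi_rev_ne (a : Fin (2 * m + 2)) : Fin.rev a ≠ a := by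
  intro h
  have := congrArg Fin.val h
  rw [val_rev] at this
  have := a.2
  omega

theorem memxi_row_c1 (a b : Fin (2 * m + 2)) (ha1 : a ≠ c1) (hb2 : b ≠ c2) (t : F)
    (s : Fin (2 * m + 2)) : xMat a b t c1 s = if c1 = s then 1 else 0 := by
  rw [xMat_apply, if_neg (c := a = c1 ∧ b = s) (fun h => ha1 h.1),
    if_neg (c := Fin.rev b = c1 ∧ Fin.rev a = s)
      (fun h => hb2 (by rw [← rev_c1, ← h.1, Fin.rev_rev])), add_zero, sub_zero]

theorem memxi_row_c2 (a b : Fin (2 * m + 2)) (ha2 : a ≠ c2) (hb1 : b ≠ c1) (t : F)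
    (s : Fin (2 * m + 2)) : xMat a b t c2 s = if c2 = s then 1 else 0 := by
  rw [xMat_apply, if_neg (c := a = c2 ∧ b = s) (fun h => ha2 h.1),
    if_neg (c := Fin.rev b = c2 ∧ Fin.rev a = s)
      (fun h => hb1 (by rw [← rev_c2, ← h.1, Fin.rev_rev])), add_zero, sub_zero]

theorem memxi_full_sum (a b : Fin (2 * m + 2)) (hab : a ≠ b) (hab' : a ≠ Fin.rev b) (t : F)
    (p r : Fin (2 * m + 2)) :
    ∑ i, xMat a b t i p * xMat a b t (Fin.rev i) r = if p = Fin.rev r then 1 else 0 := by
  have row1 : xMat a b t (Fin.rev a) r = if Fin.rev a = r then 1 else 0 := by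
    rw [xMat_apply, if_neg (c := a = Fin.rev a ∧ b = r) (fun h => memxi_rev_ne a h.1.symm),
      if_neg (c := Fin.rev b = Fin.rev a ∧ Fin.rev a = r) (fun h => hab (Fin.rev_inj.1 h.1).symm),
      add_zero, sub_zero]
  have row2 : xMat a b t b r = if b = r then 1 else 0 := by
    rw [xMat_apply, if_neg (c := a = b ∧ b = r) (fun h => hab h.1),
      if_neg (c := Fin.rev b = b ∧ Fin.rev a = r) (fun h => memxi_rev_ne b h.1), add_zero, sub_zero]
  have e1 : (a = Fin.rev p) = (Fin.rev a = p) :=
    propext ⟨fun h => by rw [h, Fin.rev_rev], fun h => by rw [← h, Fin.rev_rev]⟩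
  have e2 : (Fin.rev b = Fin.rev p) = (b = p) := propext Fin.rev_inj
  have e3 : (Fin.rev p = r) = (p = Fin.rev r) :=
    propext ⟨fun h => by rw [← h, Fin.rev_rev], fun h => by rw [h, Fin.rev_rev]⟩
  rw [memxi_polar_sum, row1, row2, xMat_apply]
  simp only [e1, e2, e3, ite_and, mul_ite, mul_one, mul_zero]
  ring

/-- (MEMXI) the root elements are isometries -/
theorem xMat_isO (a b : Fin (2 * m + 2)) (ha1 : a ≠ c1) (ha2 : a ≠ c2) (hb1 : b ≠ c1) (hb2 : b ≠ c2)
    (hab : a ≠ b) (hab' : a ≠ Fin.rev b) (t : F) : IsO α β (xMat a b t) := by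
  have ha := a.2
  have hb := b.2
  have hc1 := memxi_row_c1 a b ha1 hb2 t
  have hc2 := memxi_row_c2 a b ha2 hb1 t
  constructor
  · intro s
    have hs := s.2
    have h0 : ∑ i : Fin m, xMat a b t (lo i) s * xMat a b t (hi i) s = 0 := by
      apply Finset.sum_eq_zero
      intro i _
      have hi' := i.2
      rw [← rev_lo, xMat_apply, xMat_apply]
      have hx := (lo i).2
      have hx' : (lo i).val < m := by rw [val_lo]; exact hi'
      generalize lo i = x at hx hx' ⊢
      split_ifs <;>
        first
        | ring1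
        | (exfalso; simp only [Fin.ext_iff, val_rev, val_c1, val_c2, ne_eq, not_and] at *; omega)
    rw [h0, hc1, hc2, zero_add]
    unfold Nf qd
    by_cases h1 : s = c1
    · subst h1
      rw [if_pos rfl, if_neg c1_ne_c2.symm, if_pos rfl]
      ring
    · by_cases h2 : s = c2
      · subst h2
        rw [if_neg c1_ne_c2, if_pos rfl, if_neg h1, if_pos rfl]
        ring
      · rw [if_neg (Ne.symm h1), if_neg (Ne.symm h2), if_neg h1, if_neg h2]
        ring
  · intro p r
    have hsum := memxi_full_sum a b hab hab' t p r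
    rw [sum_split (fun x => xMat a b t x p * xMat a b t (Fin.rev x) r)] at hsum
    simp only [rev_lo, rev_hi, rev_c1, rev_c2] at hsum
    have hsum' : ∑ i : Fin m, (xMat a b t (lo i) p * xMat a b t (hi i) r +
        xMat a b t (hi i) p * xMat a b t (lo i) r) =
        (if p = Fin.rev r then 1 else 0) -
          (xMat a b t c1 p * xMat a b t c2 r + xMat a b t c2 p * xMat a b t c1 r) := by
      rw [← hsum]; ring
    rw [hsum', hc1, hc2, hc1, hc2]
    unfold Nb Jm
    have e3 : (p = Fin.rev r) = (r = Fin.rev p) :=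
      propext ⟨fun h => by rw [h, Fin.rev_rev], fun h => by rw [h, Fin.rev_rev]⟩
    simp only [e3]
    have hcc : (c1 : Fin (2 * m + 2)) ≠ c2 := c1_ne_c2
    have hcc' : (c2 : Fin (2 * m + 2)) ≠ c1 := c1_ne_c2.symm
    by_cases hp1 : p = c1
    · subst hp1
      by_cases hr1 : r = c1
      · subst hr1
        simp only [rev_c1, eq_self_iff_true, if_true, if_false, if_neg hcc, if_neg hcc']
        ring
      · by_cases hr2 : r = c2
        · subst hr2
          simp only [rev_c1, eq_self_iff_true, if_true, if_false, if_neg hcc, if_neg hcc']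
          ring
        · simp only [rev_c1, eq_self_iff_true, if_true, if_false, if_neg hcc, if_neg hcc', if_neg hr1, if_neg hr2,
            if_neg (Ne.symm hr1), if_neg (Ne.symm hr2)]
          ring
    · by_cases hp2 : p = c2
      · subst hp2
        by_cases hr1 : r = c1
        · subst hr1
          simp only [rev_c2, eq_self_iff_true, if_true, if_false, if_neg hcc, if_neg hcc']
          ring
        · by_cases hr2 : r = c2
          · subst hr2
            simp only [rev_c2, eq_self_iff_true, if_true, if_false, if_neg hcc, if_neg hcc']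
            ring
          · simp only [rev_c2, eq_self_iff_true, if_true, if_false, if_neg hcc, if_neg hcc', if_neg hr1, if_neg hr2,
              if_neg (Ne.symm hr1), if_neg (Ne.symm hr2)]
            ring
      · simp only [if_neg hp1, if_neg hp2, if_neg (Ne.symm hp1), if_neg (Ne.symm hp2)]
        ring

end Cfsg.Agent.Helper30.OmBN
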