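import Mathlib
import Cfsg.Agent.Helper5.OmBN.Defs

/-!
# (S2) of helper5's S2549 farm (#11691): a block upper triangular product of two representatives of simple
reflections comes from the same reflection
-/

set_option autoImplicit false
set_option linter.unusedSectionVars false
set_option linter.unusedVariables false
set_option linter.unusedSimpArgs false

namespace Cfsg.Agent.Helper30.OmBN

open Matrix Cfsg.Agent.Helper5.OmBN

variable {F : Type*} [Field F] {m : ℕ} {α β : F}

/-- the permutation of the positions underlying `sMat α k` on the columns other than `c2` -/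
def s2Tau (k : Fin m) : Equiv.Perm (Fin (2 * m + 2)) :=
  if k.val + 1 < m then sPerm k else Equiv.swap (lo k) (hi k)

theorem s2_sMat_apply (k : Fin m) (r j : Fin (2 * m + 2)) (hj : j ≠ c2) :
    sMat α k r j = if r = s2Tau k j then 1 else 0 := by
  by_cases hk : k.val + 1 < m
  · rw [sMat_of_lt α k hk, pMat_apply]
    unfold s2Tau
    rw [if_pos hk]
  · have hk' : k.val + 1 = m := by have := k.2; omega
    rw [sMat_of_eq α k hk', sVMat_apply, if_neg hj]
    unfold s2Tau
    rw [if_neg hk]

theorem s2_mul_apply (k k' : Fin m) (r j : Fin (2 * m + 2)) (hj : j ≠ c2)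
    (hj' : s2Tau k' j ≠ c2) :
    (sMat α k * sMat α k') r j = if r = s2Tau k (s2Tau k' j) then 1 else 0 := by
  rw [Matrix.mul_apply, Finset.sum_eq_single (s2Tau k' j)]
  · rw [s2_sMat_apply k' _ j hj, if_pos rfl, mul_one, s2_sMat_apply k r _ hj']
  · intro x _ hx
    rw [s2_sMat_apply k' x j hj, if_neg hx, mul_zero]
  · intro h; exact absurd (Finset.mem_univ _) h

theorem s2_val_tau (k : Fin m) (j : Fin (2 * m + 2)) : (s2Tau k j).val =
    if k.val + 1 < m then
      (if j.val = k.val then k.val + 1 else if j.val = k.val + 1 then k.val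
        else if j.val = 2 * m - k.val then 2 * m + 1 - k.val
        else if j.val = 2 * m + 1 - k.val then 2 * m - k.val else j.val)
    else (if j.val = k.val then 2 * m + 1 - k.val
        else if j.val = 2 * m + 1 - k.val then k.val else j.val) := by
  by_cases hk : k.val + 1 < m
  · unfold s2Tau
    rw [if_pos hk, if_pos hk, val_sPerm k hk]
  · unfold s2Tau
    rw [if_neg hk, if_neg hk]
    have hj := j.2
    have hk2 := k.2
    simp only [Equiv.swap_apply_def, eq_iff_val_eq, val_lo, val_hi, apply_ite Fin.val]

/-- (S2) a product of two representatives which is block upper triangular: the same reflection -/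
theorem eq_of_mul_mem_Bfull (k k' : Fin m) (s s' : OG m α β) (hs : mat s = sMat α k)
    (hs' : mat s' = sMat α k') (h : s * s' ∈ Bfull m α β) : k = k' := by
  by_contra hkk
  have hk2 := k.2
  have hk2' := k'.2
  have hne : k.val ≠ k'.val := fun h => hkk (Fin.ext h)
  have key : ∀ j : Fin (2 * m + 2), j ≠ c2 → s2Tau k' j ≠ c2 →
      ¬ (pos j < pos (s2Tau k (s2Tau k' j))) := by
    intro j hj hj' hlt
    have h0 := (mem_Bfull_iff _).1 h _ _ hlt
    rw [mat_mul, hs, hs', s2_mul_apply k k' _ j hj hj', if_pos rfl] at h0
    exact one_ne_zero h0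
  rcases lt_or_gt_of_ne hne with hlt | hgt
  · have h1 : (s2Tau k' (lo k)).val = k.val := by
      rw [s2_val_tau, val_lo]
      split_ifs <;> omega
    have h2 : (s2Tau k (s2Tau k' (lo k))).val = k.val + 1 := by
      rw [s2_val_tau, h1]
      split_ifs <;> omega
    apply key (lo k)
    · exact lo_ne_c2 k
    · rw [Ne, eq_iff_val_eq, h1, val_c2]
      omega
    · unfold pos
      rw [h2, val_lo]
      split_ifs <;> omega
  · have h1 : (s2Tau k' (lo k')).val = k'.val + 1 := by
      rw [s2_val_tau, val_lo]
      split_ifs <;> omega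
    have h2 := s2_val_tau k (s2Tau k' (lo k'))
    rw [h1] at h2
    apply key (lo k')
    · exact lo_ne_c2 k'
    · rw [Ne, eq_iff_val_eq, h1, val_c2]
      omega
    · unfold pos
      rw [h2, val_lo]
      split_ifs <;> omega

end Cfsg.Agent.Helper30.OmBN
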