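import Cfsg.Agent.Helper16.PC.Defs
import Cfsg.Agent.Helper16.Valuation

/-!
# (IVd) of helper16's S4427 farm (#12085): an integer of the form `p^a (1 - y)` with `y` in the local
ideal has absolute value at least `p^a`
-/

set_option autoImplicit false
set_option linter.unusedSectionVars false
set_option linter.unusedVariables false

namespace Cfsg.Agent.Helper30.PC

open Cfsg Cfsg.Agent.Helper16 Polynomial
open scoped ComplexConjugate

variable {M : Ideal AlgInt} {p : ℕ}

/-- (IVd) an integer of the form `p^a (1 - y)` with `y` in the local ideal has absolute value at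
least `p^a`. -/
theorem PC_IVd [Fact p.Prime] (hM : IsPModular p M) (N : ℤ) (a : ℕ) (y : ℂ)
    (hy : MemLocalIdeal M y) (h : (N : ℂ) = (p : ℂ) ^ a * (1 - y)) : ((p ^ a : ℕ) : ℤ) ≤ |N| := by
  have hp : p.Prime := Fact.out
  have hMp : M.IsPrime := IsPModular.isPrime hM
  have hpC : (p : ℂ) ≠ 0 := Nat.cast_ne_zero.2 hp.ne_zero
  have hN0 : N ≠ 0 := by
    rintro rfl
    rw [Int.cast_zero] at h
    have h1 : (1 : ℂ) - y = 0 := by
      rcases mul_eq_zero.1 h.symm with h' | h'
      · exact absurd h' (pow_ne_zero a hpC)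
      · exact h'
    have h2 : y = 1 := by linear_combination -h1
    rw [h2] at hy
    exact not_memLocalIdeal_one hy
  have hn0 : N.natAbs ≠ 0 := Int.natAbs_ne_zero.2 hN0
  obtain ⟨n', hn', hneq⟩ := exists_pow_mul_factorization (p := p) hn0
  rw [← Int.natCast_natAbs]
  norm_cast
  by_contra hlt
  push Not at hlt
  have hn'pos : 0 < n' := Nat.pos_of_ne_zero (fun h0 => hn' (h0 ▸ dvd_zero p))
  have hja : N.natAbs.factorization p < a := by
    by_contra hge
    push Not at hge
    have h1 : p ^ a ≤ p ^ N.natAbs.factorization p := Nat.pow_le_pow_right hp.pos hge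
    have h2 : p ^ N.natAbs.factorization p ≤ N.natAbs := by
      conv_rhs => rw [hneq]
      exact Nat.le_mul_of_pos_right _ hn'pos
    omega
  have hε : ∃ ε : ℂ, (ε = 1 ∨ ε = -1) ∧ (N : ℂ) = ε * (N.natAbs : ℂ) := by
    rcases Int.natAbs_eq N with h1 | h1
    · refine ⟨1, Or.inl rfl, ?_⟩
      rw [one_mul, ← Int.cast_natCast (R := ℂ) N.natAbs, ← h1]
    · refine ⟨-1, Or.inr rfl, ?_⟩
      rw [neg_one_mul, ← Int.cast_natCast (R := ℂ) N.natAbs, ← Int.cast_neg, ← h1]
  obtain ⟨ε, hε, hNε⟩ := hε
  have hkey : ε * (n' : ℂ) = (p : ℂ) ^ (a - N.natAbs.factorization p) * (1 - y) := by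
    have h1 : (p : ℂ) ^ N.natAbs.factorization p * (ε * (n' : ℂ)) =
        (p : ℂ) ^ N.natAbs.factorization p *
          ((p : ℂ) ^ (a - N.natAbs.factorization p) * (1 - y)) := by
      rw [← mul_assoc _ ((p : ℂ) ^ (a - N.natAbs.factorization p)), ← pow_add,
        Nat.add_sub_cancel' hja.le, ← h, hNε]
      conv_rhs => rw [hneq]
      push_cast
      ring
    exact mul_left_cancel₀ (pow_ne_zero _ hpC) h1
  have hmem : MemLocalIdeal M (ε * (n' : ℂ)) := by
    rw [hkey]
    exact memLocalIdeal_mul_right (memLocalIdeal_pow_prime hM (by omega))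
      (memLocalRing_sub memLocalRing_one (memLocalIdeal_memLocalRing hy))
  have hmem' : MemLocalIdeal M (n' : ℂ) := by
    rcases hε with rfl | rfl
    · simpa using hmem
    · have := memLocalIdeal_neg hmem
      simpa using this
  exact not_memLocalIdeal_natCast hM hn' hmem'

end Cfsg.Agent.Helper30.PC
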