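import Mathlib
import Cfsg.Agent.Helper77.Blk.Defs
import Cfsg.Agent.Helper67.ClassTwo

/-!
helper30 for helper77 (S3888 Blackburn, farm #13307): piece (K2) `propK2` of
`tools/helper77_blk/Skel.lean.txt`: on `{u | (u^p)^p = 1}` the `p`-power map of a `p`-central
`p`-group is multiplicative, given (K).
-/

set_option autoImplicit false

universe u

namespace Cfsg.Agent.Helper30.Blk

open Subgroup Cfsg.Agent.Helper77.Blk

section pcentral
variable {p : ℕ} [hp : Fact p.Prime]

/-- (K2) consequence of (K): on `{u | (u^p)^p = 1}` the `p`-power map is multiplicative. -/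
theorem propK2 (hp2 : p ≠ 2) (hK : PropK.{u} p) : PropK2.{u} p := by
  intro C _ _ hC hPC a b ha hb
  have hbinv : ((b⁻¹) ^ p) ^ p = 1 := by
    rw [inv_pow, inv_pow, hb, inv_one]
  have hz := hK C hC hPC b⁻¹ a⁻¹ hbinv
  rw [inv_inv, inv_inv] at hz
  have hzc := hPC _ hz
  rw [Subgroup.mem_center_iff] at hzc
  have hrel : b * a = (b * a * b⁻¹ * a⁻¹) * (a * b) := by group
  have h1 := Cfsg.Agent.Helper67.mul_pow_of_commutator_commute hrel (hzc a).symm (hzc b).symm p
  have hpp : p ∣ p.choose 2 := by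
    apply hp.out.dvd_choose_self (by norm_num)
    have := hp.out.two_le
    omega
  obtain ⟨t, ht⟩ := hpp
  rw [h1, ht, pow_mul, hz, one_pow, one_mul]

end pcentral

end Cfsg.Agent.Helper30.Blk
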