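import Mathlib
import Cfsg.Agent.Helper44.CliffDefs
import Cfsg.Agent.Helper48.CliffC4
import Cfsg.Agent.Helper75.CliffC5

/-! Piece (L3) of S3084 (for helper44): the algebra endomorphism of `Mat_{2^n}(ZMod 3)` attached to a
second Pauli system. -/

set_option autoImplicit false

namespace Cfsg.Agent.Helper30.Cliff

open Matrix Cfsg.Agent.Helper44.Cliff

variable {n : ℕ}

theorem two_pow_ne_zero (n : ℕ) : (2 : ZMod 3) ^ n ≠ 0 := pow_ne_zero n (by decide)

/-- the coefficient functional `M ↦ tr (M * (T u)ᵀ)` -/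
noncomputable def coef (u : U0 n) : Matrix (X n) (X n) (ZMod 3) →ₗ[ZMod 3] ZMod 3 :=
  (Matrix.traceLinearMap (X n) (ZMod 3) (ZMod 3)).comp (LinearMap.mulRight (ZMod 3) (T u)ᵀ)

theorem coef_apply (u : U0 n) (M : Matrix (X n) (X n) (ZMod 3)) :
    coef u M = Matrix.trace (M * (T u)ᵀ) := rfl

/-- (L3) the algebra endomorphism attached to a second Pauli system. -/
theorem exists_algEnd (T' : U0 n → Matrix (X n) (X n) (ZMod 3)) (h0 : T' 0 = 1)
    (hmul : ∀ u v, T' u * T' v = sg (bet u v) • T' (u + v)) :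
    ∃ Φ : Matrix (X n) (X n) (ZMod 3) →ₗ[ZMod 3] Matrix (X n) (X n) (ZMod 3),
      Φ 1 = 1 ∧ (∀ M N, Φ (M * N) = Φ M * Φ N) ∧ ∀ u, Φ (T u) = T' u := by
  classical
  set c : ZMod 3 := ((2 : ZMod 3) ^ n)⁻¹ with hc
  have hc1 : c * (2 : ZMod 3) ^ n = 1 := inv_mul_cancel₀ (two_pow_ne_zero n)
  let Φ : Matrix (X n) (X n) (ZMod 3) →ₗ[ZMod 3] Matrix (X n) (X n) (ZMod 3) :=
    c • ∑ u : U0 n, (coef u).smulRight (T' u)
  have hΦ : ∀ M, Φ M = c • ∑ u : U0 n, Matrix.trace (M * (T u)ᵀ) • T' u := by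
    intro M
    simp only [Φ, LinearMap.smul_apply, LinearMap.sum_apply, LinearMap.smulRight_apply, coef_apply]
  -- every matrix is a combination of the `T u`
  have hdec : ∀ M : Matrix (X n) (X n) (ZMod 3),
      M = ∑ u : U0 n, (c * Matrix.trace (M * (T u)ᵀ)) • T u := by
    intro M
    have h := Cfsg.Agent.Helper48.Cliff.completeness M
    have h2 : M = c • ((2 : ZMod 3) ^ n • M) := by rw [smul_smul, hc1, one_smul]
    rw [h] at h2
    rw [Finset.smul_sum] at h2
    simp only [smul_smul] at h2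
    exact h2
  have hT : ∀ v, Φ (T v) = T' v := by
    intro v
    rw [hΦ]
    simp only [Cfsg.Agent.Helper75.Cliff.trace_T_mul_transpose]
    rw [Finset.sum_eq_single v]
    · rw [if_pos rfl, smul_smul, hc1, one_smul]
    · intro u _ huv
      rw [if_neg huv, zero_smul]
    · intro h; exact absurd (Finset.mem_univ _) h
  have hTT : ∀ u v, Φ (T u * T v) = T' u * T' v := by
    intro u v
    rw [T_mul, map_smul, hT, hmul]
  have hsum : ∀ (a : U0 n → ZMod 3), Φ (∑ u, a u • T u) = ∑ u, a u • T' u := by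
    intro a
    rw [map_sum]
    exact Finset.sum_congr rfl (fun u _ => by rw [map_smul, hT])
  have hleft : ∀ u N, Φ (T u * N) = T' u * Φ N := by
    intro u N
    conv_lhs => rw [hdec N]
    conv_rhs => rw [hdec N, hsum]
    rw [Finset.mul_sum, Finset.mul_sum, map_sum]
    refine Finset.sum_congr rfl (fun v _ => ?_)
    rw [Matrix.mul_smul, Matrix.mul_smul, map_smul, hTT]
  refine ⟨Φ, ?_, ?_, hT⟩
  · have h1 : Φ 1 = Φ (T (0 : U0 n)) := by rw [T_zero]
    rw [h1, hT, h0]
  · intro M N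
    conv_lhs => rw [hdec M]
    conv_rhs => rw [hdec M, hsum]
    rw [Finset.sum_mul, Finset.sum_mul, map_sum]
    refine Finset.sum_congr rfl (fun u _ => ?_)
    rw [Matrix.smul_mul, Matrix.smul_mul, map_smul, hleft]

end Cfsg.Agent.Helper30.Cliff
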