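import Mathlib

/-!
# (SS) of helper24's sub-farm #12447 (piece (A1) of helper43's S2500 part 7): `s + s⁻¹` has squarefree minimal
polynomial when `s^m = 1`, `m` invertible in the perfect field `F`
-/

set_option autoImplicit false

namespace Cfsg.Agent.Helper30.Cov2.P7

open Polynomial

variable {F V : Type*} [Field F] [AddCommGroup V] [Module F V] [FiniteDimensional F V]

/-- (SS) -/
theorem ss_piece [PerfectField F] (s t : Module.End F V) (hst : s * t = 1) (m : ℕ) (hm : (m : F) ≠ 0)
    (hsm : s ^ m = 1) : Squarefree (minpoly F (s + t)) := by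
  have hm0 : m ≠ 0 := by
    rintro rfl
    exact hm Nat.cast_zero
  have hsep : (X ^ m - C (1 : F)).Separable := separable_X_pow_sub_C 1 hm one_ne_zero
  have hsq : Squarefree (X ^ m - C (1 : F)) := hsep.squarefree
  have hkill : aeval s (X ^ m - C (1 : F)) = 0 := by
    rw [map_sub, map_pow, aeval_X, aeval_C, hsm, map_one, sub_self]
  have hss : s.IsSemisimple := Module.End.isSemisimple_of_squarefree_aeval_eq_zero hsq hkill
  have ht : t = s ^ (m - 1) := by
    have h1 : s * s ^ (m - 1) = 1 := by
      rw [← pow_succ', Nat.sub_add_cancel (Nat.pos_of_ne_zero hm0), hsm]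
    have hts : t * s = 1 := mul_eq_one_comm.1 hst
    calc t = t * (s * s ^ (m - 1)) := by rw [h1, mul_one]
      _ = (t * s) * s ^ (m - 1) := by rw [mul_assoc]
      _ = s ^ (m - 1) := by rw [hts, one_mul]
  have hsum : s + t = aeval s (X + X ^ (m - 1) : F[X]) := by
    rw [map_add, map_pow, aeval_X, ht]
  rw [hsum]
  exact (hss.aeval _).minpoly_squarefree

end Cfsg.Agent.Helper30.Cov2.P7
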