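import Cfsg.Agent.Helper43.PsuM.RDefs

/-!
helper30 for helper43 (S2089 block R, farm #14254): piece (PL1) `mem_plift_iff` of
`tools/helper43_psum/RSkel.lean.txt`: the `p`-elements above a `p`-subgroup form a subgroup.
-/

set_option autoImplicit false
set_option linter.unusedSectionVars false
set_option linter.unusedVariables false

namespace Cfsg.Agent.Helper30.PsuM

open scoped commutatorElement
open Cfsg.Agent.Helper96.StLift Cfsg.Agent.Helper43.PsuM

universe u

section plift

variable {Γ G : Type u} [Group Γ] [Group G] [Finite Γ] (τ : Γ →* G) (hτ : Function.Surjective τ)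
  (hc : τ.ker ≤ Subgroup.center Γ) (p : ℕ) [Fact p.Prime] (hcop : (Nat.card τ.ker).Coprime p)

include hτ hc hcop

/-- (PL1) the `p`-elements above a `p`-subgroup form a subgroup. -/
theorem mem_plift_iff (X : Subgroup G) (hX : IsPGroup p X) (g : Γ) :
    g ∈ plift τ p X ↔ τ g ∈ X ∧ ∃ k : ℕ, g ^ p ^ k = 1 := by
  constructor
  · intro hg
    refine ⟨plift_le_comap τ p X hg, ?_⟩
    have hGfin : Finite G := Finite.of_surjective τ hτ
    -- the restriction of `τ` to the preimage of `X`
    have hfker : (τ.subgroupComap X).ker ≤ Subgroup.center ↥(X.comap τ) := by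
      intro e he
      rw [Subgroup.mem_center_iff]
      intro e'
      apply Subtype.ext
      have h1 : (e : Γ) ∈ τ.ker := by
        have h2 := congrArg Subtype.val (MonoidHom.mem_ker.1 he)
        exact h2
      exact Subgroup.mem_center_iff.1 (hc h1) e'.1
    have hnilX : Group.IsNilpotent ↥X := hX.isNilpotent
    have hnilE : Group.IsNilpotent ↥(X.comap τ) :=
      Subgroup.isNilpotent_of_ker_le_center (τ.subgroupComap X) hfker
    have hnorm : ∀ (q : ℕ) (_hq : Fact q.Prime) (P : Sylow q ↥(X.comap τ)),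
        (P : Subgroup ↥(X.comap τ)).Normal :=
      ((Group.isNilpotent_of_finite_tfae (G := ↥(X.comap τ))).out 0 3).1 hnilE
    obtain ⟨P⟩ : Nonempty (Sylow p ↥(X.comap τ)) := inferInstance
    have hU := Sylow.unique_of_normal P (hnorm p inferInstance P)
    -- every generator lies in the image of `P`
    have hle : plift τ p X ≤ (P : Subgroup ↥(X.comap τ)).map (X.comap τ).subtype := by
      unfold plift
      rw [Subgroup.closure_le]
      rintro y ⟨hyX, k, hyk⟩
      have hyE : y ∈ X.comap τ := hyX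
      have hpg : IsPGroup p (Subgroup.zpowers (⟨y, hyE⟩ : ↥(X.comap τ))) := by
        rintro ⟨z, hz⟩
        obtain ⟨j, rfl⟩ := Subgroup.mem_zpowers_iff.1 hz
        refine ⟨k, ?_⟩
        apply Subtype.ext
        show ((⟨y, hyE⟩ : ↥(X.comap τ)) ^ j) ^ p ^ k = 1
        have h7 : (⟨y, hyE⟩ : ↥(X.comap τ)) ^ p ^ k = 1 := Subtype.ext hyk
        rw [← zpow_natCast, ← zpow_mul, mul_comm, zpow_mul, zpow_natCast, h7, one_zpow]
      obtain ⟨Q, hQ⟩ := hpg.exists_le_sylow
      have hQP : Q = P := Subsingleton.elim Q P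
      rw [hQP] at hQ
      exact ⟨⟨y, hyE⟩, hQ (Subgroup.mem_zpowers _), rfl⟩
    obtain ⟨e, heP, rfl⟩ := hle hg
    obtain ⟨k, hk⟩ := P.isPGroup' ⟨e, heP⟩
    refine ⟨k, ?_⟩
    have h4 := congrArg Subtype.val hk
    have h5 : (e ^ p ^ k : ↥(X.comap τ)) = 1 := h4
    have h6 := congrArg Subtype.val h5
    exact h6
  · rintro ⟨h1, h2⟩
    exact Subgroup.subset_closure ⟨h1, h2⟩

end plift

end Cfsg.Agent.Helper30.PsuM
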