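import Mathlib

/-!
# Fong-Swan farm, leaf (K2c): the triangular step over an algebraically closed field
-/

set_option autoImplicit false
set_option linter.unusedSectionVars false
set_option linter.unusedVariables false

namespace Cfsg.Agent.Helper30.FS

/-- (K2c) the triangular step: an eigenvector (`Module.End.exists_eigenvalue` for `Matrix.toLin' A`)
completed to a basis. -/
theorem exists_triangular {K : Type*} [Field K] [IsAlgClosed K] {ι : Type*} [Fintype ι]
    [DecidableEq ι] {n : ℕ} (hn : Fintype.card ι = n + 1) (A : Matrix ι ι K) :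
    ∃ (a : K) (X : Matrix Unit (Fin n) K) (A' : Matrix (Fin n) (Fin n) K)
      (P : Matrix ι (Unit ⊕ Fin n) K) (Q : Matrix (Unit ⊕ Fin n) ι K),
      P * Q = 1 ∧ Q * P = 1 ∧
      Q * A * P = Matrix.fromBlocks (a • (1 : Matrix Unit Unit K)) X 0 A' := by
  classical
  have hne : Nonempty ι := Fintype.card_pos_iff.1 (by omega)
  -- an eigenvector
  obtain ⟨a, ha⟩ := Module.End.exists_eigenvalue (Matrix.toLin' A)
  obtain ⟨v, hv⟩ := ha.exists_hasEigenvector
  have hv0 : v ≠ 0 := hv.2
  have hAv : A.mulVec v = a • v := by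
    have := hv.apply_eq_smul
    rwa [Matrix.toLin'_apply] at this
  -- a nonzero coordinate
  obtain ⟨i₀, hi₀⟩ : ∃ i, v i ≠ 0 := by
    by_contra hcon
    push Not at hcon
    exact hv0 (funext hcon)
  -- an identification of the index types sending `i₀` to the first index
  have hcard : Fintype.card ι = Fintype.card (Unit ⊕ Fin n) := by
    rw [hn, Fintype.card_sum, Fintype.card_unit, Fintype.card_fin, add_comm]
  let e₀ : ι ≃ Unit ⊕ Fin n := Fintype.equivOfCardEq hcard
  let e : ι ≃ Unit ⊕ Fin n := (Equiv.swap i₀ (e₀.symm (Sum.inl ()))).trans e₀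
  have he : e.symm (Sum.inl ()) = i₀ := by
    rw [Equiv.symm_apply_eq]
    simp [e]
  -- the matrix with first column `v`
  let c : K := v (e.symm (Sum.inl ()))
  have hc : c ≠ 0 := by
    show v (e.symm (Sum.inl ())) ≠ 0
    rw [he]; exact hi₀
  let U : Matrix (Fin n) Unit K := Matrix.of fun k _ => v (e.symm (Sum.inr k))
  let P' : Matrix (Unit ⊕ Fin n) (Unit ⊕ Fin n) K :=
    Matrix.fromBlocks (c • (1 : Matrix Unit Unit K)) 0 U 1
  have hdet : P'.det = c := by
    show (Matrix.fromBlocks (c • (1 : Matrix Unit Unit K)) 0 U 1).det = c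
    rw [Matrix.det_fromBlocks_zero₁₂]
    simp
  have hunit : IsUnit P'.det := by rw [hdet]; exact isUnit_iff_ne_zero.2 hc
  have hP'col : ∀ j, P' j (Sum.inl ()) = v (e.symm j) := by
    intro j
    rcases j with ⟨⟩ | k
    · show (c • (1 : Matrix Unit Unit K)) () () = v (e.symm (Sum.inl ()))
      simp [c]
    · rfl
  let P : Matrix ι (Unit ⊕ Fin n) K := P'.submatrix e (Equiv.refl _)
  let Q : Matrix (Unit ⊕ Fin n) ι K := P'⁻¹.submatrix (Equiv.refl _) e
  have hPQ : P * Q = 1 := by
    show P'.submatrix e (Equiv.refl _) * P'⁻¹.submatrix (Equiv.refl _) e = 1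
    rw [Matrix.submatrix_mul_equiv, Matrix.mul_nonsing_inv _ hunit, Matrix.submatrix_one_equiv]
  have hQP : Q * P = 1 := by
    show P'⁻¹.submatrix (Equiv.refl _) e * P'.submatrix e (Equiv.refl _) = 1
    rw [Matrix.submatrix_mul_equiv, Matrix.nonsing_inv_mul _ hunit]
    simp
  have hPcol : (fun i => P i (Sum.inl ())) = v := by
    funext i
    show P' (e i) (Sum.inl ()) = v i
    rw [hP'col, Equiv.symm_apply_apply]
  -- the first column of a product with `P`
  have hcol : ∀ (B : Matrix (Unit ⊕ Fin n) ι K) (j : Unit ⊕ Fin n),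
      (B * P) j (Sum.inl ()) = (B.mulVec v) j := by
    intro B j
    rw [Matrix.mul_apply, ← hPcol]
    rfl
  have hN : ∀ j, (Q * A * P) j (Sum.inl ()) = a * (1 : Matrix (Unit ⊕ Fin n) (Unit ⊕ Fin n) K) j (Sum.inl ()) := by
    intro j
    rw [hcol, ← Matrix.mulVec_mulVec, hAv, Matrix.mulVec_smul, Pi.smul_apply, smul_eq_mul,
      ← hcol, hQP]
  refine ⟨a, (Q * A * P).toBlocks₁₂, (Q * A * P).toBlocks₂₂, P, Q, hPQ, hQP, ?_⟩
  have h11 : (Q * A * P).toBlocks₁₁ = a • (1 : Matrix Unit Unit K) := by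
    ext i j
    rcases i with ⟨⟩
    rcases j with ⟨⟩
    show (Q * A * P) (Sum.inl ()) (Sum.inl ()) = _
    rw [hN]
    simp
  have h21 : (Q * A * P).toBlocks₂₁ = 0 := by
    ext k j
    rcases j with ⟨⟩
    show (Q * A * P) (Sum.inr k) (Sum.inl ()) = _
    rw [hN]
    simp
  conv_lhs => rw [← Matrix.fromBlocks_toBlocks (Q * A * P)]
  rw [h11, h21]

end Cfsg.Agent.Helper30.FS
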