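import Cfsg.Agent.Helper25.FSwan.Defs2

/-!
# Fong-Swan farm, leaf (OP3): an irreducible matrix representation trivial on a normal subgroup
factors through the quotient, irreducibly
-/

set_option autoImplicit false
set_option linter.unusedSectionVars false
set_option linter.unusedVariables false

namespace Cfsg.Agent.Helper30.FS

open Cfsg Cfsg.Agent.Helper16 Cfsg.Agent.Helper16.DT Cfsg.Agent.Helper25.FS

universe u

variable {p : ℕ} [Fact p.Prime] {M : Ideal AlgInt} [M.IsMaximal] {G : Type u} [Group G]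

/-- (OP3) a matrix representation trivial on `P` factors through `G ⧸ P` (`QuotientGroup.lift`), and
the factorization is irreducible. -/
theorem exists_quotient_rep {n : ℕ} (ρ : G →* Matrix (Fin n) (Fin n) (AlgInt ⧸ M))
    (hρ : IsIrredMat ρ) (P : Subgroup G) [P.Normal] (h1 : ∀ x ∈ P, ρ x = 1) :
    ∃ ρ' : G ⧸ P →* Matrix (Fin n) (Fin n) (AlgInt ⧸ M), IsIrredMat ρ' ∧
      ∀ g : G, ρ' (QuotientGroup.mk g) = ρ g := by
  have hker : P ≤ ρ.ker := fun x hx => (MonoidHom.mem_ker).2 (h1 x hx)
  refine ⟨QuotientGroup.lift P ρ hker, ⟨hρ.1, ?_⟩, fun g => QuotientGroup.lift_mk P hker g⟩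
  intro W hW
  apply hρ.2 W
  intro g w hw
  have := hW (QuotientGroup.mk g) w hw
  rwa [QuotientGroup.lift_mk P hker g] at this

end Cfsg.Agent.Helper30.FS
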