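import Mathlib

set_option autoImplicit false

namespace Cfsg.Agent.Helper30.Design22

open Matrix

/-- There is no family of 22 seven-element subsets of a 22-element set meeting pairwise in
exactly two points (no symmetric 2-(22,7,2) design): the determinant of the incidence matrix
would have square `5^21 * 49`. -/
theorem no_design_22_7_2 {X : Type*} [Fintype X] [DecidableEq X] (hX : Fintype.card X = 22)
    (N : X → Finset X) (h7 : ∀ x, (N x).card = 7)
    (h2 : ∀ x y, x ≠ y → (N x ∩ N y).card = 2) : False := by
  classical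
  let B : Matrix X X ℚ := Matrix.of fun x z => if z ∈ N x then (1 : ℚ) else 0
  have hBB : B * Bᵀ = (5 : ℚ) • ((1 : Matrix X X ℚ) +
      replicateCol Unit (fun _ : X => (2 / 5 : ℚ)) * replicateRow Unit (fun _ : X => (1 : ℚ))) := by
    ext x y
    simp only [Matrix.mul_apply, Matrix.transpose_apply, Matrix.smul_apply, Matrix.add_apply,
      Matrix.one_apply, Matrix.replicateCol_apply, Matrix.replicateRow_apply, smul_eq_mul, B,
      Matrix.of_apply, Finset.univ_unique, Finset.sum_singleton]
    have hsum : (∑ z : X, (if z ∈ N x then (1 : ℚ) else 0) * (if z ∈ N y then (1 : ℚ) else 0)) =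
        ((N x ∩ N y).card : ℚ) := by
      rw [Finset.card_eq_sum_ones, Nat.cast_sum, ← Finset.sum_filter_add_sum_filter_not Finset.univ
        (fun z => z ∈ N x ∩ N y)]
      have h0 : ∑ z ∈ Finset.univ.filter (fun z => ¬ z ∈ N x ∩ N y),
          (if z ∈ N x then (1 : ℚ) else 0) * (if z ∈ N y then (1 : ℚ) else 0) = 0 := by
        apply Finset.sum_eq_zero
        intro z hz
        rw [Finset.mem_filter, Finset.mem_inter] at hz
        by_cases h1 : z ∈ N x
        · have : z ∉ N y := fun h => hz.2 ⟨h1, h⟩
          simp [this]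
        · simp [h1]
      rw [h0, add_zero]
      have : Finset.univ.filter (fun z => z ∈ N x ∩ N y) = N x ∩ N y := by
        ext z; simp
      rw [this]
      apply Finset.sum_congr rfl
      intro z hz
      rw [Finset.mem_inter] at hz
      simp [hz.1, hz.2]
    rw [hsum]
    by_cases hxy : x = y
    · subst hxy
      rw [Finset.inter_self, h7]
      simp only [if_true]
      norm_num
    · rw [h2 x y hxy, if_neg hxy]
      norm_num
  have hdet : (B.det) ^ 2 = (5 : ℚ) ^ 21 * 49 := by
    have h1 : (B * Bᵀ).det = B.det ^ 2 := by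
      rw [Matrix.det_mul, Matrix.det_transpose, pow_two]
    rw [← h1, hBB, Matrix.det_smul, det_one_add_replicateCol_mul_replicateRow, hX]
    simp only [dotProduct, one_mul, Finset.sum_const, Finset.card_univ, hX, nsmul_eq_mul]
    norm_num
  have h5 : IsSquare (5 : ℚ) := by
    refine ⟨B.det / (5 ^ 10 * 7), ?_⟩
    rw [div_mul_div_comm, ← pow_two, hdet]
    norm_num
  have h5' : IsSquare ((5 : ℕ) : ℚ) := by exact_mod_cast h5
  rw [Rat.isSquare_natCast_iff] at h5'
  obtain ⟨r, hr⟩ := h5'
  have hr3 : r < 3 := by nlinarith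
  interval_cases r <;> omega

end Cfsg.Agent.Helper30.Design22
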