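import Mathlib
import Cfsg.Agent.Helper30.Design22

set_option autoImplicit false
set_option linter.unusedSectionVars false

namespace Cfsg.Agent.Helper30.Rank3Deg22

open Finset

variable {H X : Type*} [Group H] [Fintype X] [DecidableEq X] [MulAction H X]

/-- image of a finset under a group element -/
def img (h : H) (s : Finset X) : Finset X := s.image (fun y => h • y)

theorem card_img (h : H) (s : Finset X) : (img h s).card = s.card :=
  Finset.card_image_of_injective _ (MulAction.injective h)

theorem mem_img {h : H} {s : Finset X} {y : X} : y ∈ img h s ↔ h⁻¹ • y ∈ s := by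
  unfold img
  rw [Finset.mem_image]
  constructor
  · rintro ⟨z, hz, rfl⟩
    rwa [inv_smul_smul]
  · intro hy
    exact ⟨h⁻¹ • y, hy, smul_inv_smul h y⟩

theorem img_mul (h k : H) (s : Finset X) : img (h * k) s = img h (img k s) := by
  ext y
  rw [mem_img, mem_img, mem_img, mul_inv_rev, mul_smul]

theorem img_inter (h : H) (s t : Finset X) : img h (s ∩ t) = img h s ∩ img h t := by
  ext y
  simp only [mem_img, Finset.mem_inter]

/-- A transitive action on 22 points whose point stabiliser has orbits of sizes 1, 6, 15 does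
not exist (the closed neighbourhoods of the orbital graph of valency 6 would form a symmetric
2-(22,7,2) design, or a partition of 22 points into 7-sets). -/
theorem no_rank3_22 (hX : Fintype.card X = 22) (htr : ∀ x y : X, ∃ h : H, h • x = y)
    (a : X) (Δ : Finset X) (hΔ : Δ.card = 6) (haΔ : a ∉ Δ)
    (hinv : ∀ h : H, h • a = a → ∀ y ∈ Δ, h • y ∈ Δ)
    (htrΔ : ∀ y ∈ Δ, ∀ y' ∈ Δ, ∃ h : H, h • a = a ∧ h • y = y')
    (htrΔ' : ∀ y y', y ∉ Δ → y ≠ a → y' ∉ Δ → y' ≠ a → ∃ h : H, h • a = a ∧ h • y = y') :
    False := by
  classical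
  set B0 : Finset X := insert a Δ with hB0
  have hB0card : B0.card = 7 := by rw [hB0, Finset.card_insert_of_notMem haΔ, hΔ]
  -- the stabiliser of `a` preserves `B0`
  have hstab : ∀ h : H, h • a = a → img h B0 = B0 := by
    intro h hh
    apply Finset.eq_of_subset_of_card_le
    · intro y hy
      rw [mem_img] at hy
      have hh' : h⁻¹ • a = a := by rw [inv_smul_eq_iff, hh]
      rw [hB0, Finset.mem_insert] at hy ⊢
      rcases hy with hy | hy
      · left
        rw [inv_smul_eq_iff] at hy
        rw [hy, hh]
      · right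
        have := hinv h hh _ hy
        rwa [smul_inv_smul] at this
    · rw [card_img]
  -- the blocks
  let hx : X → H := fun x => Classical.choose (htr a x)
  have hhx : ∀ x, hx x • a = x := fun x => Classical.choose_spec (htr a x)
  let N : X → Finset X := fun x => img (hx x) B0
  have hN : ∀ (h : H) (x : X), h • a = x → N x = img h B0 := by
    intro h x hh
    have h1 : ((hx x)⁻¹ * h) • a = a := by
      rw [mul_smul, hh, inv_smul_eq_iff, hhx]
    have h2 := hstab _ h1
    show img (hx x) B0 = img h B0
    calc img (hx x) B0 = img (hx x) (img ((hx x)⁻¹ * h) B0) := by rw [h2]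
      _ = img h B0 := by rw [← img_mul, mul_inv_cancel_left]
  have hNequiv : ∀ (h : H) (x : X), N (h • x) = img h (N x) := by
    intro h x
    rw [hN (h * hx x) (h • x) (by rw [mul_smul, hhx]), img_mul]
  have hNcard : ∀ x, (N x).card = 7 := fun x => by
    show (img (hx x) B0).card = 7
    rw [card_img, hB0card]
  have hNa : N a = B0 := by
    rw [hN 1 a (one_smul _ _)]
    ext y
    rw [mem_img, inv_one, one_smul]
  have hself : ∀ x, x ∈ N x := by
    intro x
    show x ∈ img (hx x) B0
    rw [mem_img]
    have : (hx x)⁻¹ • x = a := by rw [inv_smul_eq_iff, hhx]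
    rw [this, hB0]
    exact Finset.mem_insert_self _ _
  -- intersection numbers are invariant
  have hcinv : ∀ (h : H) (x y : X), (N (h • x) ∩ N (h • y)).card = (N x ∩ N y).card := by
    intro h x y
    rw [hNequiv, hNequiv, ← img_inter, card_img]
  -- choose representatives
  obtain ⟨d0, hd0⟩ : ∃ d0, d0 ∈ Δ := Finset.card_pos.1 (by rw [hΔ]; norm_num)
  have hcompl : (Finset.univ \ B0).card = 15 := by
    rw [Finset.card_sdiff_of_subset (Finset.subset_univ _), Finset.card_univ, hX, hB0card]
  obtain ⟨e0, he0⟩ : ∃ e0, e0 ∈ Finset.univ \ B0 := Finset.card_pos.1 (by rw [hcompl]; norm_num)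
  have he0' : e0 ∉ Δ ∧ e0 ≠ a := by
    rw [Finset.mem_sdiff, hB0, Finset.mem_insert, not_or] at he0
    exact ⟨he0.2.2, he0.2.1⟩
  set c1 := (N a ∩ N d0).card with hc1
  set c2 := (N a ∩ N e0).card with hc2
  have hca1 : ∀ y ∈ Δ, (N a ∩ N y).card = c1 := by
    intro y hy
    obtain ⟨h, hha, hhy⟩ := htrΔ d0 hd0 y hy
    have := hcinv h a d0
    rw [hha, hhy] at this
    exact this
  have hca2 : ∀ y, y ∉ Δ → y ≠ a → (N a ∩ N y).card = c2 := by
    intro y hy hya
    obtain ⟨h, hha, hhy⟩ := htrΔ' e0 y he0'.1 he0'.2 hy hya
    have := hcinv h a e0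
    rw [hha, hhy] at this
    exact this
  -- replication number
  let r : X → ℕ := fun z => (Finset.univ.filter (fun y => z ∈ N y)).card
  have hrinv : ∀ (h : H) (z : X), r (h • z) = r z := by
    intro h z
    show (Finset.univ.filter (fun y => h • z ∈ N y)).card = (Finset.univ.filter (fun y => z ∈ N y)).card
    symm
    apply Finset.card_bij (fun y _ => h • y)
    · intro y hy
      rw [Finset.mem_filter] at hy ⊢
      refine ⟨Finset.mem_univ _, ?_⟩
      rw [hNequiv, mem_img, inv_smul_smul]
      exact hy.2
    · intro y _ y' _ hyy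
      exact MulAction.injective h hyy
    · intro y hy
      rw [Finset.mem_filter] at hy
      refine ⟨h⁻¹ • y, ?_, smul_inv_smul h y⟩
      rw [Finset.mem_filter]
      refine ⟨Finset.mem_univ _, ?_⟩
      have := hy.2
      rw [← smul_inv_smul h y, hNequiv, mem_img, inv_smul_smul] at this
      exact this
  have hrconst : ∀ z, r z = r a := by
    intro z
    obtain ⟨h, hh⟩ := htr a z
    rw [← hh, hrinv]
  have hdouble : ∑ z : X, r z = ∑ y : X, (N y).card := by
    have h1 : ∀ z : X, r z = ∑ y : X, if z ∈ N y then 1 else 0 := by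
      intro z
      show (Finset.univ.filter (fun y => z ∈ N y)).card = _
      rw [Finset.card_filter]
    have h2 : ∀ y : X, (N y).card = ∑ z : X, if z ∈ N y then 1 else 0 := by
      intro y
      rw [← Finset.card_filter]
      congr 1
      ext z
      simp
    simp_rw [h1, h2]
    exact Finset.sum_comm
  have hr7 : r a = 7 := by
    have h1 : ∑ z : X, r z = 22 * r a := by
      rw [Finset.sum_congr rfl (fun z _ => hrconst z), Finset.sum_const, Finset.card_univ, hX,
        smul_eq_mul]
    have h2 : ∑ y : X, (N y).card = 22 * 7 := by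
      rw [Finset.sum_congr rfl (fun y _ => hNcard y), Finset.sum_const, Finset.card_univ, hX,
        smul_eq_mul]
    rw [hdouble, h2] at h1
    omega
  -- the main count
  have hcount : ∑ y : X, (N a ∩ N y).card = 49 := by
    have h1 : ∀ y : X, (N a ∩ N y).card = ∑ z ∈ N a, if z ∈ N y then 1 else 0 := by
      intro y
      rw [← Finset.card_filter, Finset.filter_mem_eq_inter]
    simp_rw [h1]
    rw [Finset.sum_comm]
    have h2 : ∀ z ∈ N a, (∑ y : X, if z ∈ N y then 1 else 0) = 7 := by
      intro z _
      rw [← Finset.card_filter]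
      show r z = 7
      rw [hrconst, hr7]
    rw [Finset.sum_congr rfl h2, Finset.sum_const, hNcard, smul_eq_mul]
  have hsplit : ∑ y : X, (N a ∩ N y).card = 7 + 6 * c1 + 15 * c2 := by
    have hdisj : Disjoint B0 (Finset.univ \ B0) := Finset.disjoint_sdiff
    have huniv : (Finset.univ : Finset X) = B0 ∪ (Finset.univ \ B0) := by
      rw [Finset.union_sdiff_of_subset (Finset.subset_univ _)]
    rw [huniv, Finset.sum_union hdisj, hB0, Finset.sum_insert haΔ, Finset.inter_self, hNcard,
      Finset.sum_congr rfl hca1, Finset.sum_const, hΔ, smul_eq_mul]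
    have h3 : ∀ y ∈ Finset.univ \ insert a Δ, (N a ∩ N y).card = c2 := by
      intro y hy
      rw [Finset.mem_sdiff, Finset.mem_insert, not_or] at hy
      exact hca2 y hy.2.2 hy.2.1
    rw [Finset.sum_congr rfl h3, Finset.sum_const, ← hB0, hcompl, smul_eq_mul]
  have hdio : 2 * c1 + 5 * c2 = 14 := by
    rw [hcount] at hsplit
    omega
  have hcases : (c1 = 2 ∧ c2 = 2) ∨ (c1 = 7 ∧ c2 = 0) := by omega
  -- intersection numbers for general pairs
  have hgen : ∀ x y : X, x ≠ y → (N x ∩ N y).card = c1 ∨ (N x ∩ N y).card = c2 := by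
    intro x y hxy
    obtain ⟨h, hh⟩ := htr x a
    have := hcinv h x y
    rw [hh] at this
    rw [← this]
    have hya : h • y ≠ a := by
      intro h'
      apply hxy
      rw [← hh] at h'
      exact (MulAction.injective h h').symm
    by_cases hyΔ : h • y ∈ Δ
    · left; exact hca1 _ hyΔ
    · right; exact hca2 _ hyΔ hya
  rcases hcases with ⟨h1, h2⟩ | ⟨h1, h2⟩
  · -- symmetric design
    apply Cfsg.Agent.Helper30.Design22.no_design_22_7_2 hX N hNcard
    intro x y hxy
    rcases hgen x y hxy with h | h
    · rw [h, h1]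
    · rw [h, h2]
  · -- partition into 7-sets
    have hpart : ∀ x y : X, N x = N y ∨ Disjoint (N x) (N y) := by
      intro x y
      by_cases hxy : x = y
      · left; rw [hxy]
      · rcases hgen x y hxy with h | h
        · left
          rw [h1] at h
          have hsub : N x ∩ N y = N x := by
            apply Finset.eq_of_subset_of_card_le Finset.inter_subset_left
            rw [h, hNcard]
          have hsub' : N x ⊆ N y := by
            rw [← hsub]; exact Finset.inter_subset_right
          exact Finset.eq_of_subset_of_card_le hsub' (by rw [hNcard, hNcard])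
        · right
          rw [h2, Finset.card_eq_zero] at h
          rwa [Finset.disjoint_iff_inter_eq_empty]
    let 𝒞 : Finset (Finset X) := Finset.univ.image N
    have hunion : (Finset.univ : Finset X) = 𝒞.biUnion id := by
      ext x
      simp only [Finset.mem_univ, Finset.mem_biUnion, id, true_iff]
      exact ⟨N x, Finset.mem_image_of_mem _ (Finset.mem_univ _), hself x⟩
    have hcardU : (Finset.univ : Finset X).card = ∑ C ∈ 𝒞, C.card := by
      rw [hunion]
      apply Finset.card_biUnion
      intro C hC C' hC' hne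
      rw [Finset.mem_coe, Finset.mem_image] at hC hC'
      obtain ⟨x, -, rfl⟩ := hC
      obtain ⟨y, -, rfl⟩ := hC'
      rcases hpart x y with h | h
      · exact absurd h hne
      · exact h
    have hsum7 : ∑ C ∈ 𝒞, C.card = 𝒞.card * 7 := by
      rw [Finset.sum_const_nat]
      intro C hC
      rw [Finset.mem_image] at hC
      obtain ⟨x, -, rfl⟩ := hC
      exact hNcard x
    rw [Finset.card_univ, hX, hsum7] at hcardU
    omega

end Cfsg.Agent.Helper30.Rank3Deg22
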