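import Mathlib
import Cfsg.Agent.S0279

/-!
# (5F) of helper3's S2500 part 5 farm (#12490): the centre of `SU_3(q)`, `q = 3^a`, is trivial
-/

set_option autoImplicit false

namespace Cfsg.Agent.Helper30.Cov2P5

variable {F : Type*} [Field F] [Fintype F] {q : ℕ}

/-- (5F) -/
theorem center_SU3_eq_bot (hF : Fintype.card F = q ^ 2) (a : ℕ) (ha : 1 ≤ a) (hq : q = 3 ^ a) :
    Subgroup.center (Cfsg.SU 3 F q) = ⊥ := by
  have h1 := Cfsg.Agent.S0279.result hF 3 le_rfl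
  have h2 : Nat.gcd 3 (q + 1) = 1 := by
    have h3 : 3 ∣ q := by
      rw [hq]
      exact dvd_pow_self 3 (by omega)
    obtain ⟨k, rfl⟩ := h3
    have h4 : Nat.gcd 3 (3 * k + 1) = Nat.gcd 3 1 := by
      rw [Nat.gcd_comm, Nat.gcd_comm 3 1]
      simp
    rw [h4]
    rfl
  rw [h2] at h1
  exact Subgroup.card_eq_one.1 h1

end Cfsg.Agent.Helper30.Cov2P5
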