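import Mathlib
import Cfsg.Agent.Helper44.CliffDefs
import Cfsg.Agent.Helper87.CliffC6
import Cfsg.Agent.Helper87.CliffC7
import Cfsg.Agent.Helper68.CliffC8

/-! Piece (N1) of S3084 (for helper44): an element of `GL_{2^n}(3)` acting on every Pauli operator by
a sign lies in the Pauli group `Q0 n`. -/

set_option autoImplicit false
open scoped MatrixGroups

namespace Cfsg.Agent.Helper30.Cliff

open Matrix Cfsg.Agent.Helper44.Cliff

variable {n : ℕ}

theorem zmod3_cases (c : ZMod 3) : c = 0 ∨ c = 1 ∨ c = -1 := by revert c; decide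

/-- (N1) an element inducing the identity on `U0 n` lies in `Q0 n`. -/
theorem mem_Q0_of_trivial_action (g : GL (X n) (ZMod 3)) (ℓ : U0 n → ZMod 2)
    (h : ∀ u, (g : Matrix (X n) (X n) (ZMod 3)) * T u *
      ((g⁻¹ : GL (X n) (ZMod 3)) : Matrix (X n) (X n) (ZMod 3)) = sg (ℓ u) • T u) : g ∈ Q0 n := by
  have hgi : ((g⁻¹ : GL (X n) (ZMod 3)) : Matrix (X n) (X n) (ZMod 3)) *
      (g : Matrix (X n) (X n) (ZMod 3)) = 1 := by
    rw [← Units.val_mul, inv_mul_cancel, Units.val_one]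
  have hgi' : (g : Matrix (X n) (X n) (ZMod 3)) *
      ((g⁻¹ : GL (X n) (ZMod 3)) : Matrix (X n) (X n) (ZMod 3)) = 1 := by
    rw [← Units.val_mul, mul_inv_cancel, Units.val_one]
  -- `g T u = ± T u g`
  have hg : ∀ u, (g : Matrix (X n) (X n) (ZMod 3)) * T u =
      sg (ℓ u) • (T u * (g : Matrix (X n) (X n) (ZMod 3))) := by
    intro u
    have h1 : ((g : Matrix (X n) (X n) (ZMod 3)) * T u *
        ((g⁻¹ : GL (X n) (ZMod 3)) : Matrix (X n) (X n) (ZMod 3))) *
        (g : Matrix (X n) (X n) (ZMod 3)) = (sg (ℓ u) • T u) * (g : Matrix (X n) (X n) (ZMod 3)) := by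
      rw [h u]
    rw [Matrix.mul_assoc, hgi, Matrix.mul_one, Matrix.smul_mul] at h1
    exact h1
  -- `ℓ` is additive
  have hadd : ∀ u v, ℓ (u + v) = ℓ u + ℓ v := by
    intro u v
    have h1 : (g : Matrix (X n) (X n) (ZMod 3)) * (T u * T v) =
        (sg (ℓ u) * sg (ℓ v)) • ((T u * T v) * (g : Matrix (X n) (X n) (ZMod 3))) := by
      rw [← Matrix.mul_assoc, hg u, Matrix.smul_mul, Matrix.mul_assoc, hg v, Matrix.mul_smul,
        smul_smul, Matrix.mul_assoc]
    rw [T_mul, Matrix.mul_smul, hg (u + v), Matrix.smul_mul, smul_smul, smul_smul] at h1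
    -- cancel `g` on the right
    have h2 : ((sg (bet u v) * sg (ℓ (u + v))) • (T (u + v) * (g : Matrix (X n) (X n) (ZMod 3)))) *
        ((g⁻¹ : GL (X n) (ZMod 3)) : Matrix (X n) (X n) (ZMod 3)) =
        ((sg (ℓ u) * sg (ℓ v) * sg (bet u v)) • (T (u + v) * (g : Matrix (X n) (X n) (ZMod 3)))) *
        ((g⁻¹ : GL (X n) (ZMod 3)) : Matrix (X n) (X n) (ZMod 3)) := by
      rw [h1]
    rw [Matrix.smul_mul, Matrix.smul_mul, Matrix.mul_assoc, hgi', Matrix.mul_one] at h2
    have h3 : sg (bet u v + ℓ (u + v)) • T (u + v) = sg (ℓ u + ℓ v + bet u v) • T (u + v) := by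
      rw [sg_add, sg_add, sg_add]
      exact h2
    have h4 := (Cfsg.Agent.Helper87.Cliff.T_unique _ _ _ _ h3).2
    have h5 : ∀ a b c : ZMod 2, a + b = c + a → b = c := by decide
    exact h5 _ _ _ h4
  obtain ⟨w, hw⟩ := Cfsg.Agent.Helper68.Cliff.exists_bil ℓ hadd
  -- `M = (T w)⁻¹ g` commutes with every `T u`
  have hcomm : ∀ u, ((sg (q0 w) • T w) * (g : Matrix (X n) (X n) (ZMod 3))) * T u =
      T u * ((sg (q0 w) • T w) * (g : Matrix (X n) (X n) (ZMod 3))) := by
    intro u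
    have h1 : sg (bil w u) * (sg (q0 w) * sg (bil w u)) = sg (q0 w) := by
      rw [mul_comm (sg (q0 w)), ← mul_assoc, sg_mul_self, one_mul]
    calc ((sg (q0 w) • T w) * (g : Matrix (X n) (X n) (ZMod 3))) * T u
        = (sg (q0 w) • T w) * (sg (ℓ u) • (T u * (g : Matrix (X n) (X n) (ZMod 3)))) := by
          rw [Matrix.mul_assoc, hg u]
      _ = (sg (bil w u) * (sg (q0 w) * sg (bil w u))) •
            (T u * T w * (g : Matrix (X n) (X n) (ZMod 3))) := by
          rw [Matrix.mul_smul, Matrix.smul_mul, ← Matrix.mul_assoc, T_comm w u, Matrix.smul_mul,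
            smul_smul, smul_smul, hw u, mul_assoc]
      _ = T u * ((sg (q0 w) • T w) * (g : Matrix (X n) (X n) (ZMod 3))) := by
          rw [h1, Matrix.smul_mul, Matrix.mul_smul, Matrix.mul_assoc]
  obtain ⟨c, hc⟩ := Cfsg.Agent.Helper87.Cliff.scalar_of_commute _ hcomm
  -- `g = c • T w`
  have hgc : (g : Matrix (X n) (X n) (ZMod 3)) = c • T w := by
    have h1 : T w * ((sg (q0 w) • T w) * (g : Matrix (X n) (X n) (ZMod 3))) =
        T w * (c • (1 : Matrix (X n) (X n) (ZMod 3))) := by rw [hc]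
    rw [← Matrix.mul_assoc, T_mul_inv, Matrix.one_mul, Matrix.mul_smul, Matrix.mul_one] at h1
    exact h1
  rcases zmod3_cases c with rfl | rfl | rfl
  · exfalso
    rw [zero_smul] at hgc
    rw [hgc, Matrix.zero_mul] at hgi'
    exact zero_ne_one hgi'
  · exact ⟨0, w, by rw [hgc, sg_zero]⟩
  · exact ⟨1, w, by rw [hgc, sg_one]⟩

end Cfsg.Agent.Helper30.Cliff
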