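import Mathlib
import Cfsg.Agent.Helper24.Cov2P4SCR

/-!
# (5K2a) of helper3's S2500 part 5 farm (#12490): a nondegenerate hermitian form on the cubic extension `L`
invariant under the multiplication by a generator `lam` is `Tr(β x y^(q³))`
-/

set_option autoImplicit false

namespace Cfsg.Agent.Helper30.Cov2P5

open Polynomial Module IntermediateField

variable {F : Type*} [Field F] [Fintype F] {q : ℕ}

variable (L : Type*) [Field L] [Algebra F L] [Finite L]

omit [Fintype F] [Finite L] in
theorem k2a_adjoin_top (hL3 : finrank F L = 3) (lam : L)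
    (hlam : ∀ c : F, lam ≠ algebraMap F L c) : Algebra.adjoin F {lam} = ⊤ := by
  have hfd : FiniteDimensional F L := Module.finite_of_finrank_pos (by rw [hL3]; norm_num)
  have hsimple : IsSimpleOrder (IntermediateField F L) :=
    IntermediateField.isSimpleOrder_of_finrank_prime F L (by rw [hL3]; exact Nat.prime_three)
  rcases eq_bot_or_eq_top F⟮lam⟯ with h | h
  · exfalso
    rw [IntermediateField.adjoin_simple_eq_bot_iff, IntermediateField.mem_bot] at h
    obtain ⟨c, hc⟩ := h
    exact hlam c hc.symm
  · have h1 := IntermediateField.adjoin_simple_toSubalgebra_of_isAlgebraic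
      (IsAlgebraic.of_finite F lam)
    rw [h, IntermediateField.top_toSubalgebra] at h1
    exact h1.symm

omit [Finite L] in
/-- some element of `F` is moved by the `q`-th power map -/
theorem k2a_exists_pow_ne (hF : Fintype.card F = q ^ 2) : ∃ c : F, c ^ q ≠ c := by
  classical
  have hq : 1 < q := by
    have h1 : 1 < Fintype.card F := Fintype.one_lt_card
    rw [hF] at h1
    by_contra hle
    push Not at hle
    interval_cases q <;> omega
  by_contra hall
  push Not at hall
  have hne : (X ^ q - X : F[X]) ≠ 0 := FiniteField.X_pow_card_sub_X_ne_zero F hq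
  have hdeg : (X ^ q - X : F[X]).natDegree = q := FiniteField.X_pow_card_sub_X_natDegree_eq F hq
  have hsub : (Finset.univ : Finset F) ⊆ (X ^ q - X : F[X]).roots.toFinset := by
    intro c _
    rw [Multiset.mem_toFinset, mem_roots hne, IsRoot.def, eval_sub, eval_pow, eval_X, hall c,
      sub_self]
  have h1 : Fintype.card F ≤ q := by
    calc Fintype.card F = (Finset.univ : Finset F).card := Finset.card_univ.symm
      _ ≤ (X ^ q - X : F[X]).roots.toFinset.card := Finset.card_le_card hsub
      _ ≤ Multiset.card (X ^ q - X : F[X]).roots := Multiset.toFinset_card_le _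
      _ ≤ (X ^ q - X : F[X]).natDegree := card_roots' _
      _ = q := hdeg
  rw [hF] at h1
  nlinarith

/-- (5K2a) -/
theorem inv_form_beta (hF : Fintype.card F = q ^ 2) (hL3 : finrank F L = 3) (lam : L)
    (hlam : ∀ c : F, lam ≠ algebraMap F L c) (B' : L → L → F)
    (hadd1 : ∀ x x' y, B' (x + x') y = B' x y + B' x' y)
    (hsmul1 : ∀ (c : F) x y, B' (c • x) y = c * B' x y)
    (hadd2 : ∀ x y y', B' x (y + y') = B' x y + B' x y')
    (hsmul2 : ∀ (c : F) x y, B' x (c • y) = c ^ q * B' x y)
    (hherm : ∀ x y, B' y x = (B' x y) ^ q)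
    (hnd : ∀ x, (∀ y, B' x y = 0) → x = 0)
    (hinv : ∀ x y, B' (lam * x) (lam * y) = B' x y) :
    ∃ β : L, ∀ x y, B' x y = Algebra.trace F L (β * x * y ^ (q ^ 3)) := by
  classical
  have hfd : FiniteDimensional F L := Module.finite_of_finrank_pos (by rw [hL3]; norm_num)
  have hlam0 : lam ≠ 0 := by
    intro h
    exact hlam 0 (by rw [h, map_zero])
  have hcq : ∀ c : F, (c ^ q) ^ q = c := by
    intro c
    rw [← pow_mul, ← pow_two, ← hF, FiniteField.pow_card]
  -- subtraction in the second variable
  have hzero2 : ∀ x, B' x 0 = 0 := by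
    intro x
    have h := hadd2 x 0 0
    rw [add_zero] at h
    exact left_eq_add.1 h
  have hsub2 : ∀ x u v, B' x (u - v) = B' x u - B' x v := by
    intro x u v
    have h := hadd2 x (u - v) v
    rw [sub_add_cancel] at h
    rw [h, add_sub_cancel_right]
  -- uniqueness of adjoints
  have huniq : ∀ a b : L, (∀ x y, B' x (a * y) = B' x (b * y)) → a = b := by
    intro a b h
    have h1 : (a - b) * 1 = 0 := by
      apply hnd
      intro x
      rw [hherm x ((a - b) * 1), sub_mul, hsub2, h x 1, sub_self, zero_pow]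
      have h1 : 1 < Fintype.card F := Fintype.one_lt_card
      rw [hF] at h1
      rintro rfl
      simp at h1
    rw [mul_one] at h1
    exact sub_eq_zero.1 h1
  -- existence of adjoints
  have hex : ∀ t : L, ∃ t' : L, ∀ x y, B' (t * x) y = B' x (t' * y) := by
    intro t
    have ht : t ∈ Algebra.adjoin F {lam} := by
      rw [k2a_adjoin_top L hL3 lam hlam]
      exact Algebra.mem_top
    induction ht using Algebra.adjoin_induction with
    | mem z hz =>
      rw [Set.mem_singleton_iff] at hz
      subst hz
      refine ⟨z⁻¹, fun x y => ?_⟩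
      have h := hinv x (z⁻¹ * y)
      rw [← mul_assoc z, mul_inv_cancel₀ hlam0, one_mul] at h
      exact h
    | algebraMap c =>
      refine ⟨algebraMap F L (c ^ q), fun x y => ?_⟩
      rw [← Algebra.smul_def, ← Algebra.smul_def, hsmul1, hsmul2, hcq]
    | add s t _ _ hs ht =>
      obtain ⟨s', hs'⟩ := hs
      obtain ⟨t', ht'⟩ := ht
      refine ⟨s' + t', fun x y => ?_⟩
      rw [add_mul, hadd1, hs', ht', add_mul, hadd2]
    | mul s t _ _ hs ht =>
      obtain ⟨s', hs'⟩ := hs
      obtain ⟨t', ht'⟩ := ht
      refine ⟨t' * s', fun x y => ?_⟩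
      rw [mul_assoc, hs', ht', mul_assoc]
  choose τf hτf using hex
  have hτ_of : ∀ t t' : L, (∀ x y, B' (t * x) y = B' x (t' * y)) → τf t = t' := by
    intro t t' h
    apply huniq
    intro x y
    rw [← hτf t, h]
  have hτone : τf 1 = 1 := hτ_of 1 1 (fun x y => by rw [one_mul, one_mul])
  have hτmul : ∀ s t, τf (s * t) = τf s * τf t := by
    intro s t
    apply hτ_of
    intro x y
    rw [mul_assoc, hτf s, hτf t, ← mul_assoc, mul_comm (τf t)]
  have hτadd : ∀ s t, τf (s + t) = τf s + τf t := by
    intro s t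
    apply hτ_of
    intro x y
    rw [add_mul, hadd1, hτf s, hτf t, add_mul, hadd2]
  have hτzero : τf 0 = 0 := by
    apply hτ_of
    intro x y
    rw [zero_mul, zero_mul, hzero2]
    have h := hadd1 0 0 y
    rw [add_zero] at h
    exact left_eq_add.1 h
  let τ : L →+* L :=
    { toFun := τf
      map_one' := hτone
      map_mul' := hτmul
      map_zero' := hτzero
      map_add' := hτadd }
  have hτapp : ∀ t, τ t = τf t := fun _ => rfl
  have hτ2 : ∀ t, τ (τ t) = t := by
    intro t
    rw [hτapp, hτapp]
    apply hτ_of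
    intro x y
    rw [hherm y (τf t * x), ← hτf t y x, ← hherm]
  have hτalg : ∀ c : F, τ (algebraMap F L c) = algebraMap F L (c ^ q) := by
    intro c
    rw [hτapp]
    apply hτ_of
    intro x y
    rw [← Algebra.smul_def, ← Algebra.smul_def, hsmul1, hsmul2, hcq]
  have hτne : τ ≠ RingHom.id L := by
    intro h
    obtain ⟨c, hc⟩ := k2a_exists_pow_ne hF
    have h1 := hτalg c
    rw [h, RingHom.id_apply] at h1
    exact hc ((algebraMap F L).injective h1).symm
  obtain ⟨p, j, hpp, hcard, hpow⟩ := Cfsg.Agent.Helper24.Cov2P4.SCR_invol τ hτ2 hτne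
  have hLcard : Nat.card L = (q ^ 3) ^ 2 := by
    have : Fintype L := Fintype.ofFinite L
    rw [Nat.card_eq_fintype_card, Module.card_eq_pow_finrank (K := F), hL3, hF]
    ring
  have hpj : p ^ j = q ^ 3 := by
    have h1 : (p ^ j) ^ 2 = (q ^ 3) ^ 2 := by
      rw [← hLcard, hcard, ← pow_mul, mul_comm]
    exact Nat.pow_left_injective (by norm_num : 2 ≠ 0) h1
  have hτpow : ∀ x, τf x = x ^ (q ^ 3) := by
    intro x
    rw [← hτapp, hpow, hpj]
  -- the functional `z ↦ B' z 1`
  let φ : L →ₗ[F] F :=
    { toFun := fun z => B' z 1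
      map_add' := fun x y => hadd1 x y 1
      map_smul' := fun c x => by
        simp only [RingHom.id_apply, smul_eq_mul]
        exact hsmul1 c x 1 }
  have hsep : Algebra.IsSeparable F L := inferInstance
  have hndT := traceForm_nondegenerate F L
  refine ⟨((Algebra.traceForm F L).toDual hndT).symm φ, fun x y => ?_⟩
  have h1 : B' x y = φ (τf y * x) := by
    show B' x y = B' (τf y * x) 1
    rw [hτf (τf y) x 1, mul_one, ← hτapp, ← hτapp, hτ2]
  rw [h1, ← LinearMap.BilinForm.apply_toDual_symm_apply (hB := hndT) φ (τf y * x),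
    Algebra.traceForm_apply, hτpow]
  congr 1
  ring

end Cfsg.Agent.Helper30.Cov2P5
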