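import Cfsg.Agent.Helper43.Cov2.P6Defs

/-!
# (6C) of helper43's S2500 part 6 farm (#11744): an isometry between two of the forms `Qa a`, `Qa b`
conjugates the stabilisers (characteristic 2).  Also the common lemmas on `Qa` used by (6D), (6E).
-/

set_option autoImplicit false

namespace Cfsg.Agent.Helper30.Cov2.P6

open Matrix Cfsg.Agent.Helper43.Cov2.P6 Cfsg.Agent.Helper13

variable {F : Type*} [Field F] {m : ℕ}

theorem p6_charP_two [Fintype F] (heven : ¬ Odd (Fintype.card F)) : CharP F 2 := by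
  have h2 : Fintype.card F % 2 = 0 := Nat.even_iff.1 (Nat.not_odd_iff_even.1 heven)
  have h3 : ringChar F = 2 := FiniteField.even_card_iff_char_two.2 h2
  exact ringChar.of_eq h3

/-- `Qa a` is homogeneous of degree two -/
theorem p6_Qa_smul (a : Fin m ⊕ Fin m → F) (c : F) (v : Fin m ⊕ Fin m → F) :
    Qa a (c • v) = c ^ 2 * Qa a v := by
  unfold Qa Cfsg.quadFormPlus
  rw [sympForm_smul_right, mul_add, Finset.mul_sum]
  congr 1
  · refine Finset.sum_congr rfl fun i _ => ?_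
    simp only [Pi.smul_apply, smul_eq_mul]
    ring
  · ring

/-- in characteristic two the polar form of `Qa a` is the standard alternating form -/
theorem p6_Qa_add [CharP F 2] (a u v : Fin m ⊕ Fin m → F) :
    Qa a (u + v) = Qa a u + Qa a v + Cfsg.sympForm m F u v := by
  have h2 : (2 : F) = 0 := CharTwo.two_eq_zero
  unfold Qa Cfsg.quadFormPlus
  rw [sympForm_add_right, sympForm_eq_sum u v]
  have e1 : ∑ i : Fin m, (u + v) (Sum.inl i) * (u + v) (Sum.inr i) =
      ∑ i : Fin m, u (Sum.inl i) * u (Sum.inr i) + ∑ i : Fin m, v (Sum.inl i) * v (Sum.inr i) +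
        ∑ i : Fin m, (u (Sum.inr i) * v (Sum.inl i) - u (Sum.inl i) * v (Sum.inr i)) := by
    rw [← Finset.sum_add_distrib, ← Finset.sum_add_distrib]
    refine Finset.sum_congr rfl fun i _ => ?_
    simp only [Pi.add_apply]
    linear_combination (u (Sum.inl i) * v (Sum.inr i)) * h2
  rw [e1]
  linear_combination (Cfsg.sympForm m F a u * Cfsg.sympForm m F a v) * h2

/-- (6C) an isometry between two of the forms conjugates the stabilisers. -/
theorem conj_of_isometry [Fintype F] (heven : ¬ Odd (Fintype.card F)) (a b : Fin m ⊕ Fin m → F)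
    (C : (Fin m ⊕ Fin m → F) ≃ₗ[F] (Fin m ⊕ Fin m → F)) (hC : ∀ w, Qa b (C w) = Qa a w)
    (A : Matrix.symplecticGroup (Fin m) F) (hA : A ∈ stab (Qa a)) :
    ∃ x : Matrix.symplecticGroup (Fin m) F, x * A * x⁻¹ ∈ stab (Qa b) := by
  have : CharP F 2 := p6_charP_two heven
  set X : Matrix (Fin m ⊕ Fin m) (Fin m ⊕ Fin m) F := LinearMap.toMatrix' C.toLinearMap with hX
  have hXv : ∀ v, X *ᵥ v = C v := by
    intro v
    rw [hX, LinearMap.toMatrix'_mulVec]
    rfl
  have hpres : ∀ u v, Cfsg.sympForm m F (C u) (C v) = Cfsg.sympForm m F u v := by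
    intro u v
    have h1 := p6_Qa_add b (C u) (C v)
    have h2 := p6_Qa_add a u v
    rw [← map_add, hC, hC, hC] at h1
    rw [h1] at h2
    exact (add_left_cancel h2)
  have hXmem : X ∈ Matrix.symplecticGroup (Fin m) F := by
    rw [mem_symplecticGroup_iff_preserves]
    intro u v
    rw [hXv, hXv, hpres]
  refine ⟨⟨X, hXmem⟩, ?_⟩
  rw [mem_stab]
  intro v
  set x : Matrix.symplecticGroup (Fin m) F := ⟨X, hXmem⟩ with hx
  set w : Fin m ⊕ Fin m → F :=
    ((x⁻¹ : Matrix.symplecticGroup (Fin m) F) : Matrix (Fin m ⊕ Fin m) (Fin m ⊕ Fin m) F) *ᵥ v with hw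
  have h1 : X * ((x⁻¹ : Matrix.symplecticGroup (Fin m) F) :
      Matrix (Fin m ⊕ Fin m) (Fin m ⊕ Fin m) F) = 1 := by
    have : ((x * x⁻¹ : Matrix.symplecticGroup (Fin m) F) :
        Matrix (Fin m ⊕ Fin m) (Fin m ⊕ Fin m) F) = 1 := by rw [mul_inv_cancel]; rfl
    exact this
  have hv : X *ᵥ w = v := by
    rw [hw, Matrix.mulVec_mulVec, h1, Matrix.one_mulVec]
  have hprod : ((x * A * x⁻¹ : Matrix.symplecticGroup (Fin m) F) :
      Matrix (Fin m ⊕ Fin m) (Fin m ⊕ Fin m) F) *ᵥ v =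
      X *ᵥ ((A : Matrix (Fin m ⊕ Fin m) (Fin m ⊕ Fin m) F) *ᵥ w) := by
    have : ((x * A * x⁻¹ : Matrix.symplecticGroup (Fin m) F) :
        Matrix (Fin m ⊕ Fin m) (Fin m ⊕ Fin m) F) =
        X * (A : Matrix (Fin m ⊕ Fin m) (Fin m ⊕ Fin m) F) *
          ((x⁻¹ : Matrix.symplecticGroup (Fin m) F) :
            Matrix (Fin m ⊕ Fin m) (Fin m ⊕ Fin m) F) := rfl
    rw [this, hw, Matrix.mulVec_mulVec, Matrix.mulVec_mulVec, Matrix.mul_assoc]
  rw [hprod, hXv, hC, (mem_stab.1 hA) w, ← hC, ← hXv, hv]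

end Cfsg.Agent.Helper30.Cov2.P6
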