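import Cfsg.Agent.Helper43.Cov2.P6Defs
import Cfsg.Agent.Helper30.Cov2P66C

/-!
# (6D) of helper43's S2500 part 6 farm (#11744): the stabilisers of the forms `Qa a` are proper subgroups of
`Sp_{2m}(F)`, `m ≥ 2`, characteristic 2
-/

set_option autoImplicit false

namespace Cfsg.Agent.Helper30.Cov2.P6

open Matrix Cfsg.Agent.Helper43.Cov2.P6 Cfsg.Agent.Helper13

variable {F : Type*} [Field F] {m : ℕ}

/-- a transvection with centre `e` preserving `Qa a` forces `Qa a e = 1` -/
theorem p6_Qa_eq_one_of_transvection [CharP F 2] (a e x : Fin m ⊕ Fin m → F)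
    (hx : Cfsg.sympForm m F x e = 1)
    (hT : (⟨Cfsg.sympTransvection m e 1, sympTransvection_mem e 1⟩ :
      Matrix.symplecticGroup (Fin m) F) ∈ stab (Qa a)) : Qa a e = 1 := by
  have h := (mem_stab.1 hT) x
  change Qa a (Cfsg.sympTransvection m e 1 *ᵥ x) = Qa a x at h
  rw [sympTransvection_mulVec, hx, mul_one, one_smul, p6_Qa_add, hx] at h
  have h0 : Qa a e + 1 = 0 := by
    have h' : Qa a x + (Qa a e + 1) = Qa a x + 0 := by rw [add_zero, ← add_assoc]; exact h
    exact add_left_cancel h'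
  have h1 : Qa a e = -1 := eq_neg_of_add_eq_zero_left h0
  rw [h1, CharTwo.neg_eq]

theorem p6_sympForm_single_inr_inl (i j : Fin m) :
    Cfsg.sympForm m F (Pi.single (Sum.inr i) 1) (Pi.single (Sum.inl j) 1) = if i = j then 1 else 0 := by
  rw [sympForm_eq_sum]
  simp only [Pi.single_apply, Sum.inr.injEq, Sum.inl.injEq, reduceCtorEq, if_false, zero_mul, sub_zero]
  by_cases hij : i = j
  · subst hij
    rw [if_pos rfl, Finset.sum_eq_single i]
    · rw [if_pos rfl, mul_one]
    · intro k _ hk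
      rw [if_neg hk, zero_mul]
    · intro h; exact absurd (Finset.mem_univ _) h
  · rw [if_neg hij]
    apply Finset.sum_eq_zero
    intro k _
    by_cases hk : k = i
    · rw [if_neg (show ¬ k = j from fun h => hij (hk ▸ h)), mul_zero]
    · rw [if_neg hk, zero_mul]

theorem p6_sympForm_single_inl_inl (i j : Fin m) :
    Cfsg.sympForm m F (Pi.single (Sum.inl i) 1) (Pi.single (Sum.inl j) 1) = 0 := by
  rw [sympForm_eq_sum]
  simp only [Pi.single_apply, Sum.inl.injEq, reduceCtorEq, if_false, zero_mul,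
    mul_zero, sub_zero, Finset.sum_const_zero]

/-- (6D) the stabilisers are proper. -/
theorem stab_ne_top [Fintype F] (hm : 2 ≤ m) (heven : ¬ Odd (Fintype.card F))
    (a : Fin m ⊕ Fin m → F) : stab (Qa a) ≠ ⊤ := by
  have : CharP F 2 := p6_charP_two heven
  intro htop
  have hall : ∀ g : Matrix.symplecticGroup (Fin m) F, g ∈ stab (Qa a) := by
    intro g; rw [htop]; exact Subgroup.mem_top g
  set i0 : Fin m := ⟨0, by omega⟩ with hi0
  set i1 : Fin m := ⟨1, by omega⟩ with hi1
  have h01 : i0 ≠ i1 := by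
    intro h
    have := congrArg Fin.val h
    simp [hi0, hi1] at this
  set e1 : Fin m ⊕ Fin m → F := Pi.single (Sum.inl i0) 1 with he1
  set e2 : Fin m ⊕ Fin m → F := Pi.single (Sum.inl i1) 1 with he2
  set x : Fin m ⊕ Fin m → F := Pi.single (Sum.inr i0) 1 with hx
  set y : Fin m ⊕ Fin m → F := Pi.single (Sum.inr i1) 1 with hy
  have hq1 : Qa a e1 = 1 := by
    apply p6_Qa_eq_one_of_transvection a e1 x _ (hall _)
    rw [hx, he1, p6_sympForm_single_inr_inl, if_pos rfl]
  have hq2 : Qa a e2 = 1 := by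
    apply p6_Qa_eq_one_of_transvection a e2 y _ (hall _)
    rw [hy, he2, p6_sympForm_single_inr_inl, if_pos rfl]
  have hq3 : Qa a (e1 + e2) = 1 := by
    apply p6_Qa_eq_one_of_transvection a (e1 + e2) x _ (hall _)
    rw [sympForm_add_right, hx, he1, he2, p6_sympForm_single_inr_inl, p6_sympForm_single_inr_inl,
      if_pos rfl, if_neg h01, add_zero]
  rw [p6_Qa_add, hq1, hq2, he1, he2, p6_sympForm_single_inl_inl, add_zero,
    CharTwo.add_self_eq_zero] at hq3
  exact zero_ne_one hq3

end Cfsg.Agent.Helper30.Cov2.P6
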