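import Cfsg.Agent.Helper43.Cov2.P6Defs
import Cfsg.Agent.Helper30.Cov2P66D
import Cfsg.Agent.S0246

/-!
# (6E) of helper43's S2500 part 6 farm (#11744): the stabilisers of the forms `Qa a` contain the centre of
`Sp_{2m}(F)`
-/

set_option autoImplicit false

namespace Cfsg.Agent.Helper30.Cov2.P6

open Matrix Cfsg.Agent.Helper43.Cov2.P6 Cfsg.Agent.Helper13

variable {F : Type*} [Field F] {m : ℕ}

/-- (6E) the stabilisers contain the centre. -/
theorem center_le_stab (a : Fin m ⊕ Fin m → F) :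
    Subgroup.center (Matrix.symplecticGroup (Fin m) F) ≤ stab (Qa a) := by
  intro Z hZ
  rw [mem_stab]
  intro v
  obtain ⟨c, hc⟩ := Cfsg.Agent.S0246.central_scalar Z hZ
  rcases Nat.eq_zero_or_pos m with hm | hm
  · subst hm
    have : Subsingleton (Fin 0 ⊕ Fin 0 → F) := inferInstance
    rw [Subsingleton.elim ((Z : Matrix (Fin 0 ⊕ Fin 0) (Fin 0 ⊕ Fin 0) F) *ᵥ v) v]
  · set i0 : Fin m := ⟨0, hm⟩ with hi0
    have hZv : ∀ w, (Z : Matrix (Fin m ⊕ Fin m) (Fin m ⊕ Fin m) F) *ᵥ w = c • w := by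
      intro w
      rw [hc, Matrix.smul_mulVec, Matrix.one_mulVec]
    have hpres := (mem_symplecticGroup_iff_preserves
      (Z : Matrix (Fin m ⊕ Fin m) (Fin m ⊕ Fin m) F)).1 Z.2
      (Pi.single (Sum.inr i0) 1) (Pi.single (Sum.inl i0) 1)
    rw [hZv, hZv, sympForm_smul_left, sympForm_smul_right, p6_sympForm_single_inr_inl,
      if_pos rfl, mul_one] at hpres
    rw [hZv, p6_Qa_smul, pow_two, hpres, one_mul]

end Cfsg.Agent.Helper30.Cov2.P6
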