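import Cfsg.Agent.Helper43.Cov2.P7Defs
import Cfsg.Agent.Helper30.Cov2P66D

/-!
# (7D1) of helper43's S2500 part 7 farm (#12305): the stabiliser of the standard plane is a proper subgroup
of `Sp₆(F)`
-/

set_option autoImplicit false

namespace Cfsg.Agent.Helper30.Cov2.P7

open Matrix Cfsg.Agent.Helper43.Cov2.P7 Cfsg.Agent.Helper13

variable {F : Type*} [Field F]

theorem d1_P0_apply_inl_one (u : V6 F) (hu : u ∈ P0 F) : u (Sum.inl 1) = 0 := by
  unfold P0 at hu
  rw [Submodule.mem_span_pair] at hu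
  obtain ⟨a, b, rfl⟩ := hu
  simp

/-- (7D1) -/
theorem stabPlane_ne_top : stabPlane F ≠ ⊤ := by
  intro htop
  set e : V6 F := Pi.single (Sum.inl 0) 1 + Pi.single (Sum.inl 1) 1 with he
  set v : V6 F := Pi.single (Sum.inr 0) 1 with hv
  have ht : (⟨Cfsg.sympTransvection 3 e 1, sympTransvection_mem e 1⟩ : Sp6 F) ∈ stabPlane F := by
    rw [htop]; exact Subgroup.mem_top _
  have hmem := (mem_stabSub.1 ht v).1 (by
    unfold P0
    exact Submodule.subset_span (by simp [hv]))
  change Cfsg.sympTransvection 3 e 1 *ᵥ v ∈ P0 F at hmem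
  have hf : Cfsg.sympForm 3 F v e = 1 := by
    rw [he, hv, sympForm_add_right, Cfsg.Agent.Helper30.Cov2.P6.p6_sympForm_single_inr_inl,
      Cfsg.Agent.Helper30.Cov2.P6.p6_sympForm_single_inr_inl, if_pos rfl,
      if_neg (by decide), add_zero]
  rw [sympTransvection_mulVec, hf, mul_one, one_smul] at hmem
  have h0 := d1_P0_apply_inl_one _ hmem
  rw [he, hv] at h0
  simp at h0

end Cfsg.Agent.Helper30.Cov2.P7
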