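import Cfsg.Agent.Helper43.Cov2.P7Defs
import Cfsg.Agent.S0246

/-!
# (7D2) of helper43's S2500 part 7 farm (#12305): the centre of `Sp₆(F)` lies in the stabiliser of the
standard plane
-/

set_option autoImplicit false

namespace Cfsg.Agent.Helper30.Cov2.P7

open Matrix Cfsg.Agent.Helper43.Cov2.P7 Cfsg.Agent.Helper13

variable {F : Type*} [Field F]

/-- (7D2) -/
theorem center_le_stabPlane : Subgroup.center (Sp6 F) ≤ stabPlane F := by
  intro Z hZ
  obtain ⟨c, hc⟩ := Cfsg.Agent.S0246.central_scalar Z hZ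
  have hc0 : c ≠ 0 := by
    rintro rfl
    rw [zero_smul] at hc
    have h1 := coe_mul_inv_Sp6 Z
    rw [hc, zero_mul] at h1
    have h2 := congrFun (congrFun h1 (Sum.inl 0)) (Sum.inl 0)
    rw [Matrix.zero_apply, Matrix.one_apply_eq] at h2
    exact zero_ne_one h2
  show Z ∈ stabSub (P0 F)
  rw [mem_stabSub]
  intro v
  rw [hc, Matrix.smul_mulVec, Matrix.one_mulVec]
  exact (Submodule.smul_mem_iff _ hc0).symm

end Cfsg.Agent.Helper30.Cov2.P7
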