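import Cfsg.Agent.Helper43.Cov2.P7Defs

/-!
# (A2) of helper43's S2500 part 7 farm (#12305): a semisimple `s` with `(s ∓ 1)² = 0` is `± 1`
-/

set_option autoImplicit false
set_option linter.unusedVariables false

namespace Cfsg.Agent.Helper30.Cov2.P7

open Matrix Cfsg.Agent.Helper43.Cov2.P7

variable {F : Type*} [Field F]

theorem a2_char_three [Fintype F] (a : ℕ) (ha : 1 ≤ a) (hF : Fintype.card F = 3 ^ a) : CharP F 3 := by
  obtain ⟨p, hp⟩ := CharP.exists F
  have hpp : Fact p.Prime := ⟨CharP.char_is_prime F p⟩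
  have h1 : p ∣ Fintype.card F := by
    have : ((Fintype.card F : ℕ) : F) = 0 := Nat.cast_card_eq_zero F
    exact (CharP.cast_eq_zero_iff F p _).1 this
  rw [hF] at h1
  have h2 : p ∣ 3 := (Fact.out : p.Prime).dvd_of_dvd_pow h1
  have h3 : p = 3 := (Nat.prime_dvd_prime_iff_eq Fact.out Nat.prime_three).1 h2
  exact h3 ▸ hp

/-- the unipotent case: `(S - 1)² = 0` and `S^m = 1` with `m` invertible force `S = 1` -/
theorem a2_core {n : Type*} [Fintype n] [DecidableEq n] (S : Matrix n n F) (m : ℕ)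
    (hm : (m : F) ≠ 0) (hSm : S ^ m = 1) (h : S * S - (2 : F) • S + 1 = 0) : S = 1 := by
  set N : Matrix n n F := S - 1 with hN
  have hNN : N * N = 0 := by
    rw [hN, Matrix.sub_mul, Matrix.mul_sub, Matrix.mul_sub, Matrix.mul_one, Matrix.one_mul,
      Matrix.mul_one, ← h, two_smul]
    abel
  have hS : S = 1 + N := by rw [hN]; abel
  have hpow : ∀ k : ℕ, (1 + N) ^ k = 1 + (k : F) • N := by
    intro k
    induction k with
    | zero => simp
    | succ k ih =>
      rw [pow_succ, ih, Matrix.add_mul, Matrix.mul_add, Matrix.mul_add, Matrix.one_mul,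
        Matrix.mul_one, Matrix.smul_mul, hNN, smul_zero, add_zero, Nat.cast_succ, add_smul,
        one_smul, Matrix.one_mul]
      abel
  rw [hS, hpow m] at hSm
  have h0 : (m : F) • N = 0 := by
    have : 1 + (m : F) • N = 1 + 0 := by rw [add_zero]; exact hSm
    exact add_left_cancel this
  have hN0 : N = 0 := by
    rcases smul_eq_zero.1 h0 with h' | h'
    · exact absurd h' hm
    · exact h'
  rw [hS, hN0, add_zero]

/-- (A2) a semisimple `s` with `(s ∓ 1)² = 0` is `± 1`. -/
theorem pm_one_of_sq [Fintype F] (a : ℕ) (ha : 1 ≤ a) (hF : Fintype.card F = 3 ^ a) (s : Sp6 F)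
    (m : ℕ) (hm : Nat.Coprime m 3) (hsm : s ^ m = 1) (γ : F) (hγ : γ ^ 2 = 4)
    (hs : (s : M6 F) * (s : M6 F) - γ • (s : M6 F) + 1 = 0) :
    (s : M6 F) = 1 ∨ (s : M6 F) = -1 := by
  have hch : CharP F 3 := a2_char_three a ha hF
  have hcast : ∀ k : ℕ, Nat.Coprime k 3 → (k : F) ≠ 0 := by
    intro k hk h0
    have h3 : 3 ∣ k := (CharP.cast_eq_zero_iff F 3 k).1 h0
    have : 3 ∣ Nat.gcd k 3 := Nat.dvd_gcd h3 dvd_rfl
    rw [hk] at this
    omega
  have hsm' : (s : M6 F) ^ m = 1 := by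
    have := congrArg (fun x : Sp6 F => (x : M6 F)) hsm
    simpa using this
  have hγ' : γ = 2 ∨ γ = -2 := by
    have : (γ - 2) * (γ + 2) = 0 := by linear_combination hγ
    rcases mul_eq_zero.1 this with h' | h'
    · left; linear_combination h'
    · right; linear_combination h'
  rcases hγ' with rfl | rfl
  · left
    exact a2_core (s : M6 F) m (hcast m hm) hsm' hs
  · right
    have h2m : Nat.Coprime (2 * m) 3 := Nat.Coprime.mul_left (by decide) hm
    have hpow : (-(s : M6 F)) ^ (2 * m) = 1 := by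
      rw [pow_mul, neg_sq, ← pow_mul, mul_comm, pow_mul, hsm', one_pow]
    have hq : (-(s : M6 F)) * (-(s : M6 F)) - (2 : F) • (-(s : M6 F)) + 1 = 0 := by
      rw [← hs, neg_mul_neg, smul_neg, neg_smul]
    have := a2_core (-(s : M6 F)) (2 * m) (hcast _ h2m) hpow hq
    rw [← this, neg_neg]

end Cfsg.Agent.Helper30.Cov2.P7
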