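import Cfsg.Agent.Helper43.Cov2.P7Defs
import Cfsg.Agent.Helper30.Cov2P66D

/-!
# (U1) of helper43's S2500 part 7 farm (#12305): the identity stabilises a non-degenerate plane
-/

set_option autoImplicit false

namespace Cfsg.Agent.Helper30.Cov2.P7

open Matrix Cfsg.Agent.Helper43.Cov2.P7 Cfsg.Agent.Helper13

variable {F : Type*} [Field F]

/-- (U1) -/
theorem fixesPlane_one : FixesPlane (1 : M6 F) := by
  refine ⟨Pi.single (Sum.inr 0) 1, Pi.single (Sum.inl 0) 1, ?_, ⟨1, 0, ?_⟩, ⟨0, 1, ?_⟩⟩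
  · rw [Cfsg.Agent.Helper30.Cov2.P6.p6_sympForm_single_inr_inl, if_pos rfl]
    exact one_ne_zero
  · rw [Matrix.one_mulVec, one_smul, zero_smul, add_zero]
  · rw [Matrix.one_mulVec, one_smul, zero_smul, zero_add]

end Cfsg.Agent.Helper30.Cov2.P7
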