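import Mathlib
import Cfsg.Agent.Helper43.EB.Defs
import Cfsg.Agent.Helper66.EBL1
import Cfsg.Agent.Helper93.EBL8b

/-! Piece (L7), non-Schur part, of S5877 (for helper43): for a non-scalar `z ∈ Γ` with `z ^ r = 1`,
there is `x ∈ Γ` with `z x = ω x z`, the eigenspaces of `z` for the `r`-th roots of unity all have
dimension `dim V / r`, and the group induced on such an eigenspace contains the scalars and commutes
up to powers of `ω`. -/

set_option autoImplicit false

namespace Cfsg.Agent.Helper30.EBL7a

open Cfsg.Agent.Helper43.EB Module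

variable {F : Type*} [Field F] {V : Type*} [AddCommGroup V] [Module F V]

/-- a non-scalar `z ∈ Γ` is shifted by some `x ∈ Γ`: `z x = ω x z` -/
theorem exists_shift {r : ℕ} (hr : r.Prime) {ω : F}
    (hω : IsPrimitiveRoot ω r) {Γ : Subgroup (Module.End F V)ˣ} (hΓ : SympType r ω Γ)
    {z : (Module.End F V)ˣ} (hz : z ∈ Γ) (hzns : ¬ IsScalar (z : Module.End F V)) :
    ∃ x ∈ Γ, (z : Module.End F V) * (x : Module.End F V) =
      ω • ((x : Module.End F V) * (z : Module.End F V)) := by
  have hex : ∃ b ∈ Γ, (z : Module.End F V) * (b : Module.End F V) ≠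
      (b : Module.End F V) * (z : Module.End F V) := by
    by_contra hcon
    push Not at hcon
    exact hzns (hΓ.schur z (fun b hb => hcon b hb))
  obtain ⟨b, hb, hzb⟩ := hex
  obtain ⟨k, hk⟩ := hΓ.comm z hz b hb
  have hne1 : ω ^ k ≠ 1 := by
    intro h
    rw [h, one_smul] at hk
    exact hzb hk
  have hndvd : ¬ r ∣ k := fun hdvd => hne1 ((hω.pow_eq_one_iff_dvd k).2 hdvd)
  have hcop : Nat.Coprime k r := by
    rw [Nat.coprime_comm, hr.coprime_iff_not_dvd]
    exact hndvd
  obtain ⟨m, -, hm⟩ := Nat.exists_mul_mod_eq_one_of_coprime hcop hr.one_lt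
  refine ⟨b ^ m, Γ.pow_mem hb m, ?_⟩
  have h1 := Cfsg.Agent.Helper66.EBL1.mul_pow_comm hk m
  rw [Units.val_pow_eq_pow_val, h1]
  congr 1
  rw [← pow_mul, ← Nat.div_add_mod (k * m) r, hm, pow_add, pow_mul, hω.pow_eq_one, one_pow,
    one_mul, pow_one]

/-- if `z x = ω x z` then `x ^ i` maps the `μ`-eigenspace of `z` into the `ω ^ i μ`-eigenspace -/
theorem finrank_eig_le [FiniteDimensional F V] {ω : F} {z x : (Module.End F V)ˣ}
    (hzx : (z : Module.End F V) * (x : Module.End F V) =
      ω • ((x : Module.End F V) * (z : Module.End F V))) (μ : F) (i : ℕ) :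
    finrank F (Module.End.eigenspace (z : Module.End F V) μ) ≤
      finrank F (Module.End.eigenspace (z : Module.End F V) (ω ^ i * μ)) := by
  have hBi : Function.Injective ((x ^ i : (Module.End F V)ˣ) : Module.End F V) :=
    Cfsg.Agent.Helper66.EBL1.unit_injective (x ^ i)
  have hmap : (Module.End.eigenspace (z : Module.End F V) μ).map
      ((x ^ i : (Module.End F V)ˣ) : Module.End F V) ≤
      Module.End.eigenspace (z : Module.End F V) (ω ^ i * μ) := by
    rintro _ ⟨v, hv, rfl⟩
    rw [SetLike.mem_coe, Module.End.mem_eigenspace_iff] at hv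
    rw [Module.End.mem_eigenspace_iff, Units.val_pow_eq_pow_val]
    have h2 := LinearMap.congr_fun (Cfsg.Agent.Helper66.EBL1.mul_pow_comm hzx i) v
    rw [Module.End.mul_apply, LinearMap.smul_apply, Module.End.mul_apply, hv, map_smul,
      smul_smul] at h2
    exact h2
  calc finrank F (Module.End.eigenspace (z : Module.End F V) μ)
      = finrank F ((Module.End.eigenspace (z : Module.End F V) μ).map
          ((x ^ i : (Module.End F V)ˣ) : Module.End F V)) :=
        LinearEquiv.finrank_eq (Submodule.equivMapOfInjective _ hBi _)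
    _ ≤ _ := Submodule.finrank_mono hmap

/-- the eigenspaces of `z` for the `r`-th roots of unity all have dimension `dim V / r` -/
theorem finrank_eig [FiniteDimensional F V] {r : ℕ} (hr : r.Prime) {ω : F}
    (hω : IsPrimitiveRoot ω r) {Γ : Subgroup (Module.End F V)ˣ} (hΓ : SympType r ω Γ)
    {z : (Module.End F V)ˣ} (hz : z ∈ Γ) (hzr : z ^ r = 1) (hzns : ¬ IsScalar (z : Module.End F V))
    (j : ℕ) :
    r * finrank F (Module.End.eigenspace (z : Module.End F V) (ω ^ j)) = finrank F V := by
  obtain ⟨x, -, hzx⟩ := exists_shift hr hω hΓ hz hzns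
  have hle : ∀ a b : ℕ, finrank F (Module.End.eigenspace (z : Module.End F V) (ω ^ a)) ≤
      finrank F (Module.End.eigenspace (z : Module.End F V) (ω ^ b)) := by
    intro a b
    have h := finrank_eig_le hzx (ω ^ a) (b + (r - 1) * a)
    have h2 : ω ^ (b + (r - 1) * a) * ω ^ a = ω ^ b := by
      rw [← pow_add]
      have h3 : b + (r - 1) * a + a = b + r * a := by
        have : r - 1 + 1 = r := Nat.sub_add_cancel hr.one_lt.le
        calc b + (r - 1) * a + a = b + (r - 1 + 1) * a := by ring
          _ = b + r * a := by rw [this]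
      rw [h3, pow_add, pow_mul, hω.pow_eq_one, one_pow, mul_one]
    rwa [h2] at h
  have heq : ∀ a : ℕ, finrank F (Module.End.eigenspace (z : Module.End F V) (ω ^ a)) =
      finrank F (Module.End.eigenspace (z : Module.End F V) (ω ^ j)) :=
    fun a => le_antisymm (hle a j) (hle j a)
  have hsum := Cfsg.Agent.Helper93.EBL8b.finrank_eq_sum (V := V) hr hω (z := z)
    (g := (1 : (Module.End F V)ˣ)) hzr (by rw [mul_one, one_mul]) 1
  have htop : Module.End.eigenspace (((1 : (Module.End F V)ˣ)) : Module.End F V) (1 : F) = ⊤ := by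
    rw [eq_top_iff]
    intro v _
    rw [Module.End.mem_eigenspace_iff]
    simp
  rw [htop] at hsum
  have hti : ∀ a : ℕ, finrank F ↥((⊤ : Submodule F V) ⊓
      Module.End.eigenspace (z : Module.End F V) (ω ^ a)) =
      finrank F (Module.End.eigenspace (z : Module.End F V) (ω ^ j)) := by
    intro a
    rw [← heq a]
    exact congrArg (fun p : Submodule F V => finrank F p) (top_inf_eq _)
  rw [finrank_top, Finset.sum_congr rfl (fun a _ => hti a)] at hsum
  rw [hsum]
  simp

/-- (L7) minus the Schur property -/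
theorem sympType_res_of_schur [FiniteDimensional F V] {r : ℕ} (hr : r.Prime) {ω : F}
    (hω : IsPrimitiveRoot ω r) {Γ : Subgroup (Module.End F V)ˣ} (hΓ : SympType r ω Γ)
    {z : (Module.End F V)ˣ} (hz : z ∈ Γ) (hzr : z ^ r = 1) (hzns : ¬ IsScalar (z : Module.End F V))
    (j : ℕ)
    (hS : ∀ M : Module.End F ↥(Module.End.eigenspace (z : Module.End F V) (ω ^ j)),
      (∀ u ∈ resGroup Γ (Module.End.eigenspace (z : Module.End F V) (ω ^ j)),
        M * (u : Module.End F ↥(Module.End.eigenspace (z : Module.End F V) (ω ^ j))) =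
          (u : Module.End F ↥(Module.End.eigenspace (z : Module.End F V) (ω ^ j))) * M) →
        IsScalar M) :
    SympType r ω (resGroup Γ (Module.End.eigenspace (z : Module.End F V) (ω ^ j))) ∧
      r * finrank F (Module.End.eigenspace (z : Module.End F V) (ω ^ j)) = finrank F V := by
  refine ⟨⟨?_, ?_, hS⟩, finrank_eig hr hω hΓ hz hzr hzns j⟩
  · intro c
    exact mem_resGroup.mpr ⟨sc c, hΓ.scalar_mem c, fun x => by simp⟩
  · rintro u ⟨a, ha, hua⟩ v ⟨b, hb, hvb⟩
    obtain ⟨k, hk⟩ := hΓ.comm a ha b hb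
    refine ⟨k, ?_⟩
    ext x
    rw [Module.End.mul_apply, LinearMap.smul_apply, Module.End.mul_apply, Submodule.coe_smul,
      hua, hvb, hvb, hua]
    have h := LinearMap.congr_fun hk (x : V)
    rw [Module.End.mul_apply, LinearMap.smul_apply, Module.End.mul_apply] at h
    exact h

end Cfsg.Agent.Helper30.EBL7a
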