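import Mathlib

/-!
# S4385 piece (K4): a group of order four generated by involutions is a Klein four-group
-/

set_option autoImplicit false

universe u

namespace Cfsg.Agent.Helper30.GD

/-- (K4) order 4 ⇒ abelian; generated by involutions ⇒ exponent 2 ⇒ `IsKleinFour`; `IsKleinFour.nonempty_mulEquiv`. -/
theorem klein_of_card_four {X : Type*} [Group X] (hc : Nat.card X = 4) (s : Set X)
    (hs : ∀ z ∈ s, z * z = 1) (hgen : Subgroup.closure s = ⊤) :
    Nonempty (X ≃* Multiplicative (ZMod 2) × Multiplicative (ZMod 2)) := by
  classical
  have hfin : Finite X := Nat.finite_of_card_ne_zero (by rw [hc]; norm_num)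
  have hp2 : Fact (Nat.Prime 2) := ⟨Nat.prime_two⟩
  have hcomm : ∀ a b : X, a * b = b * a := by
    have hmc : IsMulCommutative X :=
      IsPGroup.isMulCommutative_of_card_eq_prime_sq (p := 2) (by rw [hc]; norm_num)
    intro a b
    exact hmc.is_comm.comm a b
  -- every element squares to one
  have hsq : ∀ z : X, z * z = 1 := by
    intro z
    have hz : z ∈ Subgroup.closure s := by rw [hgen]; trivial
    induction hz using Subgroup.closure_induction with
    | mem z hz => exact hs z hz
    | one => simp
    | mul a b _ _ ha hb =>
      calc a * b * (a * b) = a * (b * a) * b := by group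
        _ = a * (a * b) * b := by rw [hcomm b a]
        _ = (a * a) * (b * b) := by group
        _ = 1 := by rw [ha, hb, one_mul]
    | inv a _ ha =>
      have : a⁻¹ = a := by
        rw [inv_eq_iff_mul_eq_one]; exact ha
      rw [this, ha]
  have hexp : Monoid.exponent X = 2 := by
    have hdvd : Monoid.exponent X ∣ 2 := by
      apply Monoid.exponent_dvd_of_forall_pow_eq_one
      intro z
      rw [pow_two]; exact hsq z
    rcases (Nat.dvd_prime Nat.prime_two).1 hdvd with h | h
    · exfalso
      have hsub : Subsingleton X := Monoid.exp_eq_one_iff.1 h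
      have : Nat.card X = 1 := Nat.card_unique
      omega
    · exact h
  have hK : IsKleinFour X := ⟨hc, hexp⟩
  obtain ⟨e⟩ : Nonempty (X ≃* Multiplicative (ZMod 2 × ZMod 2)) := IsKleinFour.nonempty_mulEquiv
  exact ⟨e.trans (MulEquiv.prodMultiplicative _ _)⟩

end Cfsg.Agent.Helper30.GD
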