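import Mathlib
import Cfsg.Prelude.Def_Solvable
import Cfsg.Prelude.Def_CaseTheorems
import Cfsg.Agent.Helper42.GD.Core

/-!
# S4385 piece (UFIN): `U` of small length as the closure of an explicit finite set
-/

set_option autoImplicit false

universe u

namespace Cfsg.Agent.Helper30.GD

open Pointwise Cfsg Cfsg.Agent.Helper8.Sims3 Cfsg.Agent.Helper8.Glaub Cfsg.Agent.Helper42.GD

theorem UFIN_closure_insert {G : Type*} [Group G] (z : G) (s : Set G) :
    Subgroup.closure (insert z s) = Subgroup.zpowers z ⊔ Subgroup.closure s := by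
  rw [Set.insert_eq, Subgroup.closure_union, Subgroup.zpowers_eq_closure]

/-- (UFIN) `U` of small length as closure of an explicit finite set (`U x a m = closure (x '' Set.Ico a (a + m))`). -/
theorem U_explicit {G : Type*} [Group G] (x : ℤ → G) (a : ℤ) :
    U x a 1 = Subgroup.closure {x a} ∧
    U x a 2 = Subgroup.closure {x a, x (a + 1)} ∧
    U x a 3 = Subgroup.closure {x a, x (a + 1), x (a + 2)} ∧
    U x a 4 = Subgroup.closure {x a, x (a + 1), x (a + 2), x (a + 3)} ∧
    U x a 5 = Subgroup.closure {x a, x (a + 1), x (a + 2), x (a + 3), x (a + 4)} := by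
  have h1 : ∀ b : ℤ, U x b 1 = Subgroup.closure {x b} := by
    intro b
    rw [U_one, Subgroup.zpowers_eq_closure]
  have h2 : ∀ b : ℤ, U x b 2 = Subgroup.closure {x b, x (b + 1)} := by
    intro b
    rw [show (2 : ℕ) = 1 + 1 from rfl, U_succ_left, h1, UFIN_closure_insert (x b)]
  have h3 : ∀ b : ℤ, U x b 3 = Subgroup.closure {x b, x (b + 1), x (b + 2)} := by
    intro b
    rw [show (3 : ℕ) = 2 + 1 from rfl, U_succ_left, h2, UFIN_closure_insert (x b),
      show b + 1 + 1 = b + 2 by ring]
  have h4 : ∀ b : ℤ, U x b 4 = Subgroup.closure {x b, x (b + 1), x (b + 2), x (b + 3)} := by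
    intro b
    rw [show (4 : ℕ) = 3 + 1 from rfl, U_succ_left, h3, UFIN_closure_insert (x b),
      show b + 1 + 1 = b + 2 by ring, show b + 1 + 2 = b + 3 by ring]
  have h5 : ∀ b : ℤ,
      U x b 5 = Subgroup.closure {x b, x (b + 1), x (b + 2), x (b + 3), x (b + 4)} := by
    intro b
    rw [show (5 : ℕ) = 4 + 1 from rfl, U_succ_left, h4, UFIN_closure_insert (x b),
      show b + 1 + 1 = b + 2 by ring, show b + 1 + 2 = b + 3 by ring,
      show b + 1 + 3 = b + 4 by ring]
  exact ⟨h1 a, h2 a, h3 a, h4 a, h5 a⟩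

end Cfsg.Agent.Helper30.GD
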