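import Mathlib

/-!
# (IIa) of helper16's S4427 farm (#12085): weighted orbit counting for a permutation of `p`-power order
without fixed points (pure Mathlib)
-/

set_option autoImplicit false

namespace Cfsg.Agent.Helper30.PC

/-- (IIa) weighted orbit counting for a permutation of `p`-power order without fixed points. -/
theorem PC_IIa {R : Type*} [CommRing R] {α : Type*} [DecidableEq α] (p N : ℕ) [Fact p.Prime]
    (σ : Equiv.Perm α) (hσ : σ ^ (p ^ N) = 1) (w : α → R) (hw : ∀ a, w (σ a) = w a)
    (S : Finset α) (hS : ∀ a ∈ S, σ a ∈ S) (hfix : ∀ a ∈ S, σ a ≠ a) :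
    ∃ c : R, ∑ a ∈ S, w a = (p : R) * c := by
  have hp : p.Prime := Fact.out
  induction S using Finset.strongInduction with
  | H S ih =>
    rcases S.eq_empty_or_nonempty with rfl | ⟨a, ha⟩
    · exact ⟨0, by simp⟩
    have hper : Function.IsPeriodicPt σ (p ^ N) a := by
      unfold Function.IsPeriodicPt Function.IsFixedPt
      rw [Equiv.Perm.iterate_eq_pow, hσ]
      rfl
    have hmpos : 0 < Function.minimalPeriod σ a := hper.minimalPeriod_pos (pow_pos hp.pos N)
    have hmdvd : Function.minimalPeriod σ a ∣ p ^ N := hper.minimalPeriod_dvd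
    obtain ⟨j, hj, hmj⟩ := (Nat.dvd_prime_pow hp).1 hmdvd
    have hj0 : j ≠ 0 := by
      rintro rfl
      rw [pow_zero] at hmj
      exact hfix a ha (Function.minimalPeriod_eq_one_iff_isFixedPt.1 hmj)
    set m := Function.minimalPeriod σ a with hm
    set O : Finset α := (Finset.range m).image (fun k => σ^[k] a) with hO
    have hiter : ∀ k, σ^[k] a ∈ O := by
      intro k
      rw [hO, Finset.mem_image]
      exact ⟨k % m, Finset.mem_range.2 (Nat.mod_lt _ hmpos),
        Function.iterate_mod_minimalPeriod_eq⟩
    have hiterS : ∀ k, σ^[k] a ∈ S := by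
      intro k
      induction k with
      | zero => exact ha
      | succ k ih' => rw [Function.iterate_succ_apply']; exact hS _ ih'
    have hOS : O ⊆ S := by
      intro b hb
      rw [hO, Finset.mem_image] at hb
      obtain ⟨k, -, rfl⟩ := hb
      exact hiterS k
    have hwO : ∀ b ∈ O, w b = w a := by
      intro b hb
      rw [hO, Finset.mem_image] at hb
      obtain ⟨k, -, rfl⟩ := hb
      induction k with
      | zero => rfl
      | succ k ih' => rw [Function.iterate_succ_apply', hw, ih']
    have hcard : O.card = m := by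
      rw [hO, Finset.card_image_of_injOn, Finset.card_range]
      intro x hx y hy hxy
      exact Function.iterate_injOn_Iio_minimalPeriod (by simpa using hx) (by simpa using hy) hxy
    have hsd : S \ O ⊂ S := by
      refine Finset.sdiff_ssubset hOS ⟨a, ?_⟩
      have := hiter 0
      simpa using this
    have hstab : ∀ b ∈ S \ O, σ b ∈ S \ O := by
      intro b hb
      rw [Finset.mem_sdiff] at hb ⊢
      refine ⟨hS b hb.1, fun hσb => hb.2 ?_⟩
      rw [hO, Finset.mem_image] at hσb
      obtain ⟨k, -, hk⟩ := hσb
      have h1 : σ^[k + m] a = σ^[k] a := by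
        rw [Function.iterate_add_apply, hm, Function.iterate_minimalPeriod]
      have h2 : σ (σ^[k + m - 1] a) = σ b := by
        have h3 : σ (σ^[k + m - 1] a) = σ^[(k + m - 1).succ] a :=
          (Function.iterate_succ_apply' σ (k + m - 1) a).symm
        rw [h3, show (k + m - 1).succ = k + m by omega, h1]
        exact hk
      rw [← σ.injective h2]
      exact hiter _
    obtain ⟨c, hc⟩ := ih (S \ O) hsd hstab (fun b hb => hfix b (Finset.mem_sdiff.1 hb).1)
    obtain ⟨j', rfl⟩ := Nat.exists_eq_succ_of_ne_zero hj0
    refine ⟨c + (p : R) ^ j' * w a, ?_⟩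
    rw [← Finset.sum_sdiff hOS, hc, Finset.sum_congr rfl hwO, Finset.sum_const, hcard, hmj,
      nsmul_eq_mul]
    push_cast
    rw [pow_succ]
    ring

end Cfsg.Agent.Helper30.PC
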