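-- helper30: piece (O5) of helper99's S2474 farm (#10721): an isometry of order `r` of a non-degenerate quadratic
-- space of dimension `2η`, from a fixed-point-free element of order `r` of `Sp_{2η}(q)`.
import Mathlib
import Cfsg.Prelude.Def_Classical
import Cfsg.Agent.Helper99.PGDefs
import Cfsg.Agent.Helper99.SympBilin
import Cfsg.Agent.Helper38.SpAdj2
import Cfsg.Agent.Helper40.SylowGL
import Cfsg.Agent.Helper44.SpToOrth
import Cfsg.Agent.S2472

set_option autoImplicit false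

universe u

namespace Cfsg.Agent.Helper30.PG

open Module Matrix

/-- `η` is `η(k)` for the order `k` of `q` modulo `r` -/
theorem eta_cases (q r η : ℕ) [Fact r.Prime] (hq : 1 ≤ q) (hrq : ¬ r ∣ q) (hdvd : r ∣ q ^ (2 * η) - 1)
    (hmin : ∀ i : ℕ, 0 < i → r ∣ q ^ (2 * i) - 1 → η ∣ i) :
    (Odd (orderOf (q : ZMod r)) ∧ η = orderOf (q : ZMod r)) ∨
      (Even (orderOf (q : ZMod r)) ∧ 2 * η = orderOf (q : ZMod r)) := by
  obtain ⟨k, hk⟩ : ∃ k, k = orderOf (q : ZMod r) := ⟨_, rfl⟩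
  rw [← hk]
  have hk0 : 0 < k := by
    rw [hk]
    exact Cfsg.Agent.Helper40.ordq_pos hrq
  have h1 : k ∣ 2 * η := by
    rw [hk]
    exact (Cfsg.Agent.Helper40.dvd_pow_sub_one_iff hq _).mp hdvd
  have h2 : ∀ i, 0 < i → k ∣ 2 * i → η ∣ i := by
    intro i hi h
    rw [hk] at h
    exact hmin i hi ((Cfsg.Agent.Helper40.dvd_pow_sub_one_iff hq _).mpr h)
  rcases Nat.even_or_odd k with he | ho
  · right
    refine ⟨he, ?_⟩
    obtain ⟨k', hk'⟩ := he
    have hk'0 : 0 < k' := by omega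
    have h3 : η ∣ k' := h2 k' hk'0 (by rw [hk', two_mul])
    have h4 : k' ∣ η := by
      have h5 : 2 * k' ∣ 2 * η := by
        rw [two_mul k', ← hk']
        exact h1
      exact Nat.dvd_of_mul_dvd_mul_left (by norm_num) h5
    have := Nat.dvd_antisymm h3 h4
    omega
  · left
    refine ⟨ho, ?_⟩
    have h3 : η ∣ k := h2 k hk0 (dvd_mul_left k 2)
    have h4 : k ∣ η := (Nat.Coprime.dvd_of_dvd_mul_left ho.coprime_two_right h1)
    exact Nat.dvd_antisymm h3 h4

variable {F : Type u} [Field F] [Fintype F]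

theorem exists_evenForm_orderOf (h2 : (2 : F) ≠ 0) (η r : ℕ) (hη : 1 ≤ η) (hr : r.Prime)
    (hr2 : r ≠ 2) (hrq : ¬ r ∣ Fintype.card F) (hdvd : r ∣ Fintype.card F ^ (2 * η) - 1)
    (hmin : ∀ i : ℕ, 0 < i → r ∣ Fintype.card F ^ (2 * i) - 1 → η ∣ i) :
    ∃ Q₁ : QuadraticForm F (Fin η ⊕ Fin η → F),
      (∀ x, (∀ y, QuadraticMap.polar Q₁ x y = 0) → x = 0) ∧
      ∃ a₁ : ↥(Cfsg.isometryGroup F ⇑Q₁), orderOf a₁ = r := by
  classical
  have : Fact r.Prime := ⟨hr⟩
  have hq : 1 ≤ Fintype.card F := Fintype.card_pos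
  have hrodd : Odd r := hr.odd_of_ne_two hr2
  obtain ⟨y, hy⟩ := Cfsg.Agent.S2472.exists_orderOf_sp (F := F) η r η hη le_rfl hdvd
  obtain ⟨A, hA⟩ : ∃ A : Matrix (Fin η ⊕ Fin η) (Fin η ⊕ Fin η) F,
      A = (y : Matrix (Fin η ⊕ Fin η) (Fin η ⊕ Fin η) F) := ⟨_, rfl⟩
  have hordA : orderOf A = r := by
    rw [hA, ← hy]
    exact orderOf_submonoid y
  have hAr : A ^ r = 1 := by
    rw [← hordA]
    exact pow_orderOf_eq_one A
  have hA1 : A ≠ 1 := by
    intro h
    rw [h, orderOf_one] at hordA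
    exact hr.one_lt.ne hordA
  have hrpos : 0 < r := hr.pos
  have hAA : A * A ^ (r - 1) = 1 := by
    rw [← pow_succ', Nat.sub_add_cancel hrpos, hAr]
  have hAA' : A ^ (r - 1) * A = 1 := by
    rw [← pow_succ, Nat.sub_add_cancel hrpos, hAr]
  -- the characteristic does not divide `r`
  have hr0 : (r : F) ≠ 0 := by
    obtain ⟨p, hp⟩ := CharP.exists F
    have := hp
    intro h
    have h1 := (CharP.cast_eq_zero_iff F p r).mp h
    have hpp : p.Prime := CharP.char_is_prime F p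
    have h3 : p = r := (Nat.prime_dvd_prime_iff_eq hpp hr).mp h1
    have h4 : p ∣ Fintype.card F := (CharP.cast_eq_zero_iff F p _).mp (Nat.cast_card_eq_zero F)
    exact hrq (h3 ▸ h4)
  -- the linear maps
  let φ := Matrix.toLinAlgEquiv' (R := F) (n := Fin η ⊕ Fin η)
  have hφ := (Matrix.toLinAlgEquiv' (R := F) (n := Fin η ⊕ Fin η)).injective
  obtain ⟨g, hg⟩ : ∃ g : Module.End F (Fin η ⊕ Fin η → F), g = φ A := ⟨_, rfl⟩
  obtain ⟨h, hh⟩ : ∃ h : Module.End F (Fin η ⊕ Fin η → F), h = φ (A ^ (r - 1)) := ⟨_, rfl⟩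
  have hgapp : ∀ x, g x = A *ᵥ x := by
    intro x
    rw [hg]
    rfl
  have hgr : g ^ r = 1 := by rw [hg, ← map_pow, hAr, map_one]
  have hg1 : g ≠ 1 := by
    intro h'
    apply hA1
    apply hφ
    rw [← hg, h', map_one]
  have hgh : ∀ x, g (h x) = x := by
    intro x
    have : g * h = 1 := by rw [hg, hh, ← map_mul, hAA, map_one]
    rw [← Module.End.mul_apply, this, Module.End.one_apply]
  have hhg : ∀ x, h (g x) = x := by
    intro x
    have : h * g = 1 := by rw [hg, hh, ← map_mul, hAA', map_one]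
    rw [← Module.End.mul_apply, this, Module.End.one_apply]
  have hgB : ∀ u v, Cfsg.Agent.Helper99.sympBilin η F (g u) (g v) = Cfsg.Agent.Helper99.sympBilin η F u v := by
    intro u v
    rw [hg, hA]
    exact Cfsg.Agent.Helper99.sympBilin_toLin y u v
  -- no fixed vectors
  have hηk := eta_cases (Fintype.card F) r η hq hrq hdvd hmin
  obtain ⟨hdv, hpos⟩ := Cfsg.Agent.Helper38.two_eta_dvd_finrank_range (Cfsg.Agent.Helper99.sympBilin η F)
    Cfsg.Agent.Helper99.sympBilin_isAlt (Cfsg.Agent.S2472.sympBilin_nondegenerate η) g hgB r hgr hg1 hrq hr0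
    (orderOf ((Fintype.card F : ℕ) : ZMod r)) η rfl hηk
  have hfin : finrank F (Fin η ⊕ Fin η → F) = 2 * η := by
    rw [Module.finrank_fintype_fun_eq_card, Fintype.card_sum, Fintype.card_fin, two_mul]
  have hle : finrank F (LinearMap.range (g - 1)) ≤ 2 * η := by
    rw [← hfin]
    exact Submodule.finrank_le _
  have hrange : finrank F (LinearMap.range (g - 1)) = 2 * η :=
    le_antisymm hle (Nat.le_of_dvd hpos hdv)
  have hker : finrank F (LinearMap.ker (g - 1)) = 0 := by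
    have := LinearMap.finrank_range_add_finrank_ker (g - 1)
    omega
  have hfix1 : ∀ x, g x = x → x = 0 := by
    intro x hx
    have hmem : x ∈ LinearMap.ker (g - 1) := by
      rw [LinearMap.mem_ker, LinearMap.sub_apply, hx, Module.End.one_apply, sub_self]
    rw [Submodule.finrank_eq_zero.mp hker] at hmem
    exact (Submodule.mem_bot F).mp hmem
  have hfix : ∀ x, g (g x) = x → x = 0 := by
    intro x hx
    apply hfix1
    obtain ⟨m, hm⟩ := hrodd
    have h2' : ∀ j : ℕ, ((g ^ 2) ^ j) x = x := by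
      intro j
      induction j with
      | zero => rw [pow_zero, Module.End.one_apply]
      | succ j ih =>
        rw [pow_succ, Module.End.mul_apply]
        have e : (g ^ 2) x = x := by rw [pow_two, Module.End.mul_apply, hx]
        rw [e, ih]
    have h3 : (g ^ r) x = g x := by
      rw [hm, pow_succ', Module.End.mul_apply, pow_mul, h2']
    rw [← h3, hgr, Module.End.one_apply]
  obtain ⟨Q, hQnd, hinv⟩ := Cfsg.Agent.Helper44.QType.exists_invariant_quadratic_odd h2
    (Cfsg.Agent.Helper99.sympBilin η F) Cfsg.Agent.Helper99.sympBilin_isAlt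
    (Cfsg.Agent.S2472.sympBilin_nondegenerate η).1 g h hgh hhg hgB hfix
  refine ⟨Q, hQnd, ?_⟩
  let U : GL (Fin η ⊕ Fin η) F := ⟨A, A ^ (r - 1), hAA, hAA'⟩
  have hU : U ∈ Cfsg.isometryGroup F ⇑Q := by
    intro v w
    have := hinv v
    rw [hgapp] at this
    exact this
  refine ⟨⟨U, hU⟩, ?_⟩
  have h5 : orderOf (⟨U, hU⟩ : ↥(Cfsg.isometryGroup F ⇑Q)) = orderOf U :=
    (Subgroup.orderOf_coe (⟨U, hU⟩ : ↥(Cfsg.isometryGroup F ⇑Q))).symm
  have h6 : orderOf U = orderOf (U : Matrix (Fin η ⊕ Fin η) (Fin η ⊕ Fin η) F) := (orderOf_units).symm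
  rw [h5, h6]
  exact hordA

end Cfsg.Agent.Helper30.PG
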