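-- helper30: piece (S4) of helper99's S2474 farm (#10721): elements of order `2s` in `PSp_{2n}(q)` when `4s ∣ q^n ∓ 1`.
import Mathlib
import Cfsg.Prelude.Def_Classical
import Cfsg.Agent.Helper99.PGDefs
import Cfsg.Agent.Helper38.PSLLift
import Cfsg.Agent.Helper38.SpTorus
import Cfsg.Agent.Helper40.SylowSp
import Cfsg.Agent.S0246

set_option autoImplicit false

universe u

namespace Cfsg.Agent.Helper30.PG

open Module Matrix

/-- an element of order `4s` gives an element of order `2s` modulo a centre of exponent two -/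
theorem exists_orderOf_quot_center {G : Type*} [Group G] (X : G) (s : ℕ) (hs : 0 < s) (hX : orderOf X = 4 * s)
    (hZ : ∀ z ∈ Subgroup.center G, z ^ 2 = 1) : ∃ y : G ⧸ Subgroup.center G, orderOf y = 2 * s := by
  obtain ⟨d, hd⟩ : ∃ d, d = orderOf (QuotientGroup.mk X : G ⧸ Subgroup.center G) := ⟨_, rfl⟩
  have h1 : d ∣ 4 * s := by
    rw [hd, ← hX]
    exact orderOf_map_dvd (QuotientGroup.mk' (Subgroup.center G)) X
  have hd0 : d ≠ 0 := by
    rintro rfl
    have := Nat.eq_zero_of_zero_dvd h1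
    omega
  have h2 : X ^ d ∈ Subgroup.center G := by
    rw [← QuotientGroup.eq_one_iff, QuotientGroup.mk_pow, hd]
    exact pow_orderOf_eq_one _
  have h3 : X ^ (d * 2) = 1 := by
    rw [pow_mul]
    exact hZ _ h2
  have h4 : 4 * s ∣ d * 2 := by
    rw [← hX]
    exact orderOf_dvd_of_pow_eq_one h3
  obtain ⟨k, hk⟩ : 2 * s ∣ d := by
    obtain ⟨k, hk⟩ := h4
    exact ⟨k, by nlinarith⟩
  have hk0 : k ≠ 0 := by
    rintro rfl
    exact hd0 (by rw [hk, mul_zero])
  refine ⟨(QuotientGroup.mk X : G ⧸ Subgroup.center G) ^ k, ?_⟩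
  rw [orderOf_pow_of_dvd hk0 (by rw [← hd, hk]; exact dvd_mul_left k (2 * s)), ← hd, hk,
    Nat.mul_div_cancel _ (Nat.pos_of_ne_zero hk0)]

variable {F : Type u} [Field F] [Fintype F]

theorem sq_eq_one_of_mem_center_sp (n : ℕ) (hn : 1 ≤ n)
    (z : ↥(Matrix.symplecticGroup (Fin n) F)) (hz : z ∈ Subgroup.center (↥(Matrix.symplecticGroup (Fin n) F))) :
    z ^ 2 = 1 := by
  have hcard := Cfsg.Agent.S0246.result (F := F) rfl n hn
  have h2 : Nat.card (Subgroup.center (↥(Matrix.symplecticGroup (Fin n) F))) ∣ 2 := by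
    rw [hcard]
    exact Nat.gcd_dvd_left _ _
  have h3 : (⟨z, hz⟩ : Subgroup.center (↥(Matrix.symplecticGroup (Fin n) F))) ^ 2 = 1 := by
    obtain ⟨k, hk⟩ := h2
    rw [hk, pow_mul, pow_card_eq_one', one_pow]
  exact congrArg Subtype.val h3

theorem psp_of_dvd (n : ℕ) (hn : 1 ≤ n) (s : ℕ) (hs : s.Prime) (hs2 : s ≠ 2)
    (h : 4 * s ∣ Fintype.card F ^ n - 1 ∨ 4 * s ∣ Fintype.card F ^ n + 1) :
    2 * s ∈ Set.range (orderOf : Cfsg.PSp n F → ℕ) := by
  obtain ⟨X, hX⟩ : ∃ X : ↥(Matrix.symplecticGroup (Fin n) F), orderOf X = 4 * s := by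
    rcases h with h | h
    · obtain ⟨A, hA⟩ := Cfsg.Agent.Helper38.exists_matrix_orderOf (F := F) n hn (4 * s) h
      have hA1 : A ^ (4 * s) = 1 := by
        rw [← hA]
        exact pow_orderOf_eq_one A
      have hpos : 4 * s ≠ 0 := by
        have := hs.pos
        omega
      have hu : IsUnit A := IsUnit.of_pow_eq_one hA1 hpos
      obtain ⟨u, rfl⟩ := hu
      refine ⟨Cfsg.Agent.Helper40.glToSp n u, ?_⟩
      rw [orderOf_injective _ (Cfsg.Agent.Helper40.glToSp_injective n), ← hA, orderOf_units]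
    · exact Cfsg.Agent.Helper38.exists_sp_orderOf_of_dvd_pow_add_one n hn (4 * s) h
  obtain ⟨y, hy⟩ := exists_orderOf_quot_center X s hs.pos hX (sq_eq_one_of_mem_center_sp n hn)
  exact ⟨y, hy⟩

end Cfsg.Agent.Helper30.PG
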