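import Mathlib

set_option autoImplicit false

namespace Cfsg.Agent.Helper30.PIT

open Matrix

/-- Abstract determinant trick over a (possibly noncommutative) ring `R` with a ring hom `π` onto
a commutative ring `Λ` (with a set-theoretic section `ρ`): if the row vector `x` is killed by the
matrix `D`, then `x j * ρ (det (π D))` is a combination `∑ x i * c i` with all `c i ∈ ker π`. -/
theorem adjugate_trick {R Λ ι : Type*} [Ring R] [CommRing Λ] [Fintype ι] [DecidableEq ι]
    (π : R →+* Λ) (ρ : Λ → R) (hρ : ∀ y, π (ρ y) = y)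
    (x : ι → R) (D : Matrix ι ι R) (hD : ∀ k, ∑ i, x i * D i k = 0) (j : ι) :
    ∃ c : ι → R, (∀ i, π (c i) = 0) ∧ x j * ρ (D.map π).det = ∑ i, x i * c i := by
  set d : Λ := (D.map π).det with hd
  set B : Matrix ι ι R := ((D.map π).adjugate).map ρ with hB
  have hBπ : B.map π = (D.map π).adjugate := by
    ext a b
    simp [hB, hρ]
  have hP : (D * B).map π = d • (1 : Matrix ι ι Λ) := by
    rw [Matrix.map_mul, hBπ, Matrix.mul_adjugate]
  have hsum : ∀ b, ∑ i, x i * (D * B) i b = 0 := by
    intro b
    have : ∀ i, x i * (D * B) i b = ∑ k, (x i * D i k) * B k b := by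
      intro i
      rw [Matrix.mul_apply, Finset.mul_sum]
      exact Finset.sum_congr rfl (fun k _ => (mul_assoc _ _ _).symm)
    simp_rw [this]
    rw [Finset.sum_comm]
    have : ∀ k, ∑ i, x i * D i k * B k b = (∑ i, x i * D i k) * B k b := by
      intro k; rw [Finset.sum_mul]
    simp_rw [this, hD, zero_mul, Finset.sum_const_zero]
  refine ⟨fun i => (if i = j then ρ d else 0) - (D * B) i j, ?_, ?_⟩
  · intro i
    have h1 : π ((D * B) i j) = (d • (1 : Matrix ι ι Λ)) i j := by
      rw [← hP]; rfl
    rw [map_sub, h1]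
    by_cases hij : i = j
    · subst hij; simp [hρ]
    · simp [hij]
  · have := hsum j
    simp_rw [mul_sub, Finset.sum_sub_distrib, this, sub_zero]
    simp [Finset.sum_ite_eq']

end Cfsg.Agent.Helper30.PIT
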