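import Cfsg.Agent.Helper30.PITRing

set_option autoImplicit false

namespace Cfsg.Agent.Helper30.PIT

open MonoidAlgebra

variable {G : Type*} [Group G] [Fintype G]

attribute [local instance] quotCommGroup

/-- `FoxRel g v`: `g - 1 = ∑ i, (i - 1) * D i` for some `D` with augmentations `v`. -/
def FoxRel (g : G) (v : G → ℤ) : Prop :=
  ∃ D : G → MonoidAlgebra ℤ G,
    of ℤ G g - 1 = ∑ i, (of ℤ G i - 1) * D i ∧ ∀ i, epsHom G (D i) = v i

theorem foxRel_one : FoxRel (1 : G) 0 :=
  ⟨fun _ => 0, by rw [map_one, sub_self]; simp, fun _ => by simp⟩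

theorem foxRel_gen [DecidableEq G] (g : G) : FoxRel g (Pi.single g 1) := by
  refine ⟨fun i => if i = g then 1 else 0, ?_, ?_⟩
  · simp [Finset.sum_ite_eq']
  · intro i
    by_cases h : i = g
    · subst h; simp
    · simp [h]

theorem foxRel_mul {g g' : G} {v v' : G → ℤ} (h : FoxRel g v) (h' : FoxRel g' v') :
    FoxRel (g * g') (v + v') := by
  obtain ⟨D, hD, hDe⟩ := h
  obtain ⟨D', hD', hDe'⟩ := h'
  refine ⟨fun i => D i * of ℤ G g' + D' i, ?_, ?_⟩
  · have : of ℤ G (g * g') - 1 = (of ℤ G g - 1) * of ℤ G g' + (of ℤ G g' - 1) := by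
      rw [map_mul]; noncomm_ring
    rw [this, hD, hD', Finset.sum_mul, ← Finset.sum_add_distrib]
    refine Finset.sum_congr rfl (fun i _ => ?_)
    rw [mul_add, mul_assoc]
  · intro i
    simp [hDe, hDe', epsHom_single]

theorem foxRel_inv {g : G} {v : G → ℤ} (h : FoxRel g v) : FoxRel g⁻¹ (-v) := by
  obtain ⟨D, hD, hDe⟩ := h
  refine ⟨fun i => -(D i * of ℤ G g⁻¹), ?_, ?_⟩
  · have : of ℤ G g⁻¹ - 1 = -((of ℤ G g - 1) * of ℤ G g⁻¹) := by
      rw [sub_mul, ← map_mul, mul_inv_cancel, map_one]; noncomm_ring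
    rw [this, hD, Finset.sum_mul, ← Finset.sum_neg_distrib]
    refine Finset.sum_congr rfl (fun i _ => ?_)
    rw [mul_neg, mul_assoc]
  · intro i
    simp [hDe, epsHom_single]

/-- The canonical map `ℤ^G → G/G'` (written additively). -/
noncomputable def thetaHom (G : Type*) [Group G] [Fintype G] :
    (G → ℤ) →+ Additive (G ⧸ commutator G) :=
  ∑ g : G, (zmultiplesHom _ (Additive.ofMul (g : G ⧸ commutator G))).comp
    (Pi.evalAddMonoidHom (fun _ => ℤ) g)

theorem thetaHom_apply (v : G → ℤ) :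
    thetaHom G v = ∑ g : G, v g • Additive.ofMul (g : G ⧸ commutator G) := by
  simp [thetaHom]

theorem thetaHom_single [DecidableEq G] (g : G) :
    thetaHom G (Pi.single g 1) = Additive.ofMul (g : G ⧸ commutator G) := by
  rw [thetaHom_apply, Finset.sum_eq_single g]
  · simp
  · intro b _ hb; simp [hb]
  · intro h; exact absurd (Finset.mem_univ g) h

/-- Every vector `v` is the exponent vector of some `g` with `FoxRel g v` and `g ≡ θ(v)`. -/
theorem exists_foxRel (v : G → ℤ) :
    ∃ g : G, FoxRel g v ∧ Additive.ofMul (g : G ⧸ commutator G) = thetaHom G v := by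
  classical
  let W : AddSubgroup (G → ℤ) :=
    { carrier := {v | ∃ g : G, FoxRel g v ∧ Additive.ofMul (g : G ⧸ commutator G) = thetaHom G v}
      zero_mem' := ⟨1, foxRel_one, by simp⟩
      add_mem' := by
        rintro v v' ⟨g, hg, hgθ⟩ ⟨g', hg', hgθ'⟩
        refine ⟨g * g', foxRel_mul hg hg', ?_⟩
        rw [map_add, ← hgθ, ← hgθ', QuotientGroup.mk_mul, ofMul_mul]
      neg_mem' := by
        rintro v ⟨g, hg, hgθ⟩
        refine ⟨g⁻¹, foxRel_inv hg, ?_⟩
        rw [map_neg, ← hgθ, QuotientGroup.mk_inv, ofMul_inv] }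
  have hsingle : ∀ (g : G) (z : ℤ), Pi.single g z ∈ W := by
    intro g z
    have h1 : (Pi.single g (1 : ℤ) : G → ℤ) ∈ W := ⟨g, foxRel_gen g, (thetaHom_single g).symm⟩
    have h2 : (Pi.single g z : G → ℤ) = z • Pi.single g (1 : ℤ) := by
      ext j
      by_cases hj : j = g
      · subst hj; simp
      · simp [hj]
    rw [h2]
    exact W.zsmul_mem h1 z
  have hv : v ∈ W := by
    rw [← Finset.univ_sum_single v]
    exact W.sum_mem (fun g _ => hsingle g (v g))
  exact hv

theorem foxRel_of_mem_commutator {c : G} (hc : c ∈ commutator G) : FoxRel c 0 := by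
  classical
  let S : Subgroup G :=
    { carrier := {c | FoxRel c 0}
      one_mem' := foxRel_one
      mul_mem' := by
        intro a b ha hb
        have := foxRel_mul ha hb
        simpa using this
      inv_mem' := by
        intro a ha
        have := foxRel_inv ha
        simpa using this }
  have hle : commutator G ≤ S := by
    rw [commutator_eq_closure, Subgroup.closure_le]
    rintro _ ⟨a, b, rfl⟩
    have h := foxRel_mul (foxRel_mul (foxRel_mul (foxRel_gen a) (foxRel_gen b))
      (foxRel_inv (foxRel_gen a))) (foxRel_inv (foxRel_gen b))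
    have e : Pi.single a (1 : ℤ) + Pi.single b 1 + -Pi.single a 1 + -Pi.single b 1
        = (0 : G → ℤ) := by abel
    rw [e] at h
    exact h
  exact hle hc

/-- Relations among the `i - 1` with prescribed augmentation vector in the kernel lattice. -/
theorem exists_relation (v : G → ℤ) (hv : thetaHom G v = 0) :
    ∃ D : G → MonoidAlgebra ℤ G,
      ∑ i, (of ℤ G i - 1) * D i = 0 ∧ ∀ i, epsHom G (D i) = v i := by
  obtain ⟨g, hg, hgθ⟩ := exists_foxRel v
  rw [hv] at hgθ
  have hgc : g ∈ commutator G := by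
    have : (g : G ⧸ commutator G) = 1 := hgθ
    exact (QuotientGroup.eq_one_iff g).1 this
  have h1 := foxRel_mul hg (foxRel_inv (foxRel_of_mem_commutator hgc))
  rw [mul_inv_cancel, neg_zero, add_zero] at h1
  obtain ⟨D, hD, hDe⟩ := h1
  refine ⟨D, ?_, hDe⟩
  rw [← hD, map_one, sub_self]

end Cfsg.Agent.Helper30.PIT
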