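import Cfsg.Agent.Helper30.PITFox

set_option autoImplicit false

namespace Cfsg.Agent.Helper30.PIT

open MonoidAlgebra Module

variable {G : Type*} [Group G] [Fintype G]

attribute [local instance] quotCommGroup

theorem thetaHom_surjective : Function.Surjective (thetaHom G) := by
  classical
  intro q
  obtain ⟨g, hg⟩ := QuotientGroup.mk_surjective (Additive.toMul q)
  exact ⟨Pi.single g 1, by rw [thetaHom_single, hg]; rfl⟩

/-- There is a square integer matrix whose columns lie in the kernel lattice of `thetaHom` and
whose determinant is, up to sign, the order of `G/G'`. -/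
theorem exists_lattice_matrix [DecidableEq G] :
    ∃ m : Matrix G G ℤ, (∀ k, thetaHom G (fun i => m i k) = 0) ∧
      m.det.natAbs = Nat.card (G ⧸ commutator G) := by
  set K : AddSubgroup (G → ℤ) := (thetaHom G).ker with hK
  have hidx : K.index = Nat.card (G ⧸ commutator G) := by
    rw [hK, AddSubgroup.index_ker, AddMonoidHom.range_eq_top.2 thetaHom_surjective]
    rw [Nat.card_congr (AddSubgroup.topEquiv (G := Additive (G ⧸ commutator G))).toEquiv]
    exact Nat.card_congr Additive.toMul
  have hfin : Finite ((G → ℤ) ⧸ K) := by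
    apply AddSubgroup.index_ne_zero_iff_finite.1
    rw [hidx]
    exact Nat.card_pos.ne'
  set N : Submodule ℤ (G → ℤ) := AddSubgroup.toIntSubmodule K with hN
  have hfinN : Finite ((G → ℤ) ⧸ N) := hfin
  have hrank : finrank ℤ N = Fintype.card G := by
    rw [(Submodule.finiteQuotient_iff N).1 hfinN, Module.finrank_pi]
  let b0 : Basis (Fin (Fintype.card G)) ℤ N := Module.finBasisOfFinrankEq ℤ N hrank
  let bN : Basis G ℤ N := b0.reindex (Fintype.equivFin G).symm
  have hdet := Submodule.natAbs_det_basis_change (Pi.basisFun ℤ G) N bN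
  refine ⟨fun i k => (bN k : G → ℤ) i, ?_, ?_⟩
  · intro k
    have : (bN k : G → ℤ) ∈ K := (bN k).2
    exact this
  · have e1 : Nat.card ((G → ℤ) ⧸ N) = K.index := rfl
    rw [e1, hidx] at hdet
    rw [← hdet, Basis.det_apply]
    congr 2

end Cfsg.Agent.Helper30.PIT
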