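import Cfsg.Agent.Helper30.PITAdj
import Cfsg.Agent.Helper30.PITLattice

set_option autoImplicit false

namespace Cfsg.Agent.Helper30.PIT

open MonoidAlgebra Module

attribute [local instance] quotCommGroup

/-- The norm element of a finite group ring. -/
noncomputable def normElt (Q : Type*) [Group Q] [Fintype Q] : MonoidAlgebra ℤ Q :=
  ∑ q : Q, of ℤ Q q

theorem coeff_normElt (Q : Type*) [Group Q] [Fintype Q] (q : Q) : (normElt Q).coeff q = 1 := by
  classical
  rw [normElt, MonoidAlgebra.coeff_sum, Finsupp.finsetSum_apply, Finset.sum_eq_single q]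
  · simp
  · intro b _ hb
    simp [hb]
  · intro h; exact absurd (Finset.mem_univ q) h

/-- An element of `ℤ[Q]` killed by all `q - 1` is a multiple of the norm element. -/
theorem eq_smul_normElt {Q : Type*} [Group Q] [Fintype Q] (d : MonoidAlgebra ℤ Q)
    (hd : ∀ q : Q, (of ℤ Q q - 1) * d = 0) : d = (d.coeff 1) • normElt Q := by
  have h1 : ∀ q : Q, d.coeff q = d.coeff 1 := by
    intro q
    have := hd q
    rw [sub_mul, one_mul, sub_eq_zero] at this
    have h2 := congrArg (fun y : MonoidAlgebra ℤ Q => y.coeff q) this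
    simp only [of_apply, coeff_single_mul_apply, one_mul, inv_mul_cancel] at h2
    exact h2.symm
  apply MonoidAlgebra.coeff_injective
  ext q
  rw [MonoidAlgebra.coeff_smul, Finsupp.smul_apply, coeff_normElt, h1 q]
  simp

theorem epsHom_normElt (Q : Type*) [Group Q] [Fintype Q] :
    epsHom Q (normElt Q) = Fintype.card Q := by
  rw [normElt, map_sum]
  simp [epsHom_single]

theorem piHom_repSum (G : Type*) [Group G] [Fintype (G ⧸ commutator G)] :
    piHom G (repSum G) = normElt (G ⧸ commutator G) := by
  rw [repSum, normElt, map_sum]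
  refine Finset.sum_congr rfl (fun q _ => ?_)
  rw [of_apply, piHom_single, QuotientGroup.out_eq', of_apply]

/-- The heart of the principal ideal theorem. -/
theorem phi_sub_one_mul_repSum_eq_zero {G : Type*} [Group G] [Fintype G] [DecidableEq G]
    [Fintype (G ⧸ commutator G)] (g : G) :
    phi G ((of ℤ G g - 1) * repSum G) = 0 := by
  obtain ⟨m, hmθ, hmdet⟩ := exists_lattice_matrix (G := G)
  have hrel := fun k => exists_relation (fun i => m i k) (hmθ k)
  choose Dc hDc1 hDc2 using hrel
  set D : Matrix G G (MonoidAlgebra ℤ G) := fun i k => Dc k i with hDdef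
  set x : G → MonoidAlgebra ℤ G := fun i => of ℤ G i - 1 with hx
  have hD : ∀ k, ∑ i, x i * D i k = 0 := fun k => hDc1 k
  set d : MonoidAlgebra ℤ (G ⧸ commutator G) := (D.map (piHom G)).det with hd
  have htrick := fun j => adjugate_trick (piHom G) (rhoHom G) pi_rho x D hD j
  -- d is invariant
  have hinv : ∀ q : G ⧸ commutator G, (of ℤ (G ⧸ commutator G) q - 1) * d = 0 := by
    intro q
    obtain ⟨j, rfl⟩ := QuotientGroup.mk_surjective q
    obtain ⟨c, hc, hcj⟩ := htrick j
    have := congrArg (piHom G) hcj
    rw [map_mul, pi_rho, map_sum] at this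
    have hz : ∑ i, piHom G (x i * c i) = 0 := by
      apply Finset.sum_eq_zero
      intro i _
      rw [map_mul, hc i, mul_zero]
    rw [hz] at this
    have e : piHom G (x j) = of ℤ (G ⧸ commutator G) (j : G ⧸ commutator G) - 1 := by
      simp only [hx, map_sub, map_one, of_apply, piHom_single]
    rw [← e]
    exact this
  have hdN := eq_smul_normElt d hinv
  set c0 : ℤ := d.coeff 1 with hc0
  -- augmentation of d
  have heps : epsHom (G ⧸ commutator G) d = m.det := by
    rw [hd, RingHom.map_det]
    congr 1
    ext i k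
    simp only [RingHom.mapMatrix_apply, Matrix.map_apply]
    rw [eps_pi]
    exact hDc2 k i
  have hcard : c0 * (Fintype.card (G ⧸ commutator G) : ℤ) = m.det := by
    rw [← heps, hdN, map_zsmul, epsHom_normElt, smul_eq_mul]
  have hc0sq : c0 * c0 = 1 := by
    have hpos : 0 < Fintype.card (G ⧸ commutator G) := Fintype.card_pos
    have h1 : (c0 * (Fintype.card (G ⧸ commutator G) : ℤ)).natAbs
        = Fintype.card (G ⧸ commutator G) := by
      rw [hcard, hmdet, Nat.card_eq_fintype_card]
    rw [Int.natAbs_mul, Int.natAbs_natCast] at h1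
    have h2 : c0.natAbs = 1 := by
      have : c0.natAbs * Fintype.card (G ⧸ commutator G)
          = 1 * Fintype.card (G ⧸ commutator G) := by rw [h1, one_mul]
      exact Nat.eq_of_mul_eq_mul_right hpos this
    rcases Int.natAbs_eq c0 with h | h <;> rw [h, h2] <;> norm_num
  -- decompose repSum
  set k0 : MonoidAlgebra ℤ G := repSum G - c0 • rhoHom G d with hk0
  have hk0π : piHom G k0 = 0 := by
    rw [hk0, map_sub, map_zsmul, pi_rho, piHom_repSum]
    conv_rhs => rw [← sub_self (normElt (G ⧸ commutator G))]
    congr 1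
    rw [hdN, smul_smul, hc0sq, one_smul]
  obtain ⟨c, hc, hcg⟩ := htrick g
  have hdecomp : (of ℤ G g - 1) * repSum G
      = c0 • ∑ i, x i * c i + (of ℤ G g - 1) * k0 := by
    rw [← hcg, hk0, mul_sub, mul_smul_comm]
    abel
  rw [hdecomp, map_add, map_zsmul, map_sum, phi_kills g k0 hk0π, add_zero]
  have : ∑ i, phi G (x i * c i) = 0 := by
    apply Finset.sum_eq_zero
    intro i _
    exact phi_kills i (c i) (hc i)
  rw [this, smul_zero]

end Cfsg.Agent.Helper30.PIT
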