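import Mathlib

set_option autoImplicit false

namespace Cfsg.Agent.Helper30.PIT

open MonoidAlgebra

variable {G : Type*} [Group G]

/-- The commutative group structure on `G ⧸ commutator G` (this is `Abelianization G`). -/
@[reducible] def quotCommGroup (G : Type*) [Group G] : CommGroup (G ⧸ commutator G) :=
  inferInstanceAs (CommGroup (Abelianization G))

attribute [local instance] quotCommGroup

/-- The augmentation map of a group ring. -/
noncomputable def epsHom (M : Type*) [Monoid M] : MonoidAlgebra ℤ M →+* ℤ :=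
  (MonoidAlgebra.lift ℤ ℤ M (1 : M →* ℤ)).toRingHom

theorem epsHom_single (M : Type*) [Monoid M] (m : M) (z : ℤ) :
    epsHom M (single m z) = z := by
  simp [epsHom, MonoidAlgebra.lift_single]

theorem epsHom_of (M : Type*) [Monoid M] (m : M) : epsHom M (of ℤ M m) = 1 := by
  simp [epsHom]

/-- The projection `ℤ[G] → ℤ[G/G']`. -/
noncomputable def piHom (G : Type*) [Group G] :
    MonoidAlgebra ℤ G →+* MonoidAlgebra ℤ (G ⧸ commutator G) :=
  MonoidAlgebra.mapDomainRingHom ℤ (QuotientGroup.mk' (commutator G))

theorem piHom_single (g : G) (z : ℤ) :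
    piHom G (single g z) = single (g : G ⧸ commutator G) z := by
  simp [piHom, MonoidAlgebra.mapDomain_single]

/-- An additive section of `piHom`. -/
noncomputable def rhoHom (G : Type*) [Group G] :
    MonoidAlgebra ℤ (G ⧸ commutator G) →+ MonoidAlgebra ℤ G where
  toFun := MonoidAlgebra.mapDomain Quotient.out
  map_zero' := MonoidAlgebra.mapDomain_zero _
  map_add' := MonoidAlgebra.mapDomain_add _

theorem rhoHom_single (q : G ⧸ commutator G) (z : ℤ) :
    rhoHom G (single q z) = single (Quotient.out q) z := by
  simp [rhoHom, MonoidAlgebra.mapDomain_single]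

theorem pi_rho (y : MonoidAlgebra ℤ (G ⧸ commutator G)) : piHom G (rhoHom G y) = y := by
  have : (piHom G).toAddMonoidHom.comp (rhoHom G) = AddMonoidHom.id _ := by
    apply MonoidAlgebra.addMonoidHom_ext
    intro q z
    simp only [AddMonoidHom.comp_apply, AddMonoidHom.id_apply, RingHom.toAddMonoidHom_eq_coe,
      AddMonoidHom.coe_coe]
    rw [rhoHom_single, piHom_single, QuotientGroup.out_eq']
  exact DFunLike.congr_fun this y

theorem eps_pi (x : MonoidAlgebra ℤ G) :
    epsHom (G ⧸ commutator G) (piHom G x) = epsHom G x := by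
  have : ((epsHom (G ⧸ commutator G)).comp (piHom G)).toAddMonoidHom
      = (epsHom G).toAddMonoidHom := by
    apply MonoidAlgebra.addMonoidHom_ext
    intro g z
    simp only [RingHom.toAddMonoidHom_eq_coe, AddMonoidHom.coe_coe, RingHom.comp_apply]
    rw [piHom_single, epsHom_single, epsHom_single]
  exact DFunLike.congr_fun this x

theorem out_inv_mul_mem (g : G) : ((g : G ⧸ commutator G).out)⁻¹ * g ∈ commutator G := by
  rw [← QuotientGroup.eq]
  exact QuotientGroup.out_eq' _

/-- `lam g` is the class in `H/H'` of the `H`-part of `g` with respect to the transversal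
`Quotient.out`. -/
noncomputable def lam (g : G) : Additive (Abelianization (commutator G)) :=
  Additive.ofMul (Abelianization.of ⟨((g : G ⧸ commutator G).out)⁻¹ * g, out_inv_mul_mem g⟩)

theorem lam_eq (g : G) (q : G ⧸ commutator G) (hq : (g : G ⧸ commutator G) = q) :
    lam g = Additive.ofMul (Abelianization.of
      ⟨q.out⁻¹ * g, by subst hq; exact out_inv_mul_mem g⟩) := by
  subst hq; rfl

theorem lam_mul (g : G) (h : commutator G) :
    lam (g * h) = lam g + Additive.ofMul (Abelianization.of h) := by
  have e : ((g * (h : G) : G) : G ⧸ commutator G) = (g : G ⧸ commutator G) :=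
    QuotientGroup.mk_mul_of_mem g h.2
  rw [lam_eq (g * h) _ e, lam, ← ofMul_mul, ← map_mul]
  congr 2
  apply Subtype.ext
  simp [mul_assoc]

theorem lam_out (q : G ⧸ commutator G) : lam (Quotient.out q) = 0 := by
  rw [lam_eq (Quotient.out q) q (QuotientGroup.out_eq' q)]
  have : (⟨q.out⁻¹ * q.out, by simp⟩ : commutator G) = 1 :=
    Subtype.ext (inv_mul_cancel _)
  simp only [inv_mul_cancel]
  exact congrArg Additive.ofMul (map_one Abelianization.of)

/-- The additive map `ℤ[G] → H/H'` sending `g` to `lam g`. -/
noncomputable def phi (G : Type*) [Group G] :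
    MonoidAlgebra ℤ G →+ Additive (Abelianization (commutator G)) :=
  (Finsupp.liftAddHom (fun g : G => zmultiplesHom _ (lam g))).comp
    (MonoidAlgebra.coeffAddEquiv (R := ℤ) (M := G)).toAddMonoidHom

theorem phi_single (g : G) (z : ℤ) : phi G (single g z) = z • lam g := by
  simp [phi]

theorem of_sub_one_mul_single (i g : G) (z : ℤ) :
    (of ℤ G i - 1) * single g z = single (i * g) z - single g z := by
  rw [sub_mul, one_mul, of_apply, single_mul_single, one_mul]

/-- Key invariance: `phi ((i - 1) x)` only depends on the image of `x` in `ℤ[G/G']`. -/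
theorem phi_sub_one_mul (i : G) (x : MonoidAlgebra ℤ G) :
    phi G ((of ℤ G i - 1) * x) = phi G ((of ℤ G i - 1) * rhoHom G (piHom G x)) := by
  have : (phi G).comp (AddMonoidHom.mulLeft (of ℤ G i - 1))
      = ((phi G).comp (AddMonoidHom.mulLeft (of ℤ G i - 1))).comp
          ((rhoHom G).comp (piHom G).toAddMonoidHom) := by
    apply MonoidAlgebra.addMonoidHom_ext
    intro g z
    simp only [AddMonoidHom.comp_apply, AddMonoidHom.coe_mulLeft, RingHom.toAddMonoidHom_eq_coe,
      AddMonoidHom.coe_coe]
    rw [piHom_single, rhoHom_single, of_sub_one_mul_single, of_sub_one_mul_single, map_sub,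
      map_sub, phi_single, phi_single, phi_single, phi_single]
    -- g = g' * h
    set g' : G := Quotient.out (g : G ⧸ commutator G) with hg'
    have hh : g'⁻¹ * g ∈ commutator G := out_inv_mul_mem g
    have hg : g = g' * (⟨g'⁻¹ * g, hh⟩ : commutator G) := by simp
    have h1 : lam g = lam g' + Additive.ofMul (Abelianization.of ⟨g'⁻¹ * g, hh⟩) := by
      conv_lhs => rw [hg]
      exact lam_mul g' ⟨g'⁻¹ * g, hh⟩
    have h2 : lam (i * g) = lam (i * g') + Additive.ofMul (Abelianization.of ⟨g'⁻¹ * g, hh⟩) := by
      conv_lhs => rw [hg, ← mul_assoc]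
      exact lam_mul (i * g') ⟨g'⁻¹ * g, hh⟩
    rw [h1, h2]
    simp only [smul_add]
    abel
  exact DFunLike.congr_fun this x

theorem phi_kills (i : G) (k : MonoidAlgebra ℤ G) (hk : piHom G k = 0) :
    phi G ((of ℤ G i - 1) * k) = 0 := by
  rw [phi_sub_one_mul, hk, map_zero, mul_zero, map_zero]

/-- The sum of the coset representatives `Quotient.out q`. -/
noncomputable def repSum (G : Type*) [Group G] [Fintype (G ⧸ commutator G)] : MonoidAlgebra ℤ G :=
  ∑ q : G ⧸ commutator G, of ℤ G (Quotient.out q)

theorem phi_sub_one_mul_repSum [Fintype (G ⧸ commutator G)] (g : G) :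
    phi G ((of ℤ G g - 1) * repSum G) = ∑ q : G ⧸ commutator G, lam (g * Quotient.out q) := by
  rw [repSum, Finset.mul_sum, map_sum]
  refine Finset.sum_congr rfl (fun q _ => ?_)
  have : of ℤ G (Quotient.out q) = single (Quotient.out q) (1 : ℤ) := by rw [of_apply]
  rw [this, of_sub_one_mul_single, map_sub, phi_single,
    phi_single, lam_out, one_smul, smul_zero, sub_zero]

theorem sum_reindex [Fintype (G ⧸ commutator G)] (g : G) :
    ∑ q : G ⧸ commutator G, lam (g * Quotient.out q)
      = ∑ q : G ⧸ commutator G, lam (g * Quotient.out (g⁻¹ • q)) :=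
  (Fintype.sum_equiv (MulAction.toPerm (g⁻¹ : G) : Equiv.Perm (G ⧸ commutator G))
    (fun q => lam (g * Quotient.out (g⁻¹ • q)))
    (fun q => lam (g * Quotient.out q)) (fun _ => rfl)).symm

/-- The transfer formula: the transfer of `g` into `H/H'` is `phi ((g - 1) * repSum)`. -/
theorem transfer_eq_phi [Finite G] [Fintype (G ⧸ commutator G)] (g : G) :
    Additive.ofMul (MonoidHom.transfer
      (Abelianization.of : ↥(commutator G) →* Abelianization ↥(commutator G)) g)
      = phi G ((of ℤ G g - 1) * repSum G) := by
  classical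
  have hf : ∀ q : G ⧸ commutator G, ((Quotient.out q : G) : G ⧸ commutator G) = q :=
    QuotientGroup.out_eq'
  let T : (commutator G).LeftTransversal :=
    ⟨Set.range (Quotient.out : G ⧸ commutator G → G), Subgroup.isComplement_range_left hf⟩
  rw [MonoidHom.transfer_def _ T g, phi_sub_one_mul_repSum, sum_reindex]
  unfold Subgroup.leftTransversals.diff
  dsimp only
  rw [ofMul_prod]
  refine Finset.sum_congr ?_ (fun q _ => ?_)
  · ext q; simp
  · have hq : ((g * Quotient.out (g⁻¹ • q) : G) : G ⧸ commutator G) = q := by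
      rw [QuotientGroup.mk_mul, hf]
      show g • (g⁻¹ • q) = q
      rw [smul_inv_smul]
    rw [lam_eq _ q hq]
    congr 2
    apply Subtype.ext
    simp only
    rw [Subgroup.IsComplement.leftQuotientEquiv_apply hf q,
      Subgroup.smul_apply_eq_smul_apply_inv_smul, Subgroup.IsComplement.leftQuotientEquiv_apply hf]
    rfl

end Cfsg.Agent.Helper30.PIT
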