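import Cfsg.Agent.Helper58.PsuIo.AbsDefs
import Cfsg.Agent.Helper89.PsuM_SEC

/-!
# S2089 block I-odd, abstract part, piece (AHT): the canonical lift with its invariance
-/

set_option autoImplicit false

namespace Cfsg.Agent.Helper30.PsuIo

open scoped commutatorElement
open Cfsg.Agent.Helper43.PsuM Cfsg.Agent.Helper96.StLift Cfsg.Agent.Helper58.PsuIo

universe u

section pieces

variable {Γ G : Type u} [Group Γ] [Group G] (τ : Γ →* G) (hτ : Function.Surjective τ)
  (hc : τ.ker ≤ Subgroup.center Γ)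

include hτ hc

/-- (AHT) the canonical lift of a perfect, centrally closed subgroup `H`, with its invariance. -/
theorem exists_Htilde (H : Subgroup G) (hperf : ⁅H, H⁆ = H)
    (huniv : ∀ (E : Type u) [Group E] (π : E →* ↥H), Function.Surjective π →
      π.ker ≤ Subgroup.center E → ∃ s : ↥H →* E, π.comp s = MonoidHom.id ↥H) :
    ∃ Ht : Subgroup Γ, Ht ⊓ τ.ker = ⊥ ∧ Ht.map τ = H ∧
      ∀ g : Γ, (∀ x ∈ H, τ g * x * (τ g)⁻¹ ∈ H) → ∀ x ∈ Ht, g * x * g⁻¹ ∈ Ht := by
  obtain ⟨h1, h2⟩ := Cfsg.Agent.Helper89.PsuM.exists_canonical_lift τ hτ hc H hperf huniv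
  refine ⟨⁅H.comap τ, H.comap τ⁆, h1, h2, ?_⟩
  intro g hg x hx
  have hK : (H.comap τ).map (MulAut.conj g).toMonoidHom ≤ H.comap τ := by
    rintro _ ⟨a, ha, rfl⟩
    rw [Subgroup.mem_comap]
    simp only [MulEquiv.coe_toMonoidHom, MulAut.conj_apply, map_mul, map_inv]
    exact hg _ ha
  have hmap : (⁅H.comap τ, H.comap τ⁆).map (MulAut.conj g).toMonoidHom ≤
      ⁅H.comap τ, H.comap τ⁆ := by
    rw [Subgroup.map_commutator]
    exact Subgroup.commutator_mono hK hK
  exact hmap ⟨x, hx, by simp [MulAut.conj_apply]⟩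

end pieces

end Cfsg.Agent.Helper30.PsuIo
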