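import Cfsg.Agent.Helper58.PsuIo.AbsDefs

/-!
# S2089 block I-odd, abstract part, piece (ASUB): the part of a lift above a subgroup
-/

set_option autoImplicit false

namespace Cfsg.Agent.Helper30.PsuIo

open scoped commutatorElement
open Cfsg.Agent.Helper43.PsuM Cfsg.Agent.Helper96.StLift Cfsg.Agent.Helper58.PsuIo

universe u

section pieces

variable {Γ G : Type u} [Group Γ] [Group G] (τ : Γ →* G) (hτ : Function.Surjective τ)
  (hc : τ.ker ≤ Subgroup.center Γ)

include hτ hc

omit hτ hc in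
/-- (ASUB) the part of a lift `Ht` of `H` above a subgroup `W ≤ H` is a lift of `W`. -/
theorem map_inf_comap (Ht : Subgroup Γ) (H W : Subgroup G) (hHt : Ht.map τ = H) (hW : W ≤ H) :
    (Ht ⊓ W.comap τ).map τ = W := by
  apply le_antisymm
  · rintro _ ⟨g, hg, rfl⟩
    exact hg.2
  · intro w hw
    have hwH : w ∈ Ht.map τ := by rw [hHt]; exact hW hw
    obtain ⟨g, hg, rfl⟩ := hwH
    exact ⟨g, ⟨hg, hw⟩, rfl⟩

end pieces

end Cfsg.Agent.Helper30.PsuIo
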