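import Cfsg.Agent.Helper43.PsuM.RDefs
import Cfsg.Agent.Helper67.ClassTwo

/-!
helper30 for helper43 (S2089 block R, farm #14254): piece (PCRIT) `noStemP_of_borel_complement` of
`tools/helper43_psum/RSkel.lean.txt`: the `p`-part criterion via transfer.
-/

set_option autoImplicit false
set_option linter.unusedSectionVars false
set_option linter.unusedVariables false

namespace Cfsg.Agent.Helper30.PsuM

open scoped commutatorElement
open Cfsg.Agent.Helper96.StLift Cfsg.Agent.Helper43.PsuM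

universe u

/-- if `T` normalises `U` then every element of `U ⊔ T` is a product `u * t` -/
theorem PCRIT_mem_sup {G : Type*} [Group G] (U T : Subgroup G)
    (hUT : ∀ t ∈ T, ∀ x ∈ U, t * x * t⁻¹ ∈ U) :
    ∀ b ∈ U ⊔ T, ∃ u ∈ U, ∃ t ∈ T, b = u * t := by
  intro b hb
  rw [Subgroup.sup_eq_closure] at hb
  induction hb using Subgroup.closure_induction_right with
  | one => exact ⟨1, one_mem _, 1, one_mem _, by simp⟩
  | mul_right g _ y hy ih =>
    obtain ⟨u, hu, t, ht, rfl⟩ := ih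
    rcases hy with hy | hy
    · refine ⟨u * (t * y * t⁻¹), mul_mem hu (hUT t ht y hy), t, ht, by group⟩
    · exact ⟨u, hu, t * y, mul_mem ht hy, by group⟩
  | mul_inv_cancel g _ y hy ih =>
    obtain ⟨u, hu, t, ht, rfl⟩ := ih
    rcases hy with hy | hy
    · refine ⟨u * (t * y⁻¹ * t⁻¹), mul_mem hu (hUT t ht _ (inv_mem hy)), t, ht, by group⟩
    · exact ⟨u, hu, t * y⁻¹, mul_mem ht (inv_mem hy), by group⟩

/-- (PCRIT) the `p`-part criterion. -/
theorem noStemP_of_borel_complement {G : Type u} [Group G] [Finite G] (p : ℕ) [Fact p.Prime]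
    (U T : Subgroup G) (hT : ∀ a ∈ T, ∀ b ∈ T, a * b = b * a) (hpT : ¬ p ∣ Nat.card T)
    (hUT : ∀ t ∈ T, ∀ x ∈ U, t * x * t⁻¹ ∈ U) (hidx : ¬ p ∣ (U ⊔ T).index)
    (h : ∀ (Γ : Type u) [Group Γ] [Finite Γ] (τ : Γ →* G), Cfsg.IsStemExtension τ →
      Nat.card τ.ker = p →
      ∃ V : Subgroup Γ, V ⊓ τ.ker = ⊥ ∧ V.map τ = U ∧
        ∀ g : Γ, τ g ∈ T → ∀ v ∈ V, g * v * g⁻¹ ∈ V) :
    NoStemP G p := by
  intro Γ _ _ τ hstem hcard
  have hp : p.Prime := Fact.out
  obtain ⟨V, hVA, hVU, hVT⟩ := h Γ τ hstem hcard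
  have hsurj : Function.Surjective τ := hstem.1
  have hcent : ∀ z ∈ τ.ker, ∀ g : Γ, g * z = z * g := fun z hz g =>
    Subgroup.mem_center_iff.1 (hstem.2.1 hz) g
  -- kernel elements have order dividing `p`
  have hpowp : ∀ z ∈ τ.ker, z ^ p = 1 := by
    intro z hz
    have h1 : (⟨z, hz⟩ : τ.ker) ^ Nat.card τ.ker = 1 := pow_card_eq_one'
    rw [hcard] at h1
    exact congrArg Subtype.val h1
  -- the preimage of `T` is abelian
  have hTab : ∀ s s' : Γ, τ s ∈ T → τ s' ∈ T → s * s' = s' * s := by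
    intro s s' hs hs'
    obtain ⟨c, hc⟩ : ∃ c : Γ, c = s * s' * s⁻¹ * s'⁻¹ := ⟨_, rfl⟩
    have hcker : c ∈ τ.ker := by
      rw [MonoidHom.mem_ker, hc]
      simp only [map_mul, map_inv]
      rw [hT _ hs _ hs']
      group
    have hrel : s * s' = c * (s' * s) := by rw [hc]; group
    have hcs : Commute c s := (hcent c hcker s).symm
    have h1 := Cfsg.Agent.Helper67.pow_mul_of_commutator_commute hrel hcs (Nat.card T)
    have hsn : s ^ Nat.card T ∈ τ.ker := by
      rw [MonoidHom.mem_ker, map_pow]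
      have h2 : (⟨τ s, hs⟩ : T) ^ Nat.card T = 1 := pow_card_eq_one'
      exact congrArg Subtype.val h2
    have h3 : s ^ Nat.card T * s' = s' * s ^ Nat.card T := (hcent _ hsn s').symm
    rw [h3] at h1
    have hcn : c ^ Nat.card T = 1 := by
      have h4 : (1 : Γ) * (s' * s ^ Nat.card T) = c ^ Nat.card T * (s' * s ^ Nat.card T) := by
        rw [one_mul]
        exact h1
      exact (mul_right_cancel h4).symm
    have hcp : c ^ p = 1 := hpowp c hcker
    have hgcd : Nat.gcd p (Nat.card T) = 1 := (Nat.Prime.coprime_iff_not_dvd hp).2 hpT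
    have hc1 : c = 1 := by
      have := pow_gcd_eq_one.2 ⟨hcp, hcn⟩
      rwa [hgcd, pow_one] at this
    rw [hrel, hc1, one_mul]
  -- decomposition of the preimage of `U ⊔ T`
  have hdec : ∀ b : Γ, τ b ∈ U ⊔ T → ∃ v ∈ V, ∃ s : Γ, τ s ∈ T ∧ b = v * s := by
    intro b hb
    obtain ⟨u, hu, t, ht, hbt⟩ := PCRIT_mem_sup U T hUT _ hb
    rw [← hVU] at hu
    obtain ⟨v, hv, rfl⟩ := hu
    refine ⟨v, hv, v⁻¹ * b, ?_, by group⟩
    rw [map_mul, map_inv, hbt]
    simpa using ht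
  -- the derived group of the preimage lies in `V`
  have hder : ⁅(U ⊔ T).comap τ, (U ⊔ T).comap τ⁆ ≤ V := by
    rw [Subgroup.commutator_le]
    intro x hx y hy
    obtain ⟨v, hv, s, hs, rfl⟩ := hdec x hx
    obtain ⟨v', hv', s', hs', rfl⟩ := hdec y hy
    have hss : s * s' = s' * s := hTab s s' hs hs'
    have e : ⁅v * s, v' * s'⁆ = v * (s * v' * s⁻¹) * (s' * v⁻¹ * s'⁻¹) * v'⁻¹ := by
      rw [commutatorElement_def]
      have h5 : s * s' * s⁻¹ = s' := by rw [hss]; group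
      calc v * s * (v' * s') * (v * s)⁻¹ * (v' * s')⁻¹
          = v * (s * v' * s⁻¹) * (s * s' * s⁻¹) * v⁻¹ * s'⁻¹ * v'⁻¹ := by group
        _ = v * (s * v' * s⁻¹) * (s' * v⁻¹ * s'⁻¹) * v'⁻¹ := by rw [h5]; group
    rw [e]
    exact mul_mem (mul_mem (mul_mem hv (hVT s hs v' hv')) (hVT s' hs' _ (inv_mem hv)))
      (inv_mem hv')
  -- the kernel is trivial
  have hker : ∀ z ∈ τ.ker, z = 1 := by
    intro z hz
    have h1 := Cfsg.Agent.Helper96.StemBound.ker_pow_index_mem τ hstem (U ⊔ T) hz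
    have h2 : z ^ (U ⊔ T).index ∈ V ⊓ τ.ker := ⟨hder h1, pow_mem hz _⟩
    rw [hVA, Subgroup.mem_bot] at h2
    have hgcd : Nat.gcd p (U ⊔ T).index = 1 := (Nat.Prime.coprime_iff_not_dvd hp).2 hidx
    have := pow_gcd_eq_one.2 ⟨hpowp z hz, h2⟩
    rwa [hgcd, pow_one] at this
  have hbot : τ.ker = ⊥ := by
    rw [Subgroup.eq_bot_iff_forall]
    exact hker
  rw [hbot, Subgroup.card_bot] at hcard
  exact hp.ne_one hcard.symm

end Cfsg.Agent.Helper30.PsuM
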