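-- helper30: piece (ONE) of helper83's S5048 farm (#11344): in a connected odd-product graph all vertices are conjugate.
import Mathlib
import Cfsg.Prelude.Def_RootSubgroups
import Cfsg.Agent.Helper83.RInv.Defs

set_option autoImplicit false
open Cfsg

namespace Cfsg.Agent.Helper30.RInv48

open Cfsg.Agent.Helper83.RInv

variable {G : Type*} [Group G]

/-- two involutions with a product of odd order are conjugate (in the dihedral group they generate) -/
theorem exists_conj_of_oddAdj {D : Set G} (hD : Cfsg.IsRootInvolutionSet D) {a b : G}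
    (h : Cfsg.OddAdj D a b) : ∃ g : G, b = g * a * g⁻¹ := by
  obtain ⟨ha, hb, -, hodd⟩ := h
  obtain ⟨m, hm⟩ := hodd
  have haa : a * a = 1 := sq_eq_one_of_mem hD ha
  have hbb : b * b = 1 := sq_eq_one_of_mem hD hb
  have hainv : a⁻¹ = a := inv_eq_of_mem hD ha
  have hbinv : b⁻¹ = b := inv_eq_of_mem hD hb
  obtain ⟨t, ht⟩ : ∃ t : G, t = a * b := ⟨_, rfl⟩
  have htinv : t⁻¹ = b * a := by rw [ht, mul_inv_rev, hainv, hbinv]
  have hsc : SemiconjBy a t⁻¹ t := by
    show a * t⁻¹ = t * a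
    rw [htinv, ht, ← mul_assoc]
  have hpow : a * (t ^ m)⁻¹ = t ^ m * a := by
    have := hsc.pow_right m
    rw [inv_pow] at this
    exact this
  have htord : t ^ (2 * m + 1) = 1 := by
    rw [← hm, ht]
    exact pow_orderOf_eq_one _
  refine ⟨t ^ m, ?_⟩
  have h2 : t ^ m * t ^ m = t⁻¹ := by
    have h3 : t ^ m * t ^ m * t = 1 := by
      rw [← pow_add, ← pow_succ, ← two_mul]
      exact htord
    exact eq_inv_of_mul_eq_one_left h3
  calc b = b * a * a := by rw [mul_assoc, haa, mul_one]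
    _ = t⁻¹ * a := by rw [htinv]
    _ = t ^ m * t ^ m * a := by rw [h2]
    _ = t ^ m * (t ^ m * a) := by rw [mul_assoc]
    _ = t ^ m * (a * (t ^ m)⁻¹) := by rw [hpow]
    _ = t ^ m * a * (t ^ m)⁻¹ := by rw [mul_assoc]

theorem exists_conj_of_connected {D : Set G} (hD : Cfsg.IsRootInvolutionSet D)
    (hc : Cfsg.IsConnectedSet (Cfsg.OddAdj D) D) {a b : G} (ha : a ∈ D) (hb : b ∈ D) :
    ∃ g : G, b = g * a * g⁻¹ := by
  have hpath := hc a ha b hb
  induction hpath with
  | refl => exact ⟨1, by rw [one_mul, inv_one, mul_one]⟩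
  | tail _ hadj ih =>
    obtain ⟨g, hg⟩ := ih hadj.1
    obtain ⟨k, hk⟩ := exists_conj_of_oddAdj hD hadj
    refine ⟨k * g, ?_⟩
    rw [hk, hg, mul_inv_rev]
    simp only [mul_assoc]

end Cfsg.Agent.Helper30.RInv48
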