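-- helper30: common small facts for the (BRAID), (LAM), (LR) pieces of helper46's S2281 (n ≥ 3) farm.
import Mathlib
import Cfsg.Agent.Helper46.RSp.Defs

set_option autoImplicit false
set_option linter.unusedSectionVars false
set_option linter.unusedVariables false

namespace Cfsg.Agent.Helper30.RSp

open Matrix Cfsg.Agent.Helper13 Cfsg.Agent.Helper46.RSp

variable {K : Type*} [Field K] {j : ℕ}

local notation "Vec" => (Fin (j + 3) ⊕ Fin (j + 3) → K)
local notation "Mat" => Matrix (Fin (j + 3) ⊕ Fin (j + 3)) (Fin (j + 3) ⊕ Fin (j + 3)) K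
local notation "Mk" => Matrix (Fin (j + 3)) (Fin (j + 3)) K
local notation "SpG" => Matrix.symplecticGroup (Fin (j + 3)) K
local notation "B" => Cfsg.sympForm (j + 3) K

/-- left cancellation inside `H` -/
theorem hasM_cancel_left {H : Subgroup SpG} {M N : Mat} (hM : HasM H M) (hMN : HasM H (M * N)) : HasM H N := by
  obtain ⟨a, ha, ham⟩ := hM
  obtain ⟨x, hx, hxm⟩ := hMN
  refine ⟨a⁻¹ * x, mul_mem (inv_mem ha) hx, ?_⟩
  have h1 : ((a⁻¹ * x : SpG) : Mat) = ((a⁻¹ : SpG) : Mat) * (x : Mat) := rfl
  rw [h1, hxm, ← ham, ← Matrix.mul_assoc, coe_inv_mul, Matrix.one_mul]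

/-- the action of the Levi element on `e_l` -/
theorem lvS_mulVec_bE (A A' : Mk) (l : Fin (j + 3)) :
    lvS A A' *ᵥ (bE l : Vec) = fun x => match x with
      | Sum.inl i => A i l
      | Sum.inr _ => 0 := by
  funext x
  unfold lvS bE
  rw [Matrix.mulVec_single_one]
  cases x with
  | inl i => simp [Matrix.fromBlocks_apply₁₁]
  | inr i => simp [Matrix.fromBlocks_apply₂₁]

/-- the action of the Levi element on `f_l` -/
theorem lvS_mulVec_bF (A A' : Mk) (l : Fin (j + 3)) :
    lvS A A' *ᵥ (bF l : Vec) = fun x => match x with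
      | Sum.inl _ => 0
      | Sum.inr i => A' i l := by
  funext x
  unfold lvS bF
  rw [Matrix.mulVec_single_one]
  cases x with
  | inl i => simp [Matrix.fromBlocks_apply₁₂]
  | inr i => simp [Matrix.fromBlocks_apply₂₂]

theorem UWM_e1 (c : K) : UWM c *ᵥ (bE i1 : Vec) = bE i1 := by
  unfold UWM
  rw [← Matrix.mulVec_mulVec, eichS_mulVec, form_bE_right, bE_apply_inr, zero_smul, sympForm_zero_right, zero_smul,
    mul_zero, zero_smul, add_zero, add_zero, add_zero, lvS_mulVec_bE]
  funext x
  cases x with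
  | inl i =>
    simp only [MpM, Matrix.of_apply, bE_apply_inl]
    by_cases h : i = i1
    · rw [if_pos h, if_pos h]
    · rw [if_neg h, if_neg h, if_neg]
      rintro ⟨h1, h2⟩
      simp only [i1] at h2
      omega
  | inr i => simp only [bE_apply_inr]

theorem UWM_e2 (c : K) : UWM c *ᵥ (bE i2 : Vec) = bE i2 := by
  unfold UWM
  rw [← Matrix.mulVec_mulVec, eichS_mulVec, form_bE_right, bE_apply_inr, zero_smul, sympForm_zero_right, zero_smul,
    mul_zero, zero_smul, add_zero, add_zero, add_zero, lvS_mulVec_bE]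
  funext x
  cases x with
  | inl i =>
    simp only [MpM, Matrix.of_apply, bE_apply_inl]
    by_cases h : i = i2
    · rw [if_pos h, if_pos h]
    · rw [if_neg h, if_neg h, if_neg]
      rintro ⟨h1, h2⟩
      simp only [i2] at h2
      apply h
      apply Fin.ext
      simp only [i2]
      omega
  | inr i => simp only [bE_apply_inr]

theorem UWM_f1 (c : K) : UWM c *ᵥ (bF i1 : Vec) = bF i1 := by
  unfold UWM
  have hN : (bF i1 : Vec) (Sum.inr iN) = 0 := by
    rw [bF_apply_inr, if_neg]
    intro h
    have := congrArg Fin.val h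
    simp only [i1, iN] at this
    omega
  rw [← Matrix.mulVec_mulVec, eichS_mulVec, form_bE_right, hN, zero_smul, sympForm_zero_right, zero_smul,
    mul_zero, zero_smul, add_zero, add_zero, add_zero, lvS_mulVec_bF]
  funext x
  cases x with
  | inl i => simp only [bF_apply_inl]
  | inr i =>
    simp only [MqM, Matrix.of_apply, bF_apply_inr]
    by_cases h : i = i1
    · rw [if_pos h, if_pos h]
    · rw [if_neg h, if_neg h, if_neg]
      rintro ⟨h1, h2⟩
      simp only [i1] at h1
      omega

theorem i1_ne_i2 : (i1 : Fin (j + 3)) ≠ i2 := by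
  intro h
  have := congrArg Fin.val h
  simp only [i1, i2] at this
  omega

theorem i2_ne_i1 : (i2 : Fin (j + 3)) ≠ i1 := fun h => i1_ne_i2 h.symm

end Cfsg.Agent.Helper30.RSp
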