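-- helper30: piece (BRAID) of helper46's S2281 (n ≥ 3) farm: the braid trick.
import Mathlib
import Cfsg.Agent.Helper46.RSp.Defs
import Cfsg.Agent.Helper30.RSpCommon

set_option autoImplicit false
set_option linter.unusedSectionVars false
set_option linter.unusedVariables false

namespace Cfsg.Agent.Helper30.RSp

open Matrix Cfsg.Agent.Helper13 Cfsg.Agent.Helper46.RSp

variable {K : Type*} [Field K] {j : ℕ}

local notation "Vec" => (Fin (j + 3) ⊕ Fin (j + 3) → K)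
local notation "Mat" => Matrix (Fin (j + 3) ⊕ Fin (j + 3)) (Fin (j + 3) ⊕ Fin (j + 3)) K
local notation "Mk" => Matrix (Fin (j + 3)) (Fin (j + 3)) K
local notation "SpG" => Matrix.symplecticGroup (Fin (j + 3)) K
local notation "B" => Cfsg.sympForm (j + 3) K

theorem hasM_Y_UW (c s₁ : K) (H : Subgroup SpG) (hX : HasM H XM) (hU3 : HasM H (UWM c * YM s₁)) :
    HasM H (YM s₁) ∧ HasM H (UWM c) := by
  obtain ⟨y, hy⟩ : ∃ y : Vec, y = -bF i2 - s₁ • bE i2 := ⟨_, rfl⟩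
  have hYM : YM s₁ = eichS (bF i1) y 0 := by rw [hy]; rfl
  have y_inl1 : y (Sum.inl i1) = 0 := by
    rw [hy, Pi.sub_apply, Pi.neg_apply, Pi.smul_apply, bF_apply_inl, bE_apply_inl, if_neg i1_ne_i2, smul_zero,
      neg_zero, sub_zero]
  have y_inr1 : y (Sum.inr i1) = 0 := by
    rw [hy, Pi.sub_apply, Pi.neg_apply, Pi.smul_apply, bF_apply_inr, bE_apply_inr, if_neg i1_ne_i2, smul_zero,
      neg_zero, sub_zero]
  have y_inr2 : y (Sum.inr i2) = -1 := by
    rw [hy, Pi.sub_apply, Pi.neg_apply, Pi.smul_apply, bF_apply_inr, bE_apply_inr, if_pos rfl, smul_zero,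
      sub_zero]
  have hyf1 : B y (bF i1) = 0 := by rw [form_bF_right, y_inl1, neg_zero]
  have hnyf1 : B (-y) (bF i1) = 0 := by rw [sympForm_neg_left, hyf1, neg_zero]
  -- the action of `Y`
  have hY1 : (YM s₁ : Mat) *ᵥ (bE i1 + y : Vec) = bE i1 := by
    have hb1 : B (bE i1 + y) (bF i1) = -1 := by
      rw [form_bF_right, Pi.add_apply, bE_apply_inl, if_pos rfl, y_inl1, add_zero]
    have hb2 : B (bE i1 + y) y = 0 := by
      rw [sympForm_add_left, form_bE_left, y_inr1, neg_zero, sympForm_self, add_zero]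
    rw [hYM, eichS_mulVec, hb1, hb2]
    module
  have hY2 : (YM s₁ : Mat) *ᵥ (bE i2 - bF i1 : Vec) = bE i2 := by
    have hb3 : B (bE i2 - bF i1 : Vec) (bF i1) = 0 := by
      rw [form_bF_right, Pi.sub_apply, bE_apply_inl, if_neg i1_ne_i2, bF_apply_inl, sub_zero, neg_zero]
    have hb4 : B (bE i2 - bF i1 : Vec) y = 1 := by
      rw [sympForm_sub_left, form_bE_left, form_bF_left, y_inr2, y_inl1, neg_neg, sub_zero]
    rw [hYM, eichS_mulVec, hb3, hb4]
    module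
  -- the inverse of `u₃`
  obtain ⟨u3, hu3, hu3m⟩ := hU3
  obtain ⟨M', hM'def⟩ : ∃ M' : Mat, M' = ((u3⁻¹ : SpG) : Mat) := ⟨_, rfl⟩
  have hM' : HasM H M' := ⟨u3⁻¹, inv_mem hu3, hM'def.symm⟩
  have hinv : M' * (UWM c * YM s₁) = 1 := by
    rw [hM'def, ← hu3m]
    exact coe_inv_mul u3
  have hM1 : M' *ᵥ (bE i1 : Vec) = bE i1 + y := by
    have h : (UWM c * YM s₁) *ᵥ (bE i1 + y) = bE i1 := by
      rw [← Matrix.mulVec_mulVec, hY1, UWM_e1]
    calc M' *ᵥ (bE i1 : Vec) = M' *ᵥ ((UWM c * YM s₁) *ᵥ (bE i1 + y)) := by rw [h]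
      _ = bE i1 + y := by rw [Matrix.mulVec_mulVec, hinv, Matrix.one_mulVec]
  have hM2 : M' *ᵥ (bE i2 : Vec) = bE i2 - bF i1 := by
    have h : (UWM c * YM s₁) *ᵥ (bE i2 - bF i1 : Vec) = bE i2 := by
      rw [← Matrix.mulVec_mulVec, hY2, UWM_e2]
    calc M' *ᵥ (bE i2 : Vec) = M' *ᵥ ((UWM c * YM s₁) *ᵥ (bE i2 - bF i1 : Vec)) := by rw [h]
      _ = bE i2 - bF i1 := by rw [Matrix.mulVec_mulVec, hinv, Matrix.one_mulVec]
  have hX' : HasM H (eichS (bE i1) (bE i2 : Vec) 0) := hX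
  have h3 := hasM_conj_eichS hM' hX'
  rw [hM1, hM2] at h3
  have h4 := hasM_conj_eichS hX h3
  have hX1 : (XM : Mat) *ᵥ (bE i1 + y) = y := by
    have hb5 : B (bE i1 + y) (bE i1) = 0 := by
      rw [form_bE_right, Pi.add_apply, bE_apply_inr, y_inr1, add_zero]
    have hb6 : B (bE i1 + y) (bE i2) = -1 := by
      rw [form_bE_right, Pi.add_apply, bE_apply_inr, y_inr2, zero_add]
    unfold XM
    rw [eichS_mulVec, hb5, hb6]
    module
  have hX2 : (XM : Mat) *ᵥ (bE i2 - bF i1 : Vec) = -bF i1 := by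
    have hb7 : B (bE i2 - bF i1 : Vec) (bE i1) = -1 := by
      rw [form_bE_right, Pi.sub_apply, bE_apply_inr, bF_apply_inr, if_pos rfl, zero_sub]
    have hb8 : B (bE i2 - bF i1 : Vec) (bE i2) = 0 := by
      rw [form_bE_right, Pi.sub_apply, bE_apply_inr, bF_apply_inr, if_neg i2_ne_i1, sub_zero]
    unfold XM
    rw [eichS_mulVec, hb7, hb8]
    module
  rw [hX1, hX2] at h4
  -- `Z = Y⁻¹ ∈ H`
  have hZ : HasM H (eichS (bF i1) (-y) 0) := by
    refine h4.of_eq ?_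
    have h5 := eichS_smul_left (-1 : K) (bF i1 : Vec) y 0
    rw [mul_zero, neg_one_smul, neg_one_smul] at h5
    rw [eichS_symm, h5]
  have hYH : HasM H (YM s₁) := by
    have h6 := HasM.eichS_inv hnyf1 hZ
    rw [neg_neg, neg_zero] at h6
    rw [hYM]
    exact h6
  refine ⟨hYH, ?_⟩
  have hU3' : HasM H (UWM c * YM s₁) := ⟨u3, hu3, hu3m⟩
  have h7 := hU3'.mul hZ
  refine h7.of_eq ?_
  rw [Matrix.mul_assoc, hYM, eichS_mul _ _ hyf1 hnyf1, sympForm_neg_left, sympForm_self, neg_zero, add_zero,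
    add_zero, add_neg_cancel, eichS_zero_zero, Matrix.mul_one]

end Cfsg.Agent.Helper30.RSp
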