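-- helper30: piece (LAM) of helper46's S2281 (n ≥ 3) farm: `Λ_w = V'`.
import Mathlib
import Cfsg.Agent.Helper46.RSp.Defs
import Cfsg.Agent.Helper30.RSpCommon
import Cfsg.Agent.Helper57.RSpSPAN

set_option autoImplicit false
set_option linter.unusedSectionVars false
set_option linter.unusedVariables false

namespace Cfsg.Agent.Helper30.RSp

open Matrix Cfsg.Agent.Helper13 Cfsg.Agent.Helper46.RSp

variable {K : Type*} [Field K] {j : ℕ}

local notation "Vec" => (Fin (j + 3) ⊕ Fin (j + 3) → K)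
local notation "Mat" => Matrix (Fin (j + 3) ⊕ Fin (j + 3)) (Fin (j + 3) ⊕ Fin (j + 3)) K
local notation "Mk" => Matrix (Fin (j + 3)) (Fin (j + 3)) K
local notation "SpG" => Matrix.symplecticGroup (Fin (j + 3)) K
local notation "B" => Cfsg.sympForm (j + 3) K

theorem form_w_of_inV' {w : Vec} (hw : w = bE i1 ∨ w = bF i1) {y : Vec} (hy : InV' y) : B y w = 0 := by
  rcases hw with rfl | rfl
  · rw [form_bE_right, hy.2]
  · rw [form_bF_right, hy.1, neg_zero]

theorem UWM_fix_w (c : K) {w : Vec} (hw : w = bE i1 ∨ w = bF i1) : UWM c *ᵥ w = w := by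
  rcases hw with rfl | rfl
  · exact UWM_e1 c
  · exact UWM_f1 c

/-- a symplectic matrix fixing `e_1` and `f_1` preserves `V'` -/
theorem inV'_mulVec {M : Mat} (hM : M ∈ SpG) (he : M *ᵥ (bE i1 : Vec) = bE i1) (hf : M *ᵥ (bF i1 : Vec) = bF i1)
    {x : Vec} (hx : InV' x) : InV' (M *ᵥ x) := by
  have hpres := (mem_symplecticGroup_iff_preserves M).mp hM
  constructor
  · have h := hpres x (bF i1)
    rw [hf, form_bF_right, form_bF_right, hx.1, neg_zero, neg_eq_zero] at h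
    exact h
  · have h := hpres x (bE i1)
    rw [he, form_bE_right, form_bE_right, hx.2] at h
    exact h

/-- the generalised version with the cyclicity statement as a hypothesis -/
theorem exists_hasM_all_of_span (c : K)
    (hspan : ∀ S : Submodule K Vec, (bF i2 : Vec) ∈ S → (∀ x ∈ S, UWM c *ᵥ x ∈ S) → ∀ x : Vec, InV' x → x ∈ S)
    {H : Subgroup SpG} (hUW : HasM H (UWM c)) {w : Vec}
    (hw : w = bE i1 ∨ w = bF i1) (hf2 : ∀ t : K, HasM H (eichS w (t • bF i2) 0)) :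
    ∀ y : Vec, InV' y → ∃ z, HasM H (eichS w y z) := by
  let S : Submodule K Vec :=
    { carrier := {x | InV' x ∧ ∀ t : K, ∃ z, HasM H (eichS w (t • x) z)}
      zero_mem' := by
        refine ⟨⟨rfl, rfl⟩, fun t => ⟨0, ?_⟩⟩
        rw [smul_zero, eichS_zero_zero]
        exact HasM.one H
      add_mem' := by
        rintro x x' ⟨hx, hxt⟩ ⟨hx', hxt'⟩
        refine ⟨⟨?_, ?_⟩, fun t => ?_⟩
        · rw [Pi.add_apply, hx.1, hx'.1, add_zero]
        · rw [Pi.add_apply, hx.2, hx'.2, add_zero]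
        · obtain ⟨z, hz⟩ := hxt t
          obtain ⟨z', hz'⟩ := hxt' t
          have h1 : B (t • x) w = 0 := by rw [sympForm_smul_left, form_w_of_inV' hw hx, mul_zero]
          have h2 : B (t • x') w = 0 := by rw [sympForm_smul_left, form_w_of_inV' hw hx', mul_zero]
          refine ⟨z + z' + B (t • x') (t • x), ?_⟩
          have h3 := hz.mul hz'
          rw [eichS_mul _ _ h1 h2, ← smul_add] at h3
          exact h3
      smul_mem' := by
        rintro a x ⟨hx, hxt⟩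
        refine ⟨⟨?_, ?_⟩, fun t => ?_⟩
        · rw [Pi.smul_apply, hx.1, smul_zero]
        · rw [Pi.smul_apply, hx.2, smul_zero]
        · obtain ⟨z, hz⟩ := hxt (t * a)
          refine ⟨z, ?_⟩
          rw [smul_smul]
          exact hz }
  have hmemS : ∀ x : Vec, x ∈ S ↔ (InV' x ∧ ∀ t : K, ∃ z, HasM H (eichS w (t • x) z)) := fun x => Iff.rfl
  have h2 : (bF i2 : Vec) ∈ S := by
    rw [hmemS]
    refine ⟨⟨?_, ?_⟩, fun t => ⟨0, hf2 t⟩⟩
    · rw [bF_apply_inl]
    · rw [bF_apply_inr, if_neg i1_ne_i2]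
  have hS : ∀ x ∈ S, UWM c *ᵥ x ∈ S := by
    intro x hx
    rw [hmemS] at hx ⊢
    obtain ⟨hxV, hxt⟩ := hx
    refine ⟨inV'_mulVec hUW.mem (UWM_e1 c) (UWM_f1 c) hxV, fun t => ?_⟩
    obtain ⟨z, hz⟩ := hxt t
    refine ⟨z, ?_⟩
    have h3 := hasM_conj_eichS hUW hz
    rw [UWM_fix_w c hw, Matrix.mulVec_smul] at h3
    exact h3
  intro y hy
  have hyS := hspan S h2 hS y hy
  rw [hmemS] at hyS
  obtain ⟨z, hz⟩ := hyS.2 1
  rw [one_smul] at hz
  exact ⟨z, hz⟩

theorem exists_hasM_all (c : K) (hc : c ≠ 0) {H : Subgroup SpG} (hUW : HasM H (UWM c)) {w : Vec}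
    (hw : w = bE i1 ∨ w = bF i1) (hf2 : ∀ t : K, HasM H (eichS w (t • bF i2) 0)) :
    ∀ y : Vec, InV' y → ∃ z, HasM H (eichS w y z) :=
  exists_hasM_all_of_span c (Cfsg.Agent.Helper57.RSp.span_NU c hc) hUW hw hf2

end Cfsg.Agent.Helper30.RSp
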