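-- helper30: piece (LR) of helper46's S2281 (n ≥ 3) farm: moving long root elements.
import Mathlib
import Cfsg.Agent.Helper46.RSp.Defs
import Cfsg.Agent.Helper30.RSpCommon

set_option autoImplicit false
set_option linter.unusedSectionVars false
set_option linter.unusedVariables false

namespace Cfsg.Agent.Helper30.RSp

open Matrix Cfsg.Agent.Helper13 Cfsg.Agent.Helper46.RSp

variable {K : Type*} [Field K] {j : ℕ}

local notation "Vec" => (Fin (j + 3) ⊕ Fin (j + 3) → K)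
local notation "Mat" => Matrix (Fin (j + 3) ⊕ Fin (j + 3)) (Fin (j + 3) ⊕ Fin (j + 3)) K
local notation "Mk" => Matrix (Fin (j + 3)) (Fin (j + 3)) K
local notation "SpG" => Matrix.symplecticGroup (Fin (j + 3)) K
local notation "B" => Cfsg.sympForm (j + 3) K

/-- the general move: from `t_{v,ξ}`, its conjugate `t_{v + t u, ξ}` and `E(v, ξ t u, 0)` get `t_{u, t² ξ}` -/
theorem hasM_tv_move {H : Subgroup SpG} {u v : Vec} {ξ t : K} (hvu : B v u = 0)
    (hz : HasM H (eichS v 0 ξ)) (hconj : HasM H (eichS (v + t • u) 0 ξ))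
    (h2 : HasM H (eichS v ((ξ * t) • u) 0)) : HasM H (eichS u 0 (t ^ 2 * ξ)) := by
  have hvtu : B v (t • u) = 0 := by rw [sympForm_smul_right, hvu, mul_zero]
  have hexp := eichS_add_zero (u := v) (y := t • u) ξ hvtu
  rw [smul_smul, Matrix.mul_assoc] at hexp
  rw [hexp] at hconj
  have h3 := hasM_cancel_left h2 (hasM_cancel_left hz hconj)
  refine h3.of_eq ?_
  rw [eichS_smul_left, smul_zero]

/-- `E(u, a v, 0) = E(v, a u, 0)` -/
theorem eichS_swap_smul (a : K) (u v : Vec) : eichS u (a • v) 0 = eichS v (a • u) 0 := by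
  have h := eichS_smul_left a u v 0
  rw [mul_zero] at h
  rw [← h, eichS_symm]

theorem hasM_tv_f2_of_f1 {H : Subgroup SpG} {ζ t : K} (hz : HasM H (eichS (bF i1) 0 ζ))
    (h1 : HasM H (eichS (bE i1) (t • bF i2) 0)) (h2 : HasM H (eichS (bF i1) ((ζ * t) • bF i2) 0)) :
    HasM H (eichS (bF i2) 0 (t ^ 2 * ζ)) := by
  have hvu : B (bF i1 : Vec) (bF i2) = 0 := by
    rw [form_bF_right, bF_apply_inl, neg_zero]
  refine hasM_tv_move hvu hz ?_ h2
  have hc := hasM_conj_eichS h1 hz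
  refine hc.of_eq ?_
  have e1 : eichS (bE i1) (t • bF i2 : Vec) 0 *ᵥ (bF i1 : Vec) = bF i1 + t • bF i2 := by
    rw [eichS_mulVec, form_bE_right, bF_apply_inr, if_pos rfl, sympForm_smul_right, hvu, mul_zero, zero_smul,
      mul_one, zero_smul, one_smul, add_zero, add_zero]
  rw [e1, Matrix.mulVec_zero]

theorem hasM_tv_f1_of_f2 {H : Subgroup SpG} {ξ t : K} (hz : HasM H (eichS (bF i2) 0 ξ))
    (h1 : HasM H (eichS (bF i1) (t • bE i2) 0)) (h2 : HasM H (eichS (bF i1) ((ξ * t) • bF i2) 0)) :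
    HasM H (eichS (bF i1) 0 (t ^ 2 * ξ)) := by
  have hvu : B (bF i2 : Vec) (bF i1) = 0 := by
    rw [form_bF_right, bF_apply_inl, neg_zero]
  refine hasM_tv_move hvu hz ?_ (h2.of_eq (eichS_swap_smul _ _ _))
  have hc := hasM_conj_eichS h1 hz
  refine hc.of_eq ?_
  have e1 : eichS (bF i1) (t • bE i2 : Vec) 0 *ᵥ (bF i2 : Vec) = bF i2 + t • bF i1 := by
    rw [eichS_mulVec, hvu, sympForm_smul_right, form_bE_right, bF_apply_inr, if_pos rfl, zero_smul,
      mul_zero, zero_smul, mul_one, add_zero, add_zero]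
  rw [e1, Matrix.mulVec_zero]

theorem hasM_tv_e1_of_f2 {H : Subgroup SpG} {ξ t : K} (hz : HasM H (eichS (bF i2) 0 ξ))
    (h1 : HasM H (eichS (bE i1) (t • bE i2) 0)) (h2 : HasM H (eichS (bE i1) ((ξ * t) • bF i2) 0)) :
    HasM H (eichS (bE i1) 0 (t ^ 2 * ξ)) := by
  have hvu : B (bF i2 : Vec) (bE i1) = 0 := by
    rw [form_bE_right, bF_apply_inr, if_neg i1_ne_i2]
  refine hasM_tv_move hvu hz ?_ (h2.of_eq (eichS_swap_smul _ _ _))
  have hc := hasM_conj_eichS h1 hz
  refine hc.of_eq ?_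
  have e1 : eichS (bE i1) (t • bE i2 : Vec) 0 *ᵥ (bF i2 : Vec) = bF i2 + t • bE i1 := by
    rw [eichS_mulVec, hvu, sympForm_smul_right, form_bE_right, bF_apply_inr, if_pos rfl, zero_smul,
      mul_zero, zero_smul, mul_one, add_zero, add_zero]
  rw [e1, Matrix.mulVec_zero]

end Cfsg.Agent.Helper30.RSp
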