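import Cfsg.Agent.Helper30.RelCtlA
import Cfsg.Agent.Helper48.ZJClosedB
import Cfsg.Agent.Helper97.QdStable

/-!
# Control of strong fusion by `N(ZJ(D))`, `D` strongly closed: basic transport lemmas (helper30)

`RelCtl good p X`: for every Sylow `p`-subgroup `P` of `X` and every `D` strongly closed in `P`, the
normalizer of `sInf (maxGood (good X) D)` (the generic `ZJ(D)`) controls strong fusion in `P`.
This file has the constrained case, and the transport from subgroups.
-/

set_option autoImplicit false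

universe u

namespace Cfsg.Agent.Helper30.RelCtl

open Subgroup
open Cfsg.Agent.Lib.ZJ Cfsg.Agent.Helper48

variable {good : ∀ (K : Type u) [Group K], Subgroup K → Prop}

/-- `N` controls strong fusion in `P` (left conjugation form). -/
def LCtl {X : Type*} [Group X] (N P : Subgroup X) : Prop :=
  ∀ (A : Set X) (g : X), A ⊆ (P : Set X) → (∀ a ∈ A, g * a * g⁻¹ ∈ P) →
    ∃ x ∈ N, ∀ a ∈ A, x * a * x⁻¹ = g * a * g⁻¹

/-- Relative control of strong fusion by the normalizers of the generic `ZJ(D)`. -/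
def RelCtl (good : ∀ (K : Type u) [Group K], Subgroup K → Prop) (p : ℕ) (X : Type u) [Group X] :
    Prop :=
  ∀ (P : Sylow p X) (D : Subgroup X), Cfsg.IsStronglyClosed D (P : Subgroup X) →
    LCtl (normalizer ((sInf (maxGood (good X) D) : Subgroup X) : Set X)) (P : Subgroup X)

theorem conj_mem_of_closure {X : Type*} [Group X] {A : Set X} {g : X} {P : Subgroup X}
    (h : ∀ a ∈ A, g * a * g⁻¹ ∈ P) : ∀ b ∈ Subgroup.closure A, g * b * g⁻¹ ∈ P := by
  have h1 : Subgroup.closure A ≤ P.comap (MulAut.conj g).toMonoidHom := by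
    rw [Subgroup.closure_le]
    intro a ha
    show (MulAut.conj g) a ∈ P
    rw [MulAut.conj_apply]
    exact h a ha
  intro b hb
  have := h1 hb
  have h2 : (MulAut.conj g) b ∈ P := this
  rwa [MulAut.conj_apply] at h2

theorem normalizer_le_normalizer_sInf_maxGood (hI : Intrinsic good) {X : Type u} [Group X]
    (D : Subgroup X) :
    normalizer (D : Set X) ≤ normalizer ((sInf (maxGood (good X) D) : Subgroup X) : Set X) := by
  have hconj : ∀ (A : Subgroup X) (g : X), good X A → good X (cj g A) := fun A g hA =>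
    (hI.map_iff (MulAut.conj g).toMonoidHom (MulAut.conj g).injective A).2 hA
  have h1 := normalizer_le_normalizer_sInf (good := good X) hconj (le_refl D)
  rwa [maxGoodIn_self] at h1

theorem le_normalizer_of_stronglyClosed {X : Type*} [Group X] {P D : Subgroup X}
    (hD : Cfsg.IsStronglyClosed D P) : P ≤ normalizer (D : Set X) := by
  have key : ∀ t ∈ P, ∀ x ∈ D, t * x * t⁻¹ ∈ D := fun t ht x hx =>
    hD.2 x hx t (P.mul_mem (P.mul_mem ht (hD.1 hx)) (P.inv_mem ht))
  intro t ht
  rw [Subgroup.mem_normalizer_iff]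
  intro x
  constructor
  · exact key t ht x
  · intro hx
    have := key t⁻¹ (P.inv_mem ht) _ hx
    simpa [mul_assoc] using this

theorem le_normalizer_sInf_of_stronglyClosed (hI : Intrinsic good) {X : Type u} [Group X]
    {P D : Subgroup X} (hD : Cfsg.IsStronglyClosed D P) :
    P ≤ normalizer ((sInf (maxGood (good X) D) : Subgroup X) : Set X) :=
  (le_normalizer_of_stronglyClosed hD).trans (normalizer_le_normalizer_sInf_maxGood hI D)

/-- If `N_X(D) = X` the conclusion is trivial. -/
theorem lctl_of_normalizer_eq_top (hI : Intrinsic good) {X : Type u} [Group X] (P D : Subgroup X)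
    (h : normalizer (D : Set X) = ⊤) :
    LCtl (normalizer ((sInf (maxGood (good X) D) : Subgroup X) : Set X)) P := by
  intro A g _ _
  refine ⟨g, normalizer_le_normalizer_sInf_maxGood hI D ?_, fun a _ => rfl⟩
  rw [h]
  exact Subgroup.mem_top g

variable {p : ℕ} [hp : Fact p.Prime]

/-- The constrained case: `Qd(p)`-free and `p`-constrained. -/
theorem lctl_of_constrained (hp2 : p ≠ 2) (hI : Intrinsic good)
    (hrepl : ∀ (S : Type u) [Group S] [Finite S], IsPGroup p S → ∀ (D : Subgroup S) [D.Normal],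
      ReplD good S D)
    {X : Type u} [Group X] [Finite X] (hfree : ¬ Cfsg.Involves ↥(Cfsg.qd p) X)
    (hc : Cfsg.IsPConstrained p X) (P : Sylow p X) (D : Subgroup X)
    (hD : Cfsg.IsStronglyClosed D (P : Subgroup X)) :
    LCtl (normalizer ((sInf (maxGood (good X) D) : Subgroup X) : Set X)) (P : Subgroup X) := by
  intro A g hA hgA
  have hs := Cfsg.Agent.Helper97.QdStable.isNormalizerPStable_of_qdFree hp2 hfree
  have hfac := pPrimeCore_sup_normalizer_sInf_maxGood hI hrepl hc hs P D hD
  have hKc : (Nat.card (Cfsg.pPrimeCore p X)).Coprime p := Cfsg.Agent.Lib.card_pPrimeCore_coprime p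
  have hKn : (Cfsg.pPrimeCore p X).Normal := Cfsg.pPrimeCore_normal p _
  have hPN := le_normalizer_sInf_of_stronglyClosed hI hD
  have hBP : Subgroup.closure A ≤ (P : Subgroup X) := (Subgroup.closure_le _).2 hA
  obtain ⟨x, hxN, hx⟩ := exists_mem_conj_eq_of_sup_eq_top (Cfsg.pPrimeCore p X) _ hKc hfac
    (Subgroup.closure A) (P.2.to_le hBP) (hBP.trans hPN) g
    (fun b hb => hPN (conj_mem_of_closure hgA b hb))
  exact ⟨x, hxN, fun a ha => hx a (Subgroup.subset_closure ha)⟩

/-- Transport from a subgroup `H` in which `P ∩ H` is a Sylow `p`-subgroup. -/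
theorem lctl_of_subgroup (hI : Intrinsic good) {X : Type u} [Group X] [Finite X] (P : Sylow p X)
    (D : Subgroup X) (hD : Cfsg.IsStronglyClosed D (P : Subgroup X)) (H : Subgroup X)
    (hidx : ¬ p ∣ ((P : Subgroup X) ⊓ H).relIndex H) (hH : RelCtl good p ↥H)
    (A : Set X) (h : X) (hh : h ∈ H) (hA : A ⊆ (((P : Subgroup X) ⊓ H : Subgroup X) : Set X))
    (hhA : ∀ a ∈ A, h * a * h⁻¹ ∈ (P : Subgroup X) ⊓ H) :
    ∃ x ∈ H ⊓ normalizer ((sInf (maxGood (good X) (D ⊓ H)) : Subgroup X) : Set X),
      ∀ a ∈ A, x * a * x⁻¹ = h * a * h⁻¹ := by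
  set T' := (P : Subgroup X) ⊓ H with hT'
  have hT'p : IsPGroup p T' := P.2.to_le inf_le_left
  have hT'pX : IsPGroup p (T'.subgroupOf H) := hT'p.comap_subtype
  have hidx' : ¬ p ∣ (T'.subgroupOf H).index := hidx
  set TX : Sylow p ↥H := hT'pX.toSylow hidx' with hTXdef
  have hTX : (TX : Subgroup ↥H) = T'.subgroupOf H := IsPGroup.toSylow_coe hT'pX hidx'
  set E := D.subgroupOf H with hE
  have hEX : Cfsg.IsStronglyClosed E (TX : Subgroup ↥H) := by
    rw [hTX]
    refine ⟨fun x hx => ?_, fun x hx g hg => ?_⟩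
    · rw [Subgroup.mem_subgroupOf] at hx ⊢
      exact ⟨hD.1 hx, x.2⟩
    · rw [Subgroup.mem_subgroupOf] at hx hg ⊢
      exact hD.2 _ hx g.1 hg.1
  have hctl := hH TX E hEX
  obtain ⟨x, hxN, hx⟩ := hctl (H.subtype ⁻¹' A) ⟨h, hh⟩
    (by
      intro a ha
      rw [SetLike.mem_coe, hTX, Subgroup.mem_subgroupOf]
      exact hA ha)
    (by
      intro a ha
      rw [hTX, Subgroup.mem_subgroupOf]
      exact hhA a.1 ha)
  have hZmap : (sInf (maxGood (good ↥H) E)).map H.subtype = sInf (maxGood (good X) (D ⊓ H)) := by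
    have hinj : Function.Injective (H.subtype.comp E.subtype) :=
      H.subtype_injective.comp E.subtype_injective
    have h1 : sInf (maxGood (good X) (E.map H.subtype)) = (sInf (maxGood (good ↥H) E)).map H.subtype :=
      sInf_maxGood_map_of_injOn H.subtype E hinj hI (maxGood_nonempty' hI E)
    have hEmap : E.map H.subtype = D ⊓ H := by
      rw [hE, Subgroup.subgroupOf_map_subtype]
    rw [← h1, hEmap]
  refine ⟨x.1, ⟨x.2, ?_⟩, fun a ha => ?_⟩
  · rw [← hZmap]
    exact (Subgroup.le_normalizer_map H.subtype) ⟨x, hxN, rfl⟩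
  · have := hx ⟨a, (hA ha).2⟩ ha
    exact congrArg Subtype.val this

end Cfsg.Agent.Helper30.RelCtl
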