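import Cfsg.Agent.Helper30.RelCtlB

/-!
# Control of strong fusion by `N(ZJ(D))`: quotient by a normal `p'`-subgroup, and the local case (helper30)
-/

set_option autoImplicit false

universe u

namespace Cfsg.Agent.Helper30.RelCtl

open Subgroup
open Cfsg.Agent.Lib.ZJ Cfsg.Agent.Helper48

variable {good : ∀ (K : Type u) [Group K], Subgroup K → Prop}

variable {p : ℕ} [hp : Fact p.Prime]

/-- Transport from the quotient by a normal `p'`-subgroup. -/
theorem lctl_of_pPrime_quotient (hI : Intrinsic good) {X : Type u} [Group X] [Finite X]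
    (P : Sylow p X) (D : Subgroup X) (hD : Cfsg.IsStronglyClosed D (P : Subgroup X))
    (K : Subgroup X) [hKn : K.Normal] (hKc : (Nat.card K).Coprime p)
    (hq : RelCtl good p (X ⧸ K)) :
    LCtl (normalizer ((sInf (maxGood (good X) D) : Subgroup X) : Set X)) (P : Subgroup X) := by
  intro A g hA hgA
  set π := QuotientGroup.mk' K with hπ
  have hπs : Function.Surjective π := QuotientGroup.mk'_surjective K
  have hker : π.ker = K := QuotientGroup.ker_mk' K
  set Tb : Sylow p (X ⧸ K) := P.mapSurjective hπs with hTb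
  have hEb : Cfsg.IsStronglyClosed (D.map π) (Tb : Subgroup (X ⧸ K)) := by
    rw [Sylow.coe_mapSurjective]
    exact isStronglyClosed_map_of_surjective π hπs P D hD
  set B := Subgroup.closure A with hB
  have hBP : B ≤ (P : Subgroup X) := (Subgroup.closure_le _).2 hA
  have hgB : ∀ b ∈ B, g * b * g⁻¹ ∈ (P : Subgroup X) := conj_mem_of_closure hgA
  obtain ⟨xb, hxbN, hxb⟩ := hq Tb (D.map π) hEb (π '' (B : Set X)) (π g)
    (by
      rintro _ ⟨b, hb, rfl⟩
      rw [SetLike.mem_coe, Sylow.coe_mapSurjective]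
      exact ⟨b, hBP hb, rfl⟩)
    (by
      rintro _ ⟨b, hb, rfl⟩
      rw [Sylow.coe_mapSurjective]
      exact ⟨g * b * g⁻¹, hgB b hb, by simp⟩)
  have hdisj : D ⊓ π.ker = ⊥ := by
    rw [hker]
    apply (Subgroup.disjoint_of_coprime_natCard _).eq_bot
    obtain ⟨n, hn⟩ := IsPGroup.iff_card.1 (P.2.to_le hD.1)
    rw [hn]
    exact (Nat.Coprime.pow_right n hKc).symm
  have hinj := injective_comp_subtype_of_inf_ker π D hdisj
  rw [sInf_maxGood_map_of_injOn π D hinj hI (maxGood_nonempty' hI D)] at hxbN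
  set Z := sInf (maxGood (good X) D) with hZ
  have hZp : IsPGroup p Z := P.2.to_le ((sInf_maxGood_le' hI D).trans hD.1)
  obtain ⟨x₀, rfl⟩ := hπs xb
  obtain ⟨n, hnN, hnx⟩ :=
    Cfsg.Agent.Helper54.exists_mem_normalizer_map_eq π (by rw [hker]; exact hKc) Z hZp x₀ hxbN
  set N := normalizer (Z : Set X) with hN
  have hPN : (P : Subgroup X) ≤ N := le_normalizer_sInf_of_stronglyClosed hI hD
  have hπeq : ∀ b ∈ B, π (n * b * n⁻¹) = π (g * b * g⁻¹) := by
    intro b hb
    have := hxb (π b) ⟨b, hb, rfl⟩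
    rw [map_mul, map_mul, map_inv, hnx, map_mul, map_mul, map_inv]
    exact this
  set L : Subgroup X := (K ⊔ (P : Subgroup X)) ⊓ N with hL
  have hPL : (P : Subgroup X) ≤ L := le_inf le_sup_right hPN
  have hidx : ¬ p ∣ (P : Subgroup X).relIndex L := fun h =>
    P.not_dvd_index (h.trans (Subgroup.relIndex_dvd_index_of_le hPL))
  set B₁ : Subgroup X := B.map (MulAut.conj n).toMonoidHom with hB₁
  have hB₁p : IsPGroup p B₁ := (P.2.to_le hBP).map _
  have hB₁L : B₁ ≤ L := by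
    rintro _ ⟨b, hb, rfl⟩
    show n * b * n⁻¹ ∈ L
    refine ⟨?_, N.mul_mem (N.mul_mem hnN (hPN (hBP hb))) (N.inv_mem hnN)⟩
    have hk : n * b * n⁻¹ * (g * b * g⁻¹)⁻¹ ∈ K := by
      rw [← hker, MonoidHom.mem_ker, map_mul, map_inv, hπeq b hb, mul_inv_cancel]
    have : n * b * n⁻¹ = (n * b * n⁻¹ * (g * b * g⁻¹)⁻¹) * (g * b * g⁻¹) := by group
    rw [this]
    exact Subgroup.mul_mem_sup hk (hgB b hb)
  obtain ⟨m, hmL, hmB₁⟩ :=
    Cfsg.Agent.Helper33.exists_conj_le_of_not_dvd_relIndex hPL P.2 hidx hB₁L hB₁p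
  have hm' : m ∈ ((P : Subgroup X) ⊔ K : Subgroup X) := by rw [sup_comm]; exact hmL.1
  rw [← SetLike.mem_coe, Subgroup.mul_normal, Set.mem_mul] at hm'
  obtain ⟨t, ht, k, hk, hmeq⟩ := hm'
  have hkN : k ∈ N := by
    have : k = t⁻¹ * m := by rw [← hmeq]; group
    rw [this]
    exact N.mul_mem (N.inv_mem (hPN ht)) hmL.2
  refine ⟨k * n, N.mul_mem hkN hnN, fun a ha => ?_⟩
  have hb : a ∈ B := Subgroup.subset_closure ha
  have h1 : m * (n * a * n⁻¹) * m⁻¹ ∈ (P : Subgroup X) := hmB₁ _ ⟨a, hb, rfl⟩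
  have h2 : (k * n) * a * (k * n)⁻¹ ∈ (P : Subgroup X) := by
    have : (k * n) * a * (k * n)⁻¹ = t⁻¹ * (m * (n * a * n⁻¹) * m⁻¹) * t := by
      rw [← hmeq]; group
    rw [this]
    exact (P : Subgroup X).mul_mem ((P : Subgroup X).mul_mem ((P : Subgroup X).inv_mem ht) h1) ht
  have h3 : (k * n) * a * (k * n)⁻¹ * (g * a * g⁻¹)⁻¹ ∈ (P : Subgroup X) ⊓ π.ker := by
    refine ⟨(P : Subgroup X).mul_mem h2 ((P : Subgroup X).inv_mem (hgB a hb)), ?_⟩
    have hk1 : π k = 1 := by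
      have : k ∈ π.ker := by rw [hker]; exact hk
      exact this
    have e : (k * n) * a * (k * n)⁻¹ = k * (n * a * n⁻¹) * k⁻¹ := by group
    show _ ∈ π.ker
    rw [MonoidHom.mem_ker, map_mul, map_inv, e, map_mul, map_mul, map_inv, hk1, hπeq a hb]
    simp
  have hdisjP : (P : Subgroup X) ⊓ π.ker = ⊥ := by
    rw [hker]
    apply (Subgroup.disjoint_of_coprime_natCard _).eq_bot
    obtain ⟨n, hn⟩ := IsPGroup.iff_card.1 P.2
    rw [hn]
    exact (Nat.Coprime.pow_right n hKc).symm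
  rw [hdisjP, Subgroup.mem_bot] at h3
  exact mul_inv_eq_one.1 h3

end Cfsg.Agent.Helper30.RelCtl
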