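import Cfsg.Agent.Helper30.RelCtlC
import Cfsg.Agent.Helper10.S2794Core
import Cfsg.Agent.Helper37.InvolvesQuotient

/-!
# Control of strong fusion by `N(ZJ(D))` in `Qd(p)`-free groups, `D` strongly closed (helper30)

The induction (Glauberman): constrained case, local case `O_p(G) = 1`, quotient by `O_{p'}(G)`, and the
Frattini argument with `C_G(O_p(G))`.
-/

set_option autoImplicit false

universe u

open scoped Pointwise

namespace Cfsg.Agent.Helper30.RelCtl

open Subgroup
open Cfsg.Agent.Lib Cfsg.Agent.Lib.ZJ Cfsg.Agent.Helper48 Cfsg.Agent.Helper33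

variable {good : ∀ (K : Type u) [Group K], Subgroup K → Prop}

theorem mem_of_rchain {X : Type*} [Group X] {N : Subgroup X} {D A : Set X} {g : X}
    (h : RChain (N : Set X) D A g) : g ∈ N := by
  induction h with
  | nil A => exact N.one_mem
  | cons A z g hz _ _ ih => exact N.mul_mem hz ih

theorem reach_single {X : Type*} [Group X] {N P : Subgroup X} {A : Set X} {g x : X} (hxN : x ∈ N)
    (hgA : conjR g A ⊆ (P : Set X)) (hx : ∀ a ∈ A, x * a * x⁻¹ = g⁻¹ * a * g) :
    Reach (N : Set X) (P : Set X) A g := by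
  refine ⟨x⁻¹, RChain.single (N.inv_mem hxN) ?_, ?_⟩
  · rintro _ ⟨a, ha, rfl⟩
    show x⁻¹⁻¹ * a * x⁻¹ ∈ (P : Set X)
    rw [inv_inv, hx a ha]
    exact hgA ⟨a, ha, rfl⟩
  · intro a ha
    rw [inv_inv, hx a ha]

theorem reach_of_lctl {X : Type*} [Group X] {N P : Subgroup X} (h : LCtl N P) (A : Set X) (g : X)
    (hA : A ⊆ (P : Set X)) (hgA : conjR g A ⊆ (P : Set X)) :
    Reach (N : Set X) (P : Set X) A g := by
  obtain ⟨x, hxN, hx⟩ := h A g⁻¹ hA (fun a ha => by rw [inv_inv]; exact hgA ⟨a, ha, rfl⟩)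
  refine reach_single hxN hgA (fun a ha => ?_)
  rw [hx a ha, inv_inv]

theorem lctl_of_reach {X : Type*} [Group X] {N P : Subgroup X}
    (h : ∀ (A : Set X) (g : X), A ⊆ (P : Set X) → conjR g A ⊆ (P : Set X) →
      Reach (N : Set X) (P : Set X) A g) : LCtl N P := by
  intro A g hA hgA
  obtain ⟨g', hch, hag⟩ := h A g⁻¹ hA (by
    rintro _ ⟨a, ha, rfl⟩
    show g⁻¹⁻¹ * a * g⁻¹ ∈ (P : Set X)
    rw [inv_inv]
    exact hgA a ha)
  refine ⟨g'⁻¹, N.inv_mem (mem_of_rchain hch), fun a ha => ?_⟩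
  have := hag a ha
  rw [inv_inv] at this ⊢
  exact this

variable {p : ℕ} [hp : Fact p.Prime]

/-- The local case: control in the normalizers of nontrivial subgroups of `P` gives control in `G`. -/
theorem lctl_of_local (hI : Intrinsic good) {G : Type u} [Group G] [Finite G]
    (hnt : ∀ R : Subgroup G, IsPGroup p R → R ≠ ⊥ → sInf (maxGood (good G) R) ≠ ⊥)
    (P : Sylow p G) (D : Subgroup G) (hD : Cfsg.IsStronglyClosed D (P : Subgroup G)) (hD1 : D ≠ ⊥)
    (hloc : ∀ T : Subgroup G, T ≤ (P : Subgroup G) → T ≠ ⊥ →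
      RelCtl good p ↥(normalizer (T : Set G))) :
    LCtl (normalizer ((sInf (maxGood (good G) D) : Subgroup G) : Set G)) (P : Subgroup G) := by
  intro A g hA hg
  have hW := isConjugacyFunctor_zjFunctor (good := good) hI p D
  have hloc' : ∀ T : Subgroup G, T ≠ ⊥ →
      Cfsg.IsWellPlaced p (zjFunctor good D) (P : Subgroup G) T →
      Cfsg.ControlsStrongFusionIn p (zjFunctor good D) (normalizer ((T : Subgroup G) : Set G)) := by
    intro T hT0 hT
    set H := normalizer (T : Set G) with hH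
    set T' := (P : Subgroup G) ⊓ H with hT'
    have hT'p : IsPGroup p T' := P.2.to_le inf_le_left
    have hidx : ¬ p ∣ T'.relIndex H := hT.2 0
    refine ⟨T', inf_le_right, hT'p, hidx, ?_⟩
    intro A h hh hA hhA
    obtain ⟨x, hx, hxa⟩ := lctl_of_subgroup hI P D hD H hidx (hloc T hT.1 hT0) A h hh hA
      (fun a ha => hhA ⟨a, ha, rfl⟩)
    have hval : sInf (maxGood (good G) (D ⊓ H)) = zjFunctor good D T' := by
      have h2 : zjInto good D T' = sInf (maxGood (good G) (D ⊓ T')) := zjInto_of_le hD inf_le_left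
      have hDT : D ⊓ T' = D ⊓ H := by
        rw [hT', ← inf_assoc, inf_eq_left.2 hD.1]
      have hne : D ⊓ T' ≠ ⊥ := by
        obtain ⟨z, hzD, hz1, hzc⟩ := exists_central_of_stronglyClosed P hD hD1
        intro hbot
        apply hz1
        have hzH : z ∈ H := by
          apply Subgroup.centralizer_le_normalizer
          rw [Subgroup.mem_centralizer_iff]
          intro y hy
          exact hzc y (hT.1 hy)
        have : z ∈ D ⊓ T' := ⟨hzD, hD.1 hzD, hzH⟩
        rw [hbot, Subgroup.mem_bot] at this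
        exact this
      have h3 : zjInto good D T' ≠ ⊥ := by
        rw [h2]
        exact hnt _ (hT'p.to_le inf_le_right) hne
      rw [zjFunctor_of_ne_bot h3, h2, hDT]
    rw [hval] at hx
    exact ⟨x, hx, hxa⟩
  have hgA : Cfsg.Agent.Helper33.conjR g⁻¹ A ⊆ (P : Subgroup G) := by
    rintro _ ⟨a, ha, rfl⟩
    have := hg a ha
    show g⁻¹⁻¹ * a * g⁻¹ ∈ (P : Subgroup G)
    rw [inv_inv]
    exact this
  obtain ⟨c, hcA, n, hn, hgcn⟩ :=
    Cfsg.Agent.Helper33.controlsStrongFusion_of_local hW P hloc' A g⁻¹ hA hgA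
  have hWP : zjFunctor good D (P : Subgroup G) = sInf (maxGood (good G) D) := by
    have h2 : zjInto good D (P : Subgroup G) = sInf (maxGood (good G) (D ⊓ (P : Subgroup G))) :=
      zjInto_of_le hD le_rfl
    rw [inf_eq_left.2 hD.1] at h2
    have h3 : zjInto good D (P : Subgroup G) ≠ ⊥ := by
      rw [h2]
      exact hnt D (P.2.to_le hD.1) hD1
    rw [zjFunctor_of_ne_bot h3, h2]
  rw [hWP] at hn
  refine ⟨n⁻¹, Subgroup.inv_mem _ hn, fun a ha => ?_⟩
  have hg' : g = n⁻¹ * c⁻¹ := by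
    rw [← inv_inj, hgcn]
    group
  have hca : a * c = c * a := (Subgroup.mem_centralizer_iff.1 hcA) a ha
  have hca' : c⁻¹ * a * c = a := by rw [mul_assoc, hca]; group
  rw [hg']
  calc n⁻¹ * a * n⁻¹⁻¹ = n⁻¹ * (c⁻¹ * a * c) * n := by rw [hca', inv_inv]
    _ = n⁻¹ * c⁻¹ * a * (n⁻¹ * c⁻¹)⁻¹ := by group

end Cfsg.Agent.Helper30.RelCtl
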