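import Cfsg.Agent.Helper30.RelCtlD

/-!
# Control of strong fusion by `N(ZJ(D))` in `Qd(p)`-free groups: the induction (helper30)
-/

set_option autoImplicit false

universe u

open scoped Pointwise

namespace Cfsg.Agent.Helper30.RelCtl

open Subgroup
open Cfsg.Agent.Lib Cfsg.Agent.Lib.ZJ Cfsg.Agent.Helper48 Cfsg.Agent.Helper33

variable {good : ∀ (K : Type u) [Group K], Subgroup K → Prop}

variable {p : ℕ} [hp : Fact p.Prime]

/-- **Main theorem** (generic in the family): in a `Qd(p)`-free group, `p` odd, the normalizer of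
`ZJ(D)` controls strong fusion in a Sylow `p`-subgroup `P`, for `D` strongly closed in `P`. -/
theorem relCtl_of_qdFree (hp2 : p ≠ 2) (hI : Intrinsic good)
    (hrepl : ∀ (S : Type u) [Group S] [Finite S], IsPGroup p S → ∀ (D : Subgroup S) [D.Normal],
      ReplD good S D)
    (hnt : ∀ (X : Type u) [Group X] [Finite X] (R : Subgroup X), IsPGroup p R → R ≠ ⊥ →
      sInf (maxGood (good X) R) ≠ ⊥) :
    ∀ (n : ℕ) (G : Type u) [Group G] [Finite G], Nat.card G = n →
      ¬ Cfsg.Involves ↥(Cfsg.qd p) G → RelCtl good p G := by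
  intro n
  induction n using Nat.strong_induction_on with
  | _ n ih =>
  intro G _ _ hcard hfree S D hD
  by_cases hDn : normalizer (D : Set G) = ⊤
  · exact lctl_of_normalizer_eq_top hI _ D hDn
  by_cases hcon : Cfsg.IsPConstrained p G
  · exact lctl_of_constrained hp2 hI hrepl hfree hcon S D hD
  have hsub : ∀ H : Subgroup G, H ≠ ⊤ → RelCtl good p ↥H := by
    intro H hH
    have hlt : Nat.card H < n := by
      rw [← hcard]
      have := card_lt_card_of_lt' (lt_top_iff_ne_top.mpr hH)
      rwa [Subgroup.card_top] at this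
    exact ih _ hlt ↥H rfl
      (fun h => hfree (Cfsg.Agent.Helper10.S2794Core.involves_of_involves_subgroup' H h))
  have hquo : ∀ M : Subgroup G, [M.Normal] → M ≠ ⊥ → RelCtl good p (G ⧸ M) := by
    intro M _ hM
    have hlt : Nat.card (G ⧸ M) < n := by
      have h1 := Subgroup.card_eq_card_quotient_mul_card_subgroup M
      have h2 : 1 < Nat.card M := (Subgroup.one_lt_card_iff_ne_bot M).mpr hM
      have h3 : 0 < Nat.card (G ⧸ M) := Nat.card_pos
      rw [← hcard, h1]
      nlinarith
    exact ih _ hlt (G ⧸ M) rfl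
      (fun h => hfree (Cfsg.Agent.Helper37.involves_of_involves_quotient M h))
  have hD1 : D ≠ ⊥ := by
    rintro rfl
    apply hDn
    exact Subgroup.normalizer_eq_top_iff.mpr inferInstance
  by_cases hQ0 : Cfsg.pCore p G = ⊥
  · -- `O_p(G) = 1`: local control
    apply lctl_of_local hI (hnt G) S D hD hD1
    intro T hTS hT0
    apply hsub
    intro htop
    have hTn : T.Normal := Subgroup.normalizer_eq_top_iff.mp htop
    have := Cfsg.Agent.Lib.le_pCore hTn (S.2.to_le hTS)
    rw [hQ0, le_bot_iff] at this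
    exact hT0 this
  by_cases hK0 : Cfsg.pPrimeCore p G = ⊥
  swap
  · exact lctl_of_pPrime_quotient hI S D hD (Cfsg.pPrimeCore p G) (card_pPrimeCore_coprime p)
      (hquo _ hK0)
  -- `O_{p'}(G) = 1`, `O_p(G) ≠ 1`, not constrained
  have hcon' : ¬ Subgroup.centralizer ((Cfsg.pCore p G : Subgroup G) : Set G) ≤ Cfsg.pCore p G :=
    fun h => hcon (Cfsg.Agent.Helper54.CharP.isPConstrained ⟨hK0, h⟩)
  obtain ⟨N, hN⟩ : ∃ N : Subgroup G,
    N = normalizer ((sInf (maxGood (good G) D) : Subgroup G) : Set G) := ⟨_, rfl⟩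
  rw [← hN]
  have hSN : (S : Subgroup G) ≤ N := hN ▸ le_normalizer_sInf_of_stronglyClosed hI hD
  apply lctl_of_reach
  intro A g hA hgA
  have hsubR : ∀ H : Subgroup G, H ≠ ⊤ → (S : Subgroup G) ≤ H → ∀ (A : Set G) (g : G), g ∈ H →
      A ⊆ ((S : Subgroup G) : Set G) → conjR g A ⊆ ((S : Subgroup G) : Set G) →
      Reach (N : Set G) ((S : Subgroup G) : Set G) A g := by
    intro H hH hSH A g hg hA hgA
    have hSH' : (S : Subgroup G) ⊓ H = S := inf_eq_left.2 hSH
    have hidx : ¬ p ∣ ((S : Subgroup G) ⊓ H).relIndex H := by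
      rw [hSH']
      exact fun h => S.not_dvd_index (h.trans (Subgroup.relIndex_dvd_index_of_le hSH))
    obtain ⟨x, hx, hxa⟩ := lctl_of_subgroup hI S D hD H hidx (hsub H hH) A g⁻¹ (H.inv_mem hg)
      (by rw [hSH']; exact hA)
      (by
        intro a ha
        rw [hSH', inv_inv]
        exact hgA ⟨a, ha, rfl⟩)
    rw [inf_eq_left.2 (hD.1.trans hSH), ← hN] at hx
    refine reach_single hx.2 hgA (fun a ha => ?_)
    rw [hxa a ha, inv_inv]
  have hS : ∀ (B : Set G) (s : G), B ⊆ ((S : Subgroup G) : Set G) → s ∈ (S : Subgroup G) →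
      Reach (N : Set G) ((S : Subgroup G) : Set G) B s := by
    intro B s hB hs
    refine Reach.of_rchain (RChain.single (hSN hs) ?_)
    rintro _ ⟨b, hb, rfl⟩
    exact (S : Subgroup G).mul_mem ((S : Subgroup G).mul_mem ((S : Subgroup G).inv_mem hs) (hB hb)) hs
  obtain ⟨C, hC⟩ : ∃ C : Subgroup G,
    C = Subgroup.centralizer ((Cfsg.pCore p G : Subgroup G) : Set G) := ⟨_, rfl⟩
  have hCn : C.Normal := hC ▸ Subgroup.normal_centralizer
  -- the normalizer of `S ∩ C` is proper
  have hG₁ : Subgroup.normalizer (((S : Subgroup G) ⊓ C : Subgroup G) : Set G) ≠ ⊤ := by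
    intro htop
    apply hcon'
    have hn : ((S : Subgroup G) ⊓ C).Normal := Subgroup.normalizer_eq_top_iff.mp htop
    rw [hC] at hn
    exact centralizer_pCore_le_of_normal_inf S hK0 hn
  have hSG₁ : (S : Subgroup G) ≤ Subgroup.normalizer (((S : Subgroup G) ⊓ C : Subgroup G) : Set G) := by
    intro s hs
    apply mem_normalizer_of_conjR_subset
    rintro _ ⟨x, hx, rfl⟩
    obtain ⟨hxS, hxC⟩ := Subgroup.mem_inf.mp hx
    refine Subgroup.mem_inf.mpr ⟨?_, ?_⟩
    · exact (S : Subgroup G).mul_mem ((S : Subgroup G).mul_mem ((S : Subgroup G).inv_mem hs) hxS) hs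
    · have := hCn.conj_mem x hxC s⁻¹
      rwa [inv_inv] at this
  -- reduce to subgroups
  have hA₀ : Subgroup.closure A ≤ (S : Subgroup G) := (Subgroup.closure_le _).mpr hA
  have hgA₀ := conjR_closure_subset (S := (S : Subgroup G)) hgA
  suffices hmain : Reach (N : Set G) ((S : Subgroup G) : Set G)
      ((Subgroup.closure A : Subgroup G) : Set G) g from hmain.mono Subgroup.subset_closure
  obtain ⟨c, hcC, hn, hcA⟩ := exists_frattini_fusion S C (Subgroup.closure A) hA₀ g hgA₀
  have hR2 : Reach (N : Set G) ((S : Subgroup G) : Set G)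
      (conjR c ((Subgroup.closure A : Subgroup G) : Set G)) (c⁻¹ * g) := by
    apply hsubR _ hG₁ hSG₁ _ _ hn hcA
    rw [← conjR_mul, mul_inv_cancel_left]
    exact hgA₀
  have hR1 : Reach (N : Set G) ((S : Subgroup G) : Set G)
      ((Subgroup.closure A : Subgroup G) : Set G) c := by
    by_cases hCS : C ⊔ (S : Subgroup G) = ⊤
    · -- the case `G = C S`
      have hquotp : IsPGroup p (G ⧸ C) := by
        intro y
        obtain ⟨x, rfl⟩ := QuotientGroup.mk_surjective y
        have hx : x ∈ ((C ⊔ (S : Subgroup G) : Subgroup G) : Set G) := hCS ▸ Subgroup.mem_top x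
        rw [Subgroup.normal_mul] at hx
        obtain ⟨c₁, hc₁, s, hs, rfl⟩ := hx
        obtain ⟨k, hk⟩ := S.2 ⟨s, hs⟩
        refine ⟨k, ?_⟩
        have hk' : s ^ p ^ k = 1 := congrArg Subtype.val hk
        have e : (QuotientGroup.mk (c₁ * s) : G ⧸ C) = QuotientGroup.mk s := by
          rw [QuotientGroup.mk_mul, (QuotientGroup.eq_one_iff c₁).mpr hc₁, one_mul]
        rw [e, ← QuotientGroup.mk_pow, hk']
        rfl
      have hcop : ∀ x : G, (orderOf x).Coprime p →
          x ∈ Subgroup.centralizer ((Cfsg.pCore p G : Subgroup G) : Set G) := by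
        intro x hx
        rw [← hC]
        exact pResidual_le_of_isPGroup_quotient C hquotp (mem_pResidual_of_coprime hx)
      -- `D` is not contained in `O_p(G)`
      have hDQ : ¬ D ≤ Cfsg.pCore p G := by
        intro hle
        apply hDn
        rw [eq_top_iff]
        intro x _
        have key : ∀ y : G, ∀ d ∈ D, y * d * y⁻¹ ∈ D := fun y d hd =>
          hD.2 d hd y (Cfsg.Agent.Lib.pCore_le_sylow S ((Cfsg.pCore_normal p G).conj_mem d (hle hd) y))
        rw [Subgroup.mem_normalizer_iff]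
        intro d
        constructor
        · exact key x d
        · intro hd
          have := key x⁻¹ _ hd
          simpa [mul_assoc] using this
      obtain ⟨f, hf⟩ : ∃ f : G →* G ⧸ Cfsg.pCore p G, f = QuotientGroup.mk' (Cfsg.pCore p G) :=
        ⟨_, rfl⟩
      have hfs : Function.Surjective f := hf ▸ QuotientGroup.mk'_surjective _
      have hker : f.ker = Cfsg.pCore p G := by rw [hf]; exact QuotientGroup.ker_mk' _
      set Tb : Sylow p (G ⧸ Cfsg.pCore p G) := S.mapSurjective hfs with hTb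
      have hTbcoe : (Tb : Subgroup (G ⧸ Cfsg.pCore p G)) = (S : Subgroup G).map f :=
        Sylow.coe_mapSurjective hfs S
      have hDb : Cfsg.IsStronglyClosed (D.map f) (Tb : Subgroup (G ⧸ Cfsg.pCore p G)) := by
        rw [hTbcoe]
        exact isStronglyClosed_map_of_surjective f hfs S D hD
      obtain ⟨Nq, hNq⟩ : ∃ Nq : Subgroup (G ⧸ Cfsg.pCore p G),
        Nq = normalizer ((sInf (maxGood (good (G ⧸ Cfsg.pCore p G)) (D.map f)) :
          Subgroup (G ⧸ Cfsg.pCore p G)) : Set (G ⧸ Cfsg.pCore p G)) := ⟨_, rfl⟩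
      have hqctl : LCtl Nq (Tb : Subgroup (G ⧸ Cfsg.pCore p G)) := hNq ▸ hquo _ hQ0 Tb (D.map f) hDb
      have hTbNq : (Tb : Subgroup (G ⧸ Cfsg.pCore p G)) ≤ Nq :=
        hNq ▸ le_normalizer_sInf_of_stronglyClosed hI hDb
      have hcomapSb : ((S : Subgroup G).map f).comap f = (S : Subgroup G) := by
        rw [Subgroup.comap_map_eq, hker, sup_eq_left.mpr (Cfsg.Agent.Lib.pCore_le_sylow S)]
      have hDb1 : D.map f ≠ ⊥ := by
        intro h0
        apply hDQ
        rw [← hker, ← Subgroup.map_eq_bot_iff]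
        exact h0
      have hZb1 : sInf (maxGood (good (G ⧸ Cfsg.pCore p G)) (D.map f)) ≠ ⊥ :=
        hnt _ _ (Tb.2.to_le hDb.1) hDb1
      refine reach_of_quotient_pCore_gen S (N : Set G) (Nq : Set (G ⧸ Cfsg.pCore p G)) hcop ?_ ?_ hS
        (Subgroup.closure A) hA₀ c hcA
      · intro A' g' hA' hgA'
        rw [← hf, ← hTbcoe] at hA' hgA' ⊢
        exact reach_of_lctl hqctl A' g' hA' hgA'
      · intro z' hz' B hB hzB
        rw [← hf] at hzB ⊢
        obtain ⟨z, rfl⟩ := hfs z'
        obtain ⟨H, hH⟩ : ∃ H : Subgroup G, H = Nq.comap f := ⟨_, rfl⟩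
        have hHtop : H ≠ ⊤ := by
          intro htop
          have hnorm : (sInf (maxGood (good (G ⧸ Cfsg.pCore p G)) (D.map f))).Normal := by
            rw [← Subgroup.normalizer_eq_top_iff, eq_top_iff]
            intro y _
            obtain ⟨x, rfl⟩ := hfs y
            have : x ∈ H := htop ▸ Subgroup.mem_top x
            rw [hH, Subgroup.mem_comap, hNq] at this
            exact this
          have hle : sInf (maxGood (good (G ⧸ Cfsg.pCore p G)) (D.map f)) ≤
              Cfsg.pCore p (G ⧸ Cfsg.pCore p G) :=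
            Cfsg.Agent.Lib.le_pCore hnorm
              (Tb.2.to_le ((sInf_maxGood_le' hI (D.map f)).trans hDb.1))
          rw [pCore_quotient_pCore_eq_bot p, le_bot_iff] at hle
          exact hZb1 hle
        have hSH : (S : Subgroup G) ≤ H := by
          intro s hs
          rw [hH, Subgroup.mem_comap]
          apply hTbNq
          rw [hTbcoe]
          exact ⟨s, hs, rfl⟩
        refine ⟨z, rfl, hsubR H hHtop hSH B z (by rw [hH]; exact hz') hB ?_⟩
        intro b hb
        have : f b ∈ (S : Subgroup G).map f := by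
          apply hzB
          rw [← image_conjR]
          exact ⟨b, hb, rfl⟩
        rw [← hcomapSb]
        exact this
    · exact hsubR _ hCS le_sup_right _ c ((le_sup_left : C ≤ C ⊔ (S : Subgroup G)) hcC)
        (by exact_mod_cast hA₀) hcA
  have := hR1.trans hR2
  rwa [mul_inv_cancel_left] at this

end Cfsg.Agent.Helper30.RelCtl
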