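import Mathlib
import Cfsg.Agent.S0809

/-!
helper30 for helper54 (S3921 SCG farm #14142): leaf (IC) `IC_two_pow_of_isPGroup_centralizer`:
an involution of `PSL₂(F)` (`|F|` odd) whose centralizer is a 2-group forces `q ∓ 1 = 2^k`.
-/

set_option autoImplicit false

namespace Cfsg.Agent.Helper30.SCG

/-- a central element of `SL₂(F)` squares to `1` -/
theorem IC_center_sq {F : Type*} [Field F] (z : Matrix.SpecialLinearGroup (Fin 2) F)
    (hz : z ∈ Subgroup.center (Matrix.SpecialLinearGroup (Fin 2) F)) : z * z = 1 := by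
  obtain ⟨r, hr, hrz⟩ := Matrix.SpecialLinearGroup.mem_center_iff.1 hz
  rw [Fintype.card_fin] at hr
  apply Subtype.ext
  rw [Matrix.SpecialLinearGroup.coe_mul, ← hrz, Matrix.SpecialLinearGroup.coe_one, ← map_mul,
    ← pow_two, hr, map_one]

/-- an element of `SL₂(F)`, `2 ≠ 0`, with square `1` is central -/
theorem IC_central_of_sq {F : Type*} [Field F] (h2 : (2 : F) ≠ 0)
    (g : Matrix.SpecialLinearGroup (Fin 2) F) (hg : g * g = 1) :
    g ∈ Subgroup.center (Matrix.SpecialLinearGroup (Fin 2) F) := by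
  have hG : (g : Matrix (Fin 2) (Fin 2) F) * (g : Matrix (Fin 2) (Fin 2) F) = 1 := by
    rw [← Matrix.SpecialLinearGroup.coe_mul, hg, Matrix.SpecialLinearGroup.coe_one]
  have hdet : (g : Matrix (Fin 2) (Fin 2) F).det = 1 := g.2
  rw [Matrix.det_fin_two] at hdet
  have e00 := congrFun (congrFun hG 0) 0
  have e01 := congrFun (congrFun hG 0) 1
  have e10 := congrFun (congrFun hG 1) 0
  have e11 := congrFun (congrFun hG 1) 1
  simp only [Matrix.mul_apply, Fin.sum_univ_two, Matrix.one_apply_eq, Matrix.one_apply_ne,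
    ne_eq, zero_ne_one, one_ne_zero, not_false_eq_true, Fin.isValue] at e00 e01 e10 e11
  obtain ⟨a, ha⟩ : ∃ a, a = (g : Matrix (Fin 2) (Fin 2) F) 0 0 := ⟨_, rfl⟩
  obtain ⟨b, hb⟩ : ∃ b, b = (g : Matrix (Fin 2) (Fin 2) F) 0 1 := ⟨_, rfl⟩
  obtain ⟨c, hc⟩ : ∃ c, c = (g : Matrix (Fin 2) (Fin 2) F) 1 0 := ⟨_, rfl⟩
  obtain ⟨d, hd⟩ : ∃ d, d = (g : Matrix (Fin 2) (Fin 2) F) 1 1 := ⟨_, rfl⟩
  simp only [← ha, ← hb, ← hc, ← hd] at e00 e01 e10 e11 hdet
  -- `a + d ≠ 0`
  have hs : a + d ≠ 0 := by
    intro h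
    have hd' : d = -a := by linear_combination h
    subst hd'
    apply h2
    linear_combination (-1 : F) * e00 - hdet
  have hb0 : b = 0 := by
    have : b * (a + d) = 0 := by linear_combination e01
    rcases mul_eq_zero.1 this with h | h
    · exact h
    · exact absurd h hs
  have hc0 : c = 0 := by
    have : c * (a + d) = 0 := by linear_combination e10
    rcases mul_eq_zero.1 this with h | h
    · exact h
    · exact absurd h hs
  subst hb0 hc0
  have ha2 : a ^ 2 = 1 := by linear_combination e00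
  have had : a = d := by
    have h1 : a * d = 1 := by linear_combination hdet
    have h3 : a * (a - d) = 0 := by linear_combination ha2 - h1
    rcases mul_eq_zero.1 h3 with h | h
    · exfalso
      rw [h] at ha2
      simp at ha2
    · linear_combination h
  rw [Matrix.SpecialLinearGroup.mem_center_iff]
  refine ⟨a, by rw [Fintype.card_fin]; exact ha2, ?_⟩
  ext i j
  fin_cases i <;> fin_cases j
  · simp [ha]
  · simp [← hb]
  · simp [← hc]
  · simp [← hd, had]

/-- (IC) -/
theorem IC_two_pow_of_isPGroup_centralizer {F : Type*} [Field F] [Fintype F]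
    (hodd : Odd (Fintype.card F)) (x : Matrix.ProjectiveSpecialLinearGroup (Fin 2) F)
    (hx : orderOf x = 2)
    (hC : IsPGroup 2 ↥(Subgroup.centralizer
      ({x} : Set (Matrix.ProjectiveSpecialLinearGroup (Fin 2) F)))) :
    (Fintype.card F % 4 = 1 → ∃ k : ℕ, Fintype.card F - 1 = 2 ^ k) ∧
    (Fintype.card F % 4 = 3 → ∃ k : ℕ, Fintype.card F + 1 = 2 ^ k) := by
  classical
  -- characteristic not two
  have h2 : (2 : F) ≠ 0 := by
    intro h
    have h' : ((2 : ℕ) : F) = 0 := by exact_mod_cast h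
    have hch : ringChar F = 2 := CharP.ringChar_of_prime_eq_zero Nat.prime_two h'
    have := FiniteField.even_card_of_char_two hch
    rw [Nat.odd_iff] at hodd
    omega
  have hx1 : x ≠ 1 := by
    intro h
    rw [h, orderOf_one] at hx
    omega
  have hxx : x * x = 1 := by
    have h := pow_orderOf_eq_one x
    rw [hx, pow_two] at h
    exact h
  have hxinv : x⁻¹ = x := inv_eq_of_mul_eq_one_left hxx
  -- lift
  obtain ⟨g, rfl⟩ := QuotientGroup.mk_surjective x
  have hgc : g ∉ Subgroup.center (Matrix.SpecialLinearGroup (Fin 2) F) := by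
    intro h
    exact hx1 ((QuotientGroup.eq_one_iff g).2 h)
  have hg2c : g * g ∈ Subgroup.center (Matrix.SpecialLinearGroup (Fin 2) F) := by
    rw [← QuotientGroup.eq_one_iff]
    exact hxx
  have hg2 : ¬ g ^ 2 ^ 1 = 1 := by
    intro h
    rw [pow_one, pow_two] at h
    exact hgc (IC_central_of_sq h2 g h)
  have hg4 : g ^ 2 ^ (1 + 1) = 1 := by
    have := IC_center_sq _ hg2c
    calc g ^ 2 ^ (1 + 1) = (g * g) * (g * g) := by norm_num [pow_succ, mul_assoc]
      _ = 1 := this
  have hord : orderOf g = 2 ^ (1 + 1) := orderOf_eq_prime_pow hg2 hg4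
  have hA : Nat.card (Subgroup.zpowers g) = 4 := by
    rw [Nat.card_zpowers, hord]
    norm_num
  -- the normalizer of `⟨g⟩` is a 2-group
  have hN : IsPGroup 2 ↥(Subgroup.normalizer
      ((Subgroup.zpowers g : Subgroup (Matrix.SpecialLinearGroup (Fin 2) F)) :
        Set (Matrix.SpecialLinearGroup (Fin 2) F))) := by
    rintro ⟨h, hh⟩
    have hconj : h * g * h⁻¹ ∈ Subgroup.zpowers g := (hh g).1 (Subgroup.mem_zpowers g)
    obtain ⟨j, hj⟩ := Subgroup.mem_zpowers_iff.1 hconj
    -- in `PSL₂`
    set X : Matrix.ProjectiveSpecialLinearGroup (Fin 2) F := QuotientGroup.mk g with hX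
    set H : Matrix.ProjectiveSpecialLinearGroup (Fin 2) F := QuotientGroup.mk h with hH
    have hjX : H * X * H⁻¹ = X ^ j := by
      rw [hX, hH, ← QuotientGroup.mk_inv, ← QuotientGroup.mk_mul, ← QuotientGroup.mk_mul, ← hj,
        QuotientGroup.mk_zpow]
    have hXj : X ^ j = X := by
      rcases Int.even_or_odd' j with ⟨i, hi | hi⟩
      · exfalso
        have : X ^ j = 1 := by
          rw [hi, zpow_mul, zpow_ofNat, pow_two, hxx, one_zpow]
        rw [this] at hjX
        apply hx1
        calc X = H⁻¹ * (H * X * H⁻¹) * H := by group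
          _ = 1 := by rw [hjX]; group
      · rw [hi, zpow_add, zpow_mul, zpow_ofNat, pow_two, hxx, one_zpow, one_mul, zpow_one]
    rw [hXj] at hjX
    have hcent : H ∈ Subgroup.centralizer
        ({X} : Set (Matrix.ProjectiveSpecialLinearGroup (Fin 2) F)) := by
      rw [Subgroup.mem_centralizer_iff]
      intro y hy
      rw [Set.mem_singleton_iff] at hy
      subst hy
      calc X * H = (H * X * H⁻¹) * H := by rw [hjX]
        _ = H * X := by group
    obtain ⟨k, hk⟩ := hC ⟨H, hcent⟩
    have hk' : H ^ 2 ^ k = 1 := by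
      have := congrArg Subtype.val hk
      simpa using this
    have hz : h ^ 2 ^ k ∈ Subgroup.center (Matrix.SpecialLinearGroup (Fin 2) F) := by
      rw [← QuotientGroup.eq_one_iff, QuotientGroup.mk_pow]
      exact hk'
    refine ⟨k + 1, ?_⟩
    apply Subtype.ext
    show h ^ 2 ^ (k + 1) = 1
    rw [pow_succ, pow_mul, pow_two]
    exact IC_center_sq _ hz
  obtain ⟨n, hn⟩ := hN.exists_card_eq
  have hS := Cfsg.Agent.S0809.result (F := F) rfl hodd (Subgroup.zpowers g) hA
  obtain ⟨t, ht⟩ := hodd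
  constructor
  · intro h1
    have := hS.2.1 h1
    rw [hn] at this
    rcases n with _ | n
    · omega
    · exact ⟨n, by rw [pow_succ] at this; omega⟩
  · intro h3
    have := hS.2.2.1 h3
    rw [hn] at this
    rcases n with _ | n
    · omega
    · exact ⟨n, by rw [pow_succ] at this; omega⟩

end Cfsg.Agent.Helper30.SCG
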