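import Mathlib

/-!
helper30 for helper54 (S3921 SCG farm #14142): leaf (NTC) `NTC_two_pow`, the converse arithmetic.
-/

set_option autoImplicit false

namespace Cfsg.Agent.Helper30.SCG

/-- (NTC) the converse arithmetic. -/
theorem NTC_two_pow (q : ℕ) (hodd : Odd q)
    (hq : q = 9 ∨ (q.Prime ∧ ∃ k : ℕ, q = 2 ^ k + 1 ∨ q = 2 ^ k - 1)) :
    (q % 4 = 1 → ∃ k : ℕ, q - 1 = 2 ^ k) ∧ (q % 4 = 3 → ∃ k : ℕ, q + 1 = 2 ^ k) := by
  obtain ⟨t, ht⟩ := hodd
  rcases hq with rfl | ⟨hp, k, hk | hk⟩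
  · exact ⟨fun _ => ⟨3, by norm_num⟩, fun h => by omega⟩
  · refine ⟨fun _ => ⟨k, by omega⟩, fun h3 => ?_⟩
    rcases k with _ | _ | k
    · simp at hk
      omega
    · exact ⟨2, by norm_num at hk ⊢; omega⟩
    · exfalso
      have e : 2 ^ (k + 2) = 4 * 2 ^ k := by ring
      omega
  · rcases k with _ | _ | k
    · exfalso
      simp at hk
      rw [hk] at hp
      exact Nat.not_prime_zero hp
    · exfalso
      norm_num at hk
      rw [hk] at hp
      exact Nat.not_prime_one hp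
    · have e : 2 ^ (k + 2) = 4 * 2 ^ k := by ring
      have hpos : 0 < 2 ^ k := Nat.two_pow_pos k
      refine ⟨fun h1 => by omega, fun _ => ⟨k + 2, by omega⟩⟩

end Cfsg.Agent.Helper30.SCG
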