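import Mathlib
import Cfsg.Agent.Helper84.SU3P.Words
import Cfsg.Agent.Helper70.SU3P_BN
import Cfsg.Agent.Helper49.SU3P_HZ

/-!
# S2289 (helper84, farm part 3 #13093), piece (MR6): the seed relations
`t x t⁻¹ = A h^n t B` with `A`, `B` given by words.
-/

set_option autoImplicit false
set_option linter.unusedSectionVars false
set_option linter.unusedVariables false

namespace Cfsg.Agent.Helper30.SU3P

open Matrix Polynomial Cfsg.Agent.Helper84.RU3 Cfsg.Agent.Helper96.SLPres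
  Cfsg.Agent.Helper96.StemSLTwo Cfsg.Agent.Helper96.StPres Cfsg.Agent.Helper84.SU3P

variable {K : Type*} [Field K] (bar : K →+* K) (hb : ∀ x, bar (bar x) = x)
include hb

/-- the hermitian condition of an upper unitriangular element (no finiteness needed) -/
theorem MR6_uM_cond {a b : K} (h : IsUn bar (uM bar a b)) : b + bar b + a * bar a = 0 := by
  unfold IsUn at h
  have h22 := congrFun (congrFun h 2) 2
  simp [uM, Jm, Matrix.mul_apply, Fin.sum_univ_three] at h22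
  linear_combination h22

omit hb in
theorem MR6_tM_neg_mul {ε : K} (hε : ε ≠ 0) : tM (-ε) * tM ε = 1 := by
  unfold tM
  ext i j
  fin_cases i <;> fin_cases j <;>
    simp [Matrix.mul_apply, Fin.sum_univ_three, hε, inv_neg]

omit hb in
theorem MR6_hM_zero_det : (hM bar (0 : K)).det = 0 := by
  simp [hM, Matrix.det_fin_three]

/-- (MR6) the seed relations: `t x t⁻¹ = A h^n t B` with `A`, `B` given by words -/
theorem rel_seed {p : ℕ} [Fact p.Prime] (H₀ T₀ : SUJ bar) {ζ ε : K}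
    (hζ : ∀ x : K, x ≠ 0 → ∃ n : ℕ, ζ ^ n = x) (hε : ε ≠ 0) (hεb : bar ε = -ε)
    (hH₀ : mt bar H₀ = hM bar ζ) (hT₀ : mt bar T₀ = tM ε)
    (Uw : (ZMod p)[X] → (ZMod p)[X] → SUJ bar)
    (hUw : ∀ (g : SUJ bar) (a b : K), mt bar g = uM bar a b → ∃ f₁ f₂ : (ZMod p)[X], Uw f₁ f₂ = g)
    (X : SUJ bar) {a b : K} (hb0 : b ≠ 0) (hX : mt bar X = uM bar a b) :
    ∃ (f₁ f₂ f₃ f₄ : (ZMod p)[X]) (n : ℕ),
      T₀ * X * T₀⁻¹ = Uw f₁ f₂ * H₀ ^ n * T₀ * Uw f₃ f₄ := by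
  have hζ0 : ζ ≠ 0 := by
    rintro rfl
    have h1 := det_mt bar H₀
    rw [hH₀, MR6_hM_zero_det] at h1
    exact zero_ne_one h1
  have hab : b + bar b + a * bar a = 0 := by
    apply MR6_uM_cond bar hb
    rw [← hX]
    exact isUn_mt bar X
  have hbb0 : bar b ≠ 0 := (map_ne_zero bar).mpr hb0
  obtain ⟨hBN, hc1, hc2⟩ := Cfsg.Agent.Helper70.SU3P.bruhat_normal bar hb hε hεb hab hb0
  have hTinv : mt bar T₀⁻¹ = tM (-ε) := by
    have h1 := mt_mul_inv bar T₀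
    rw [hT₀] at h1
    calc mt bar T₀⁻¹ = (tM (-ε) * tM ε) * mt bar T₀⁻¹ := by
          rw [MR6_tM_neg_mul hε, Matrix.one_mul]
      _ = tM (-ε) * (tM ε * mt bar T₀⁻¹) := by rw [Matrix.mul_assoc]
      _ = tM (-ε) := by rw [h1, Matrix.mul_one]
  obtain ⟨f₁, f₂, hf12⟩ := hUw (uE bar hb (a / (ε * b)) (-1 / (ε ^ 2 * b)) hc1) _ _ (mt_uE bar hb _ _ hc1)
  obtain ⟨f₃, f₄, hf34⟩ := hUw (uE bar hb (a / (ε * bar b)) (-1 / (ε ^ 2 * b)) hc2) _ _ (mt_uE bar hb _ _ hc2)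
  have hl0 : 1 / (ε * bar b) ≠ 0 := one_div_ne_zero (mul_ne_zero hε hbb0)
  obtain ⟨n, hn⟩ := hζ _ hl0
  have hHn : mt bar (H₀ ^ n) = hM bar (1 / (ε * bar b)) := by
    have h1 := Cfsg.Agent.Helper49.SU3P.mt_zpow_hM bar hb H₀ ζ hζ0 hH₀ (n : ℤ)
    rw [zpow_natCast, zpow_natCast, hn] at h1
    exact h1
  refine ⟨f₁, f₂, f₃, f₄, n, ?_⟩
  apply ext_mt
  rw [hf12, hf34]
  simp only [mt_mul, hTinv, hT₀, hX, hHn, mt_uE]
  exact hBN

end Cfsg.Agent.Helper30.SU3P
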