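import Cfsg.Agent.Helper56.T2T.Defs

/-!
helper30 for helper56 (S2197, farm #13565): piece (C5) `case_5local` of
`tools/helper56_t2t/Skel.lean.txt`: the degrees 16, 27, 40, 65 are impossible.
The pieces (L5) `orbit_equation` and (FST) `F_normal_form` are taken as explicit hypotheses
`hL5`, `hFST` with the exact Skel statements.
-/

set_option autoImplicit false

namespace Cfsg.Agent.Helper30.T2T

open Cfsg.Agent.Helper56.T2T

universe u v
variable {G : Type u} [Group G] {Ω : Type v} [MulAction G Ω]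

/-- stabilisers of a transitive action -/
theorem C5_card_stabilizer [Finite G] [Fintype Ω] [MulAction.IsPretransitive G Ω] (ω : Ω) :
    Nat.card (MulAction.stabilizer G ω) * Fintype.card Ω = Nat.card G := by
  have h := Subgroup.card_mul_index (MulAction.stabilizer G ω)
  rw [MulAction.index_stabilizer_of_transitive G ω, Nat.card_eq_fintype_card (α := Ω)] at h
  exact h

/-- a point fixed by `F` has a stabiliser of order divisible by `|F|` -/
theorem C5_card_dvd_of_fixed (L : Loc5 G) [Finite G] (ω : Ω)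
    (hω : ω ∈ MulAction.fixedPoints L.F Ω) :
    Nat.card L.F ∣ Nat.card (MulAction.stabilizer G ω) := by
  apply Subgroup.card_dvd_of_le
  intro g hg
  rw [MulAction.mem_stabilizer_iff]
  exact (MulAction.mem_fixedPoints.1 hω) ⟨g, hg⟩

/-- `x1` does not act trivially -/
theorem C5_x1_moves (L : Loc5 G) [FaithfulSMul G Ω] (h : ∀ ω : Ω, L.x1 • ω = ω) : False := by
  apply L.x1_ne
  apply FaithfulSMul.eq_of_smul_eq_smul (α := Ω)
  intro ω
  rw [h ω, one_smul]

/-- `n3` normalises `F` -/
theorem C5_n3_conj_mem (L : Loc5 G) : ∀ f ∈ L.F, L.n3 * f * L.n3⁻¹ ∈ L.F := by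
  have hx1 : L.x1 ∈ L.F := Subgroup.subset_closure (by simp)
  have hx2 : L.x2 ∈ L.F := Subgroup.subset_closure (by simp)
  have hle : L.F ≤ L.F.comap (MulAut.conj L.n3).toMonoidHom := by
    unfold Loc5.F
    rw [Subgroup.closure_le]
    intro f hf
    rcases hf with rfl | hf
    · obtain ⟨a, b, h⟩ := L.n3_x1
      show L.n3 * L.x1 * L.n3⁻¹ ∈ Subgroup.closure {L.x1, L.x2}
      rw [h]
      exact mul_mem (pow_mem hx1 a) (pow_mem hx2 b)
    · have hf2 : f = L.x2 := hf
      subst hf2
      obtain ⟨a, b, h⟩ := L.n3_x2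
      show L.n3 * L.x2 * L.n3⁻¹ ∈ Subgroup.closure {L.x1, L.x2}
      rw [h]
      exact mul_mem (pow_mem hx1 a) (pow_mem hx2 b)
  intro f hf
  exact hle hf

/-- `n3⁻¹` normalises `F` -/
theorem C5_n3_inv_conj_mem (L : Loc5 G) : ∀ f ∈ L.F, L.n3⁻¹ * f * L.n3 ∈ L.F := by
  intro f hf
  have h1 := C5_n3_conj_mem L _ (C5_n3_conj_mem L f hf)
  have h3 : L.n3⁻¹ = L.n3 * L.n3 := by
    apply inv_eq_of_mul_eq_one_left
    have := L.n3_pow
    rw [pow_succ, pow_two] at this
    exact this
  have e : L.n3⁻¹ * f * L.n3 = L.n3 * (L.n3 * f * L.n3⁻¹) * L.n3⁻¹ := by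
    calc L.n3⁻¹ * f * L.n3 = (L.n3 * L.n3) * f * (L.n3 * L.n3)⁻¹ := by rw [← h3, inv_inv]
      _ = L.n3 * (L.n3 * f * L.n3⁻¹) * L.n3⁻¹ := by group
  rw [e]
  exact h1

/-- `n3` permutes the fixed points of `F` -/
theorem C5_n3_smul_fixed (L : Loc5 G) (ω : Ω) (hω : ω ∈ MulAction.fixedPoints L.F Ω) :
    L.n3 • ω ∈ MulAction.fixedPoints L.F Ω := by
  rw [MulAction.mem_fixedPoints] at hω ⊢
  rintro ⟨f, hf⟩
  have h1 := hω ⟨L.n3⁻¹ * f * L.n3, C5_n3_inv_conj_mem L f hf⟩
  have h2 : (L.n3⁻¹ * f * L.n3) • ω = ω := h1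
  show f • (L.n3 • ω) = L.n3 • ω
  rw [← mul_smul]
  have e : f * L.n3 = L.n3 * (L.n3⁻¹ * f * L.n3) := by group
  rw [e, mul_smul, h2]

/-- (C5) the degrees 16, 27, 40, 65. -/
theorem case_5local (L : Loc5 G) [Finite G] (hG : Nat.card G = 17971200) [Fintype Ω]
    [FaithfulSMul G Ω] [MulAction.IsPretransitive G Ω]
    (hL5 : ∃ m5 m25 : ℕ, Fintype.card Ω = (MulAction.fixedPoints L.F Ω).ncard + 30 * m5 + 25 * m25 ∧
      (m5 = 0 → m25 = 0 → ∀ ω : Ω, L.x1 • ω = ω))
    (hFST : (∀ f ∈ L.F, ∃ i j : ℕ, i < 5 ∧ j < 5 ∧ f = L.x1 ^ i * L.x2 ^ j) ∧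
      (∀ i j i' j' : ℕ, i < 5 → j < 5 → i' < 5 → j' < 5 →
        L.x1 ^ i * L.x2 ^ j = L.x1 ^ i' * L.x2 ^ j' → i = i' ∧ j = j') ∧
      Nat.card L.F = 25)
    (hN : Fintype.card Ω = 16 ∨ Fintype.card Ω = 27 ∨ Fintype.card Ω = 40 ∨ Fintype.card Ω = 65) :
    False := by
  obtain ⟨m5, m25, heq, htriv⟩ := hL5
  have hF25 : Nat.card L.F = 25 := hFST.2.2
  -- a fixed point of `F` forces `25 ∣ |G| / N`
  have hfix : ∀ ω ∈ MulAction.fixedPoints L.F Ω,
      25 ∣ Nat.card (MulAction.stabilizer G ω) := by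
    intro ω hω
    rw [← hF25]
    exact C5_card_dvd_of_fixed L ω hω
  have hzero : (¬ ∃ ω, ω ∈ MulAction.fixedPoints L.F Ω) →
      (MulAction.fixedPoints L.F Ω).ncard = 0 := by
    intro h
    have : MulAction.fixedPoints L.F Ω = ∅ := by
      ext ω
      simp only [Set.mem_empty_iff_false, iff_false]
      intro hω
      exact h ⟨ω, hω⟩
    rw [this, Set.ncard_empty]
  rcases hN with hN | hN | hN | hN
  · -- 16
    rw [hN] at heq
    exact C5_x1_moves L (htriv (by omega) (by omega))
  · -- 27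
    rw [hN] at heq
    have hm5 : m5 = 0 := by omega
    have hm25 : m25 = 1 := by
      by_contra h
      have : m25 = 0 := by omega
      exact C5_x1_moves L (htriv hm5 this)
    have hf2 : (MulAction.fixedPoints L.F Ω).ncard = 2 := by omega
    obtain ⟨a, b, hab, hset⟩ := Set.ncard_eq_two.1 hf2
    have ha : a ∈ MulAction.fixedPoints L.F Ω := by rw [hset]; simp
    have hb : b ∈ MulAction.fixedPoints L.F Ω := by rw [hset]; simp
    have hna := C5_n3_smul_fixed L a ha
    have hnb := C5_n3_smul_fixed L b hb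
    rw [hset] at hna hnb
    have hfixa : L.n3 • a = a := by
      rcases hna with h | h
      · exact h
      · exfalso
        have h' : L.n3 • a = b := h
        have hb' : L.n3 • b = a := by
          rcases hnb with h2 | h2
          · exact h2
          · exfalso
            have h2' : L.n3 • b = b := h2
            have : L.n3 • a = L.n3 • b := by rw [h', h2']
            exact hab (MulAction.injective L.n3 this)
        have h3 : L.n3 ^ 3 • a = b := by
          rw [pow_succ, pow_two, mul_smul, mul_smul, h', hb', h']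
        rw [L.n3_pow, one_smul] at h3
        exact hab h3
    have hmem : L.n3 ∈ MulAction.stabilizer G a := hfixa
    have hst := C5_card_stabilizer (G := G) a
    rw [hN, hG] at hst
    have hcard : Nat.card (MulAction.stabilizer G a) = 665600 := by omega
    have ho : orderOf L.n3 = 3 := by
      have : Fact (Nat.Prime 3) := ⟨by norm_num⟩
      exact orderOf_eq_prime L.n3_pow L.n3_ne
    have hdvd : orderOf (⟨L.n3, hmem⟩ : MulAction.stabilizer G a) ∣
        Nat.card (MulAction.stabilizer G a) := orderOf_dvd_natCard _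
    rw [Subgroup.orderOf_mk, ho, hcard] at hdvd
    omega
  · -- 40
    rw [hN] at heq
    have hno : ¬ ∃ ω, ω ∈ MulAction.fixedPoints L.F Ω := by
      rintro ⟨ω, hω⟩
      have h25 := hfix ω hω
      have hst := C5_card_stabilizer (G := G) ω
      rw [hN, hG] at hst
      have hcard : Nat.card (MulAction.stabilizer G ω) = 449280 := by omega
      rw [hcard] at h25
      omega
    have := hzero hno
    omega
  · -- 65
    rw [hN] at heq
    have hno : ¬ ∃ ω, ω ∈ MulAction.fixedPoints L.F Ω := by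
      rintro ⟨ω, hω⟩
      have h25 := hfix ω hω
      have hst := C5_card_stabilizer (G := G) ω
      rw [hN, hG] at hst
      have hcard : Nat.card (MulAction.stabilizer G ω) = 276480 := by omega
      rw [hcard] at h25
      omega
    have := hzero hno
    omega

end Cfsg.Agent.Helper30.T2T
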