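/-
Helper30: the stabiliser of the base trio acts on the seven sextets refining the trio (a Fano
plane, coordinatised by the non-zero vectors of `F_2^3`) and on the three octads of the trio.
Generator certificates and closure induction.
-/
import Cfsg.Agent.Helper93.GrpTrio
import Cfsg.Agent.Helper93.Classes

set_option autoImplicit false
set_option linter.unusedSectionVars false

namespace Cfsg.Agent.Helper30.Trio

open Cfsg Cfsg.Agent.Helper93 Cfsg.Agent.Helper7
open scoped Pointwise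

/-- masks of the three octads of the base trio -/
def ocM : Fin 3 → ℕ := ![3739786, 4645632, 8391797]

/-- masks of the tetrads of the seven sextets refining the base trio -/
def sxM : Fin 7 → List ℕ := ![
  [3137, 172544, 589960, 3149826, 4473088, 8388660],
  [3120, 287232, 1118216, 2621570, 4358400, 8388677],
  [2132, 393984, 593922, 3145864, 4251648, 8389665],
  [2085, 49920, 1114242, 2625544, 4595712, 8389712],
  [1124, 155904, 1572874, 2166912, 4489728, 8390673],
  [1045, 4234, 303360, 3735552, 4342272, 8390752],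
  [113, 442368, 1577088, 2162698, 4203264, 8391684]]

/-- the octads of the base trio -/
def oc (j : Fin 3) : Finset GolayPt := sm (ocM j)

/-- the seven sextets refining the base trio -/
def sx (i : Fin 7) : Finset (Finset GolayPt) := smL (sxM i)

/-- the base trio -/
def T0 : Finset (Finset GolayPt) := (encFam 3).dec (trioArr.a 1)

theorem T0_eq : T0 = smL [3739786, 4645632, 8391797] := by
  show smL (unpackL 3 (trioArr.a 1)) = _
  congr 1

/-- coordinates of the seven sextets -/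
def fv : Fin 7 → Fin 3 → ZMod 2 := ![![1, 0, 0], ![0, 1, 0], ![0, 0, 1], ![1, 1, 1], ![0, 1, 1],
  ![1, 0, 1], ![1, 1, 0]]

theorem fv_injective : Function.Injective fv := by decide

theorem ocM_lt : ∀ j, ocM j < 2 ^ 24 := by decide

theorem ocM_injective : Function.Injective ocM := by decide

theorem oc_injective : Function.Injective oc := by
  intro j j' h
  exact ocM_injective (sm_inj (ocM_lt j) (ocM_lt j') h)

theorem sxM_sorted : ∀ i, sortedB (sxM i) = true := by decide

theorem sxM_lt : ∀ i, ∀ m ∈ sxM i, m < 2 ^ 24 := by decide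

theorem sxM_injective : Function.Injective sxM := by decide

theorem sx_injective : Function.Injective sx := by
  intro i i' h
  exact sxM_injective (smL_inj (sortedB_spec (sxM_sorted i)) (sortedB_spec (sxM_sorted i'))
    (sxM_lt i) (sxM_lt i') h)


/-! ### The action property -/

/-- `g` acts on the seven sextets by `π`, on the three octads by `τ`, and `π` is induced by the
matrix `M` on the coordinates -/
def Cond (g : Equiv.Perm GolayPt) (π : Equiv.Perm (Fin 7)) (τ : Equiv.Perm (Fin 3))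
    (M : GL (Fin 3) (ZMod 2)) : Prop :=
  (∀ i, g • sx i = sx (π i)) ∧ (∀ j, g • oc j = oc (τ j)) ∧
    ∀ i, fv (π i) = (M : Matrix (Fin 3) (Fin 3) (ZMod 2)).mulVec (fv i)

/-- `g` permutes the seven sextets and the three octads, acting linearly on the coordinates -/
def Q (g : Equiv.Perm GolayPt) : Prop :=
  ∃ (π : Equiv.Perm (Fin 7)) (τ : Equiv.Perm (Fin 3)) (M : GL (Fin 3) (ZMod 2)), Cond g π τ M

theorem Cond.one : Cond 1 1 1 1 :=
  ⟨fun i => by simp, fun j => by simp, fun i => by simp⟩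

theorem Cond.mul {g h : Equiv.Perm GolayPt} {π π' : Equiv.Perm (Fin 7)}
    {τ τ' : Equiv.Perm (Fin 3)} {M M' : GL (Fin 3) (ZMod 2)} (hg : Cond g π τ M)
    (hh : Cond h π' τ' M') : Cond (g * h) (π * π') (τ * τ') (M * M') := by
  obtain ⟨h1, h2, h3⟩ := hg
  obtain ⟨h1', h2', h3'⟩ := hh
  refine ⟨fun i => ?_, fun j => ?_, fun i => ?_⟩
  · rw [mul_smul, h1', h1, Equiv.Perm.mul_apply]
  · rw [mul_smul, h2', h2, Equiv.Perm.mul_apply]
  · rw [Equiv.Perm.mul_apply, h3, h3', Matrix.mulVec_mulVec]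
    rfl

theorem Cond.inv {g : Equiv.Perm GolayPt} {π : Equiv.Perm (Fin 7)}
    {τ : Equiv.Perm (Fin 3)} {M : GL (Fin 3) (ZMod 2)} (hg : Cond g π τ M) :
    Cond g⁻¹ π⁻¹ τ⁻¹ M⁻¹ := by
  obtain ⟨h1, h2, h3⟩ := hg
  have hπ : ∀ i, π (π⁻¹ i) = i := fun i => by
    rw [← Equiv.Perm.mul_apply, mul_inv_cancel, Equiv.Perm.one_apply]
  have hτ : ∀ j, τ (τ⁻¹ j) = j := fun j => by
    rw [← Equiv.Perm.mul_apply, mul_inv_cancel, Equiv.Perm.one_apply]
  refine ⟨fun i => ?_, fun j => ?_, fun i => ?_⟩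
  · rw [inv_smul_eq_iff, h1, hπ]
  · rw [inv_smul_eq_iff, h2, hτ]
  · have := h3 (π⁻¹ i)
    rw [hπ] at this
    rw [this, Matrix.mulVec_mulVec]
    have hM : ((M⁻¹ : GL (Fin 3) (ZMod 2)) : Matrix (Fin 3) (Fin 3) (ZMod 2)) *
        (M : Matrix (Fin 3) (Fin 3) (ZMod 2)) = 1 := by
      rw [← Matrix.GeneralLinearGroup.coe_mul, inv_mul_cancel]
      rfl
    rw [hM, Matrix.one_mulVec]

/-- the first three sextets have the standard basis vectors as coordinates -/
def bs : Fin 3 → Fin 7 := ![0, 1, 2]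

theorem mulVec_bs (A : Matrix (Fin 3) (Fin 3) (ZMod 2)) (r c : Fin 3) :
    A.mulVec (fv (bs c)) r = A r c := by
  fin_cases c <;> simp [Matrix.mulVec, dotProduct, Fin.sum_univ_three, fv, bs]

theorem Cond.unique {g : Equiv.Perm GolayPt} {π π' : Equiv.Perm (Fin 7)}
    {τ τ' : Equiv.Perm (Fin 3)} {M M' : GL (Fin 3) (ZMod 2)} (h : Cond g π τ M)
    (h' : Cond g π' τ' M') : π = π' ∧ τ = τ' ∧ M = M' := by
  obtain ⟨h1, h2, h3⟩ := h
  obtain ⟨h1', h2', h3'⟩ := h'
  have hπ : π = π' := by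
    ext i
    have := (h1 i).symm.trans (h1' i)
    rw [sx_injective this]
  have hτ : τ = τ' := by
    ext j
    have := (h2 j).symm.trans (h2' j)
    rw [oc_injective this]
  refine ⟨hπ, hτ, ?_⟩
  subst hπ
  apply Units.ext
  ext r c
  have e1 := mulVec_bs (M : Matrix (Fin 3) (Fin 3) (ZMod 2)) r c
  have e2 := mulVec_bs (M' : Matrix (Fin 3) (Fin 3) (ZMod 2)) r c
  rw [← h3] at e1
  rw [← h3'] at e2
  exact e1.symm.trans e2

theorem Q_one : Q 1 := ⟨1, 1, 1, Cond.one⟩

theorem Q_mul {g h : Equiv.Perm GolayPt} (hg : Q g) (hh : Q h) : Q (g * h) := by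
  obtain ⟨π, τ, M, h1⟩ := hg
  obtain ⟨π', τ', M', h1'⟩ := hh
  exact ⟨π * π', τ * τ', M * M', h1.mul h1'⟩

theorem Q_inv {g : Equiv.Perm GolayPt} (hg : Q g) : Q g⁻¹ := by
  obtain ⟨π, τ, M, h1⟩ := hg
  exact ⟨π⁻¹, τ⁻¹, M⁻¹, h1.inv⟩

/-! ### The two generators -/

def wa : List ℕ := [0, 1, 4, 3, 4]
def wb : List ℕ := [0, 0, 0, 0, 4, 3, 2]

def la : List ℕ := [7, 14, 16, 18, 19, 12, 20, 8, 5, 6, 3, 21, 22, 4, 10, 2, 17, 11, 23, 9, 13, 15, 0, 1]
def lb : List ℕ := [0, 18, 11, 8, 10, 2, 4, 22, 19, 21, 6, 5, 14, 16, 12, 3, 13, 1, 7, 9, 17, 15, 20, 23]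

theorem ktWords_eq : ktWords = [wa, wb] := rfl

theorem la_eq : tableW tabs5 wa = la := by decide +kernel
theorem lb_eq : tableW tabs5 wb = lb := by decide +kernel

theorem isTable_a : IsTable la (evalW gens5 wa) := by
  rw [← la_eq]; exact isTable_evalW tablesOf_gens5 wa

theorem isTable_b : IsTable lb (evalW gens5 wb) := by
  rw [← lb_eq]; exact isTable_evalW tablesOf_gens5 wb

/-- a permutation of `Fin n` from its table and the table of its inverse -/
def mkPerm {n : ℕ} (f g : Fin n → Fin n) (h1 : ∀ x, g (f x) = x) (h2 : ∀ x, f (g x) = x) :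
    Equiv.Perm (Fin n) := ⟨f, g, h1, h2⟩

def πa : Equiv.Perm (Fin 7) := mkPerm ![5, 4, 0, 1, 3, 2, 6] ![2, 3, 5, 4, 1, 0, 6] (by decide) (by decide)
def τa : Equiv.Perm (Fin 3) := mkPerm ![2, 0, 1] ![1, 2, 0] (by decide) (by decide)
def πb : Equiv.Perm (Fin 7) := mkPerm ![5, 2, 4, 3, 1, 6, 0] ![6, 4, 1, 3, 2, 0, 5] (by decide) (by decide)
def τb : Equiv.Perm (Fin 3) := mkPerm ![1, 0, 2] ![1, 0, 2] (by decide) (by decide)

def Ma : GL (Fin 3) (ZMod 2) :=
  ⟨!![1, 0, 1; 0, 1, 0; 1, 1, 0], !![0, 1, 1; 0, 1, 0; 1, 1, 1], by decide, by decide⟩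
def Mb : GL (Fin 3) (ZMod 2) :=
  ⟨!![1, 0, 0; 0, 0, 1; 1, 1, 1], !![1, 0, 0; 1, 1, 1; 0, 1, 0], by decide, by decide⟩

theorem Q_of_cert {g : Equiv.Perm GolayPt} {l : List ℕ} (hl : IsTable l g)
    (π : Equiv.Perm (Fin 7)) (τ : Equiv.Perm (Fin 3)) (M : GL (Fin 3) (ZMod 2))
    (h1 : ∀ i, actL l (sxM i) = sxM (π i)) (h2 : ∀ j, pullMask l (ocM j) = ocM (τ j))
    (h3 : ∀ i, fv (π i) = (M : Matrix (Fin 3) (Fin 3) (ZMod 2)).mulVec (fv i)) : Q g⁻¹ :=
  ⟨π, τ, M, fun i => by
    show g⁻¹ • smL (sxM i) = smL (sxM (π i))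
    rw [inv_smul_smL_actL hl, h1], fun j => by
    show g⁻¹ • sm (ocM j) = sm (ocM (τ j))
    rw [inv_smul_sm hl, h2], h3⟩

theorem Q_a : Q (evalW gens5 wa) := by
  have := Q_inv (Q_of_cert isTable_a πa τa Ma (by decide +kernel) (by decide +kernel) (by decide))
  rwa [inv_inv] at this

theorem Q_b : Q (evalW gens5 wb) := by
  have := Q_inv (Q_of_cert isTable_b πb τb Mb (by decide +kernel) (by decide +kernel) (by decide))
  rwa [inv_inv] at this

/-- every element of the stabiliser of the base trio has the action property -/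
theorem Q_of_mem {g : Equiv.Perm GolayPt} (hg : g ∈ stabPerm T0) : Q g := by
  have hg' : g ∈ Subgroup.closure {s | s ∈ ktWords.map (evalW gens5)} := by
    rw [kt_closure]; exact hg
  clear hg
  induction hg' using Subgroup.closure_induction with
  | mem x hx =>
    rw [Set.mem_ofPred_eq, ktWords_eq] at hx
    simp only [List.map_cons, List.map_nil, List.mem_cons, List.not_mem_nil, or_false] at hx
    rcases hx with rfl | rfl
    · exact Q_a
    · exact Q_b
  | one => exact Q_one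
  | mul x y _ _ hx hy => exact Q_mul hx hy
  | inv x _ hx => exact Q_inv hx

end Cfsg.Agent.Helper30.Trio
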