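/-
Helper30: the homomorphism from the stabiliser of the base trio onto `GL(3,2) × S_3`;
its kernel consists of "translations": it has at most 64 elements, all of square one.
-/
import Cfsg.Agent.Helper30.TrioA
import Cfsg.Agent.Helper26.OctadStab

set_option autoImplicit false
set_option linter.unusedSectionVars false

namespace Cfsg.Agent.Helper30.Trio

open Cfsg Cfsg.Agent.Helper93 Cfsg.Agent.Helper7
open scoped Pointwise

/-! ### The homomorphism -/

/-- the stabiliser of the base trio, as a permutation group -/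
abbrev S0 : Subgroup (Equiv.Perm GolayPt) := stabPerm T0

noncomputable def permOf (g : ↥S0) : Equiv.Perm (Fin 7) := Classical.choose (Q_of_mem g.2)

noncomputable def tauOf (g : ↥S0) : Equiv.Perm (Fin 3) :=
  Classical.choose (Classical.choose_spec (Q_of_mem g.2))

noncomputable def matOf (g : ↥S0) : GL (Fin 3) (ZMod 2) :=
  Classical.choose (Classical.choose_spec (Classical.choose_spec (Q_of_mem g.2)))

theorem cond_of (g : ↥S0) : Cond g.1 (permOf g) (tauOf g) (matOf g) :=
  Classical.choose_spec (Classical.choose_spec (Classical.choose_spec (Q_of_mem g.2)))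

/-- the homomorphism onto `GL(3,2) × S_3` -/
noncomputable def Φ : ↥S0 →* GL (Fin 3) (ZMod 2) × Equiv.Perm (Fin 3) where
  toFun g := (matOf g, tauOf g)
  map_one' := by
    have h := (cond_of (1 : ↥S0)).unique Cond.one
    rw [Prod.ext_iff]
    exact ⟨h.2.2, h.2.1⟩
  map_mul' g h := by
    have h1 := (cond_of (g * h)).unique ((cond_of g).mul (cond_of h))
    rw [Prod.ext_iff]
    exact ⟨h1.2.2, h1.2.1⟩

/-- the kernel property -/
def Kp (g : Equiv.Perm GolayPt) : Prop :=
  g ∈ M24 ∧ (∀ i, g • sx i = sx i) ∧ ∀ j, g • oc j = oc j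

theorem Kp_of_mem_ker {g : ↥S0} (hg : g ∈ Φ.ker) : Kp g.1 := by
  rw [MonoidHom.mem_ker] at hg
  have h1 : matOf g = 1 := congrArg Prod.fst hg
  have h2 : tauOf g = 1 := congrArg Prod.snd hg
  obtain ⟨c1, c2, c3⟩ := cond_of g
  refine ⟨(mem_stabPerm.mp g.2).1, fun i => ?_, fun j => ?_⟩
  · have := c3 i
    rw [h1] at this
    have h3 : fv (permOf g i) = fv i := by
      rw [this]
      show (1 : Matrix (Fin 3) (Fin 3) (ZMod 2)).mulVec (fv i) = fv i
      rw [Matrix.one_mulVec]
    rw [c1, fv_injective h3]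
  · rw [c2, h2, Equiv.Perm.one_apply]

theorem Kp.mul {g h : Equiv.Perm GolayPt} (hg : Kp g) (hh : Kp h) : Kp (g * h) :=
  ⟨M24.mul_mem hg.1 hh.1, fun i => by rw [mul_smul, hh.2.1, hg.2.1],
    fun j => by rw [mul_smul, hh.2.2, hg.2.2]⟩

theorem Kp.inv {g : Equiv.Perm GolayPt} (hg : Kp g) : Kp g⁻¹ :=
  ⟨M24.inv_mem hg.1, fun i => by rw [inv_smul_eq_iff, hg.2.1],
    fun j => by rw [inv_smul_eq_iff, hg.2.2]⟩

/-! ### Tetrads of a sextet are disjoint -/

theorem sxM_disj : ∀ i, pairsDisj (sxM i) = true := by decide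

theorem sx_disjoint (i : Fin 7) {t u : Finset GolayPt} (ht : t ∈ sx i) (hu : u ∈ sx i)
    (htu : t ≠ u) : Disjoint t u := by
  obtain ⟨a, ha, rfl⟩ := (mem_smL _ _).mp ht
  obtain ⟨b, hb, rfl⟩ := (mem_smL _ _).mp hu
  have hab : a ≠ b := fun h => htu (by rw [h])
  have hp := pairsDisj_spec (sxM_disj i)
  haveI : Std.Symm (fun x y : ℕ => x &&& y = 0) := ⟨fun x y h => by rwa [Nat.land_comm]⟩
  rw [Finset.disjoint_iff_inter_eq_empty, ← sm_land, hp.forall ha hb hab, sm_zero]

theorem smul_mem_of_mem {g : Equiv.Perm GolayPt} {t : Finset GolayPt} {x : GolayPt}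
    (hx : x ∈ t) : g x ∈ g • t :=
  Finset.smul_mem_smul_finset (a := g) hx

theorem mem_of_smul_eq {g : Equiv.Perm GolayPt} {t : Finset GolayPt} (h : g • t = t) {x : GolayPt}
    (hx : x ∈ t) : g x ∈ t := by
  rw [← h]; exact smul_mem_of_mem hx

/-- a kernel element fixing a point fixes the tetrads through it -/
theorem tet_fix {g : Equiv.Perm GolayPt} (hg : Kp g) (i : Fin 7) {t : Finset GolayPt}
    (ht : t ∈ sx i) {x : GolayPt} (hxt : x ∈ t) (hx : g x = x) : g • t = t := by
  have h1 : g • t ∈ sx i := by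
    rw [← hg.2.1 i]; exact Finset.smul_mem_smul_finset ht
  have h2 : x ∈ g • t := by
    rw [← hx]; exact smul_mem_of_mem hxt
  by_contra hne
  exact Finset.disjoint_left.1 (sx_disjoint i h1 ht hne) h2 hxt

/-! ### Certificates inside the three octads -/

/-- the base point of each octad -/
def bp : Fin 3 → ℕ := ![1, 8, 0]

/-- the tetrad of sextet `i` inside octad `j` through the base point -/
def tM : Fin 3 → Fin 7 → ℕ := ![
  ![3149826, 2621570, 593922, 1114242, 1572874, 4234, 2162698],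
  ![4473088, 4358400, 393984, 49920, 155904, 303360, 4203264],
  ![3137, 8388677, 8389665, 2085, 8390673, 1045, 113]]

/-- the other tetrad of sextet `i` inside octad `j` -/
def cM : Fin 3 → Fin 7 → ℕ := ![
  ![589960, 1118216, 3145864, 2625544, 2166912, 3735552, 1577088],
  ![172544, 287232, 4251648, 4595712, 4489728, 4342272, 442368],
  ![8388660, 3120, 2132, 8389712, 1124, 8390752, 8391684]]

theorem cert1 : ∀ j i, tM j i ∈ sxM i ∧ cM j i ∈ sxM i := by decide
theorem cert2 : ∀ j i, (tM j i).testBit (bp j) = true := by decide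
theorem cert3 : ∀ j i, ∀ m ∈ sxM i, m &&& ocM j = m → m = tM j i ∨ m = cM j i := by decide
theorem cert4 : ∀ j i, tM j i &&& ocM j = tM j i ∧ cM j i &&& ocM j = cM j i := by decide
theorem cert5 : ∀ j, tM j 0 &&& tM j 1 &&& tM j 2 = 2 ^ bp j := by decide
theorem cert6 : ∀ j, ∀ k < 24, (ocM j).testBit k = true →
    k = bp j ∨ ∃ i i', tM j i &&& tM j i' = 2 ^ bp j ||| 2 ^ k := by decide
theorem cert7 : ∀ j, (ocM j).testBit (bp j) = true := by decide
theorem cert8 : ∀ j i, tM j i ≠ cM j i := by decide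
theorem cert9 : ∀ j i, tM j i < 2 ^ 24 ∧ cM j i < 2 ^ 24 := by decide
theorem bp_lt : ∀ j, bp j < 24 := by decide


/-- the base point of octad `j` -/
def xp (j : Fin 3) : GolayPt := pt (bp j)

theorem idx_xp (j : Fin 3) : idx (xp j) = bp j := idx_pt (bp_lt j)

theorem xp_mem_tM (j : Fin 3) (i : Fin 7) : xp j ∈ sm (tM j i) := by
  rw [mem_sm, idx_xp]; exact cert2 j i

theorem tM_mem_sx (j : Fin 3) (i : Fin 7) : sm (tM j i) ∈ sx i :=
  (mem_smL _ _).mpr ⟨tM j i, (cert1 j i).1, rfl⟩

theorem cM_mem_sx (j : Fin 3) (i : Fin 7) : sm (cM j i) ∈ sx i :=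
  (mem_smL _ _).mpr ⟨cM j i, (cert1 j i).2, rfl⟩

theorem xp_mem_oc (j : Fin 3) : xp j ∈ oc j := by
  rw [oc, mem_sm, idx_xp]; exact cert7 j

theorem sm_subset_of_land {m o : ℕ} (h : m &&& o = m) : sm m ⊆ sm o := by
  rw [← h, sm_land]; exact Finset.inter_subset_right

theorem land_of_sm_subset {m o : ℕ} (hm : m < 2 ^ 24) (h : sm m ⊆ sm o) : m &&& o = m := by
  apply sm_inj (lt_of_le_of_lt Nat.and_le_left hm) hm
  rw [sm_land]; exact Finset.inter_eq_left.2 h

theorem tM_sub (j : Fin 3) (i : Fin 7) : sm (tM j i) ⊆ oc j := sm_subset_of_land (cert4 j i).1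

theorem cM_sub (j : Fin 3) (i : Fin 7) : sm (cM j i) ⊆ oc j := sm_subset_of_land (cert4 j i).2

/-- a kernel element fixing the base point of an octad fixes the octad pointwise -/
theorem fix_octad {g : Equiv.Perm GolayPt} (hg : Kp g) (j : Fin 3) (hx : g (xp j) = xp j) :
    ∀ y ∈ oc j, g y = y := by
  intro y hy
  rw [oc, mem_sm] at hy
  rcases cert6 j (idx y) (idx_lt y) hy with hk | ⟨i, i', hii⟩
  · have : y = xp j := by rw [← pt_idx y, hk]; rfl
    rw [this, hx]
  · have h1 := tet_fix hg i (tM_mem_sx j i) (xp_mem_tM j i) hx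
    have h2 := tet_fix hg i' (tM_mem_sx j i') (xp_mem_tM j i') hx
    have hbit : ∀ z : GolayPt, (z ∈ sm (tM j i) ∧ z ∈ sm (tM j i')) ↔
        (bp j = idx z ∨ idx y = idx z) := by
      intro z
      rw [mem_sm, mem_sm, ← Bool.and_eq_true, ← Nat.testBit_and, hii, Nat.testBit_or,
        Bool.or_eq_true, Nat.testBit_two_pow, Nat.testBit_two_pow, decide_eq_true_eq,
        decide_eq_true_eq]
    have hy' := (hbit y).2 (Or.inr rfl)
    have hgy := (hbit (g y)).1 ⟨mem_of_smul_eq h1 hy'.1, mem_of_smul_eq h2 hy'.2⟩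
    rcases hgy with h | h
    · have h3 : g y = xp j := idx_injective (by rw [← h, idx_xp])
      have h4 : g y = g (xp j) := by rw [h3, hx]
      have h5 := g.injective h4
      rw [h5, hx]
    · exact idx_injective h.symm

/-- a kernel element maps a tetrad inside an octad to one of the two tetrads of the same sextet
inside that octad -/
theorem smul_tet_mem {g : Equiv.Perm GolayPt} (hg : Kp g) (j : Fin 3) (i : Fin 7)
    {u : Finset GolayPt} (hu : u ∈ sx i) (hsub : u ⊆ oc j) :
    g • u = sm (tM j i) ∨ g • u = sm (cM j i) := by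
  have h1 : g • u ∈ sx i := by
    rw [← hg.2.1 i]; exact Finset.smul_mem_smul_finset hu
  have h2 : g • u ⊆ oc j := by
    rw [← hg.2.2 j]; exact Finset.smul_finset_subset_smul_finset hsub
  obtain ⟨m, hm, hme⟩ := (mem_smL _ _).mp h1
  rw [← hme] at h2 ⊢
  have := land_of_sm_subset (sxM_lt i m hm) h2
  rcases cert3 j i m hm this with rfl | rfl
  · left; rfl
  · right; rfl

theorem sq_tet {g : Equiv.Perm GolayPt} (hg : Kp g) (j : Fin 3) (i : Fin 7) :
    (g * g) • sm (tM j i) = sm (tM j i) := by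
  have hne : sm (tM j i) ≠ sm (cM j i) := fun h =>
    cert8 j i (sm_inj (cert9 j i).1 (cert9 j i).2 h)
  rw [mul_smul]
  rcases smul_tet_mem hg j i (tM_mem_sx j i) (tM_sub j i) with h | h
  · rw [h, h]
  · rw [h]
    rcases smul_tet_mem hg j i (cM_mem_sx j i) (cM_sub j i) with h' | h'
    · exact h'
    · exfalso
      have : g • sm (tM j i) = g • sm (cM j i) := h.trans h'.symm
      exact hne (smul_left_cancel g this)

/-- the square of a kernel element fixes the base points -/
theorem sq_fix {g : Equiv.Perm GolayPt} (hg : Kp g) (j : Fin 3) : (g * g) (xp j) = xp j := by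
  have h0 := mem_of_smul_eq (sq_tet hg j 0) (xp_mem_tM j 0)
  have h1 := mem_of_smul_eq (sq_tet hg j 1) (xp_mem_tM j 1)
  have h2 := mem_of_smul_eq (sq_tet hg j 2) (xp_mem_tM j 2)
  rw [mem_sm] at h0 h1 h2
  have h3 : (tM j 0 &&& tM j 1 &&& tM j 2).testBit (idx ((g * g) (xp j))) = true := by
    rw [Nat.testBit_and, Nat.testBit_and, h0, h1, h2]; rfl
  rw [cert5, Nat.testBit_two_pow, decide_eq_true_eq] at h3
  apply idx_injective
  rw [idx_xp, h3]

theorem ocM_octad : ∀ j, isOctadMask (ocM j) = true := by decide +kernel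

theorem oc_mem_octads (j : Fin 3) : oc j ∈ octads := sm_mem_octads (ocM_octad j)

theorem xp1_notMem : xp 1 ∉ oc 0 := by
  rw [oc, mem_sm, idx_xp]; decide

/-- a kernel element fixing the base points of the first two octads is trivial -/
theorem eq_one_of_fix {g : Equiv.Perm GolayPt} (hg : Kp g) (h0 : g (xp 0) = xp 0)
    (h1 : g (xp 1) = xp 1) : g = 1 := by
  have hk : g ∈ Cfsg.Agent.Helper26.octK (oc 0) :=
    Cfsg.Agent.Helper26.mem_octK_iff.2 ⟨hg.1, fix_octad hg 0 h0⟩
  exact Cfsg.Agent.Helper26.octK_free (oc_mem_octads 0) hk xp1_notMem h1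

theorem sq_eq_one_of_Kp {g : Equiv.Perm GolayPt} (hg : Kp g) : g * g = 1 :=
  eq_one_of_fix (hg.mul hg) (sq_fix hg 0) (sq_fix hg 1)

/-- the elements of the kernel have square one -/
theorem ker_sq (g : ↥S0) (hg : g ∈ Φ.ker) : g * g = 1 :=
  Subtype.ext (sq_eq_one_of_Kp (Kp_of_mem_ker hg))

theorem card_oc (j : Fin 3) : (oc j).card = 8 := by
  rw [oc, card_sm]; revert j; decide

/-- the kernel has at most 64 elements -/
theorem card_ker_le : Nat.card ↥Φ.ker ≤ 64 := by
  classical
  have hmem : ∀ (g : ↥Φ.ker) (j : Fin 3), (g.1.1 : Equiv.Perm GolayPt) (xp j) ∈ oc j :=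
    fun g j => mem_of_smul_eq ((Kp_of_mem_ker g.2).2.2 j) (xp_mem_oc j)
  let F : ↥Φ.ker → ↥(oc 0) × ↥(oc 1) := fun g => (⟨_, hmem g 0⟩, ⟨_, hmem g 1⟩)
  have hinj : Function.Injective F := by
    intro g g' h
    have e0 : (g.1.1 : Equiv.Perm GolayPt) (xp 0) = (g'.1.1 : Equiv.Perm GolayPt) (xp 0) :=
      congrArg (fun z => (z.1 : GolayPt)) h
    have e1 : (g.1.1 : Equiv.Perm GolayPt) (xp 1) = (g'.1.1 : Equiv.Perm GolayPt) (xp 1) :=
      congrArg (fun z => (z.2 : GolayPt)) h
    have hk : Kp ((g.1.1 : Equiv.Perm GolayPt)⁻¹ * g'.1.1) :=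
      (Kp_of_mem_ker g.2).inv.mul (Kp_of_mem_ker g'.2)
    have h1 : (g.1.1 : Equiv.Perm GolayPt)⁻¹ * g'.1.1 = 1 := by
      apply eq_one_of_fix hk
      · rw [Equiv.Perm.mul_apply, ← e0, ← Equiv.Perm.mul_apply, inv_mul_cancel,
          Equiv.Perm.one_apply]
      · rw [Equiv.Perm.mul_apply, ← e1, ← Equiv.Perm.mul_apply, inv_mul_cancel,
          Equiv.Perm.one_apply]
    have h2 : (g.1.1 : Equiv.Perm GolayPt) = g'.1.1 := by
      rw [inv_mul_eq_one] at h1; exact h1
    exact Subtype.ext (Subtype.ext h2)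
  calc Nat.card ↥Φ.ker ≤ Nat.card (↥(oc 0) × ↥(oc 1)) := Nat.card_le_card_of_injective F hinj
    _ = 64 := by
      rw [Nat.card_prod, Nat.card_eq_fintype_card, Nat.card_eq_fintype_card, Fintype.card_coe,
        Fintype.card_coe, card_oc, card_oc]

/-! ### Orders and surjectivity -/

theorem card_S0 : Nat.card ↥S0 = 64512 := by
  have h := card_stabPerm_mul T0
  have h1 : (MulAction.orbit (↥M24) T0).ncard = 3795 := by
    show (MulAction.orbit (↥M24) ((encFam 3).dec (trioArr.a 1))).ncard = 3795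
    rw [trio_orbit (by decide), ← trios_eq, trios_ncard]
  rw [h1] at h
  show Nat.card ↥(stabPerm T0) = 64512
  generalize Nat.card ↥(stabPerm T0) = n at h ⊢
  omega

theorem card_target : Nat.card (GL (Fin 3) (ZMod 2) × Equiv.Perm (Fin 3)) = 1008 := by
  rw [Nat.card_prod, Matrix.card_GL_field, Nat.card_eq_fintype_card, Fintype.card_perm]
  simp [Fin.prod_univ_three, ZMod.card, Nat.factorial]

theorem Φ_surjective : Function.Surjective Φ := by
  rw [← MonoidHom.range_eq_top]
  apply Subgroup.eq_top_of_card_eq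
  have h1 := Subgroup.card_eq_card_quotient_mul_card_subgroup (Φ.ker)
  have h2 : Nat.card (↥S0 ⧸ Φ.ker) = Nat.card ↥Φ.range :=
    Nat.card_congr (QuotientGroup.quotientKerEquivRange Φ).toEquiv
  have h3 := card_ker_le
  have h4 : Nat.card ↥Φ.range ≤ 1008 := by
    rw [← card_target]; exact Nat.card_le_card_of_injective _ Subtype.val_injective
  rw [card_S0, h2] at h1
  rw [card_target]
  nlinarith

end Cfsg.Agent.Helper30.Trio
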