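import Cfsg.Agent.Helper56.U35.Defs

/-!
# S2149 piece (IDX): the order of a transitive subgroup

If a subgroup `H` of `G` is transitive on the `126` points, then
`|H| = 126 * |H ⊓ G_o|` (orbit-stabiliser for the restricted action).
-/

set_option autoImplicit false

namespace Cfsg.Agent.Helper30.U35

open MulAction Cfsg.Agent.Helper56.U35

variable {G : Type*} [Group G] {Ω : Type*} [MulAction G Ω]

theorem card_of_trans (D : TIData G Ω) (H : Subgroup G)
    (htr : ∀ w : Ω, ∃ h ∈ H, h • D.o = w) :
    Nat.card H = 126 * Nat.card (H ⊓ stabilizer G D.o : Subgroup G) := by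
  classical
  -- orbit of `o` under `H` is everything
  have horb : ∀ w : Ω, w ∈ orbit H D.o := by
    intro w
    obtain ⟨h, hh, rfl⟩ := htr w
    exact ⟨⟨h, hh⟩, rfl⟩
  -- orbit-stabiliser for `H`
  have hos := MulAction.orbitEquivQuotientStabilizer H D.o
  have h1 : Nat.card (orbit H D.o) = Nat.card Ω := by
    apply Nat.card_congr
    exact
      { toFun := fun x => x.1
        invFun := fun w => ⟨w, horb w⟩
        left_inv := fun x => by rfl
        right_inv := fun w => rfl }
  have h2 : Nat.card (stabilizer H D.o) = Nat.card (H ⊓ stabilizer G D.o : Subgroup G) := by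
    apply Nat.card_congr
    exact
      { toFun := fun x => ⟨x.1.1, ⟨x.1.2, by
          have hx : x.1 • D.o = D.o := x.2
          show x.1.1 ∈ stabilizer G D.o
          rw [mem_stabilizer_iff]
          exact hx⟩⟩
        invFun := fun y => ⟨⟨y.1, y.2.1⟩, by
          have hy : y.1 ∈ stabilizer G D.o := y.2.2
          rw [mem_stabilizer_iff] at hy ⊢
          exact hy⟩
        left_inv := fun x => by rfl
        right_inv := fun y => by rfl }
  have h3 : Nat.card H = Nat.card (H ⧸ stabilizer H D.o) * Nat.card (stabilizer H D.o) :=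
    Subgroup.card_eq_card_quotient_mul_card_subgroup _
  rw [h3, ← Nat.card_congr hos, h1, D.cardΩ, h2]

end Cfsg.Agent.Helper30.U35
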