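import Mathlib
import Cfsg.Agent.Helper44.U4Defs
import Cfsg.Agent.Helper13.UGen2

/-!
# (DX3b) of helper44's #9295 (S6001): a unitary transvection of order 3 in `SU_4(3)`, not conjugate
into `N0`

`x = 1 + i • v (bar v)ᵀ`, `v = (1, t, 0, 0)` with `t * t^3 = -1` (so `v` is isotropic) and
`i + i^3 = 0`.
-/

set_option autoImplicit false
open scoped MatrixGroups

namespace Cfsg.Agent.Helper30.U4

open Matrix Cfsg.Agent.Helper99.P4 Cfsg.Geo Cfsg.Agent.Helper44.U4 Cfsg.Agent.Helper13

variable {F : Type*} [Field F]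

/-- the vector `(1, t, 0, 0)` -/
def vec3b (t : F) : Fin 4 → F := ![1, t, 0, 0]

theorem vec3b_isotropic (t : F) (ht : t * t ^ 3 = -1) :
    Cfsg.hermForm 4 F 3 (vec3b t) (vec3b t) = 0 := by
  unfold Cfsg.hermForm vec3b
  rw [Fin.sum_univ_four]
  simp only [Matrix.cons_val_zero, Matrix.cons_val_one, Matrix.cons_val_two, Matrix.cons_val_three,
    Matrix.head_cons, Matrix.tail_cons]
  simp only [one_pow, mul_one, ne_eq, OfNat.ofNat_ne_zero, not_false_eq_true, zero_pow, mul_zero,
    add_zero]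
  rw [ht]
  ring

/-- (DX3b) a unitary transvection, `p = 3`.  `hTV` is helper99's (TV) `no_transvection`. -/
theorem exists_derangement_three_b [Fintype F] {p : ℕ} [Fact p.Prime] [CharP F p]
    (hF : Fintype.card F = p ^ 2) (hp : p = 3) {i : F} (hi : i ^ 2 = -1)
    (hTV : ∀ (u φ : Fin 4 → F), u ≠ 0 → φ ≠ 0 → φ ⬝ᵥ u = 0 → ∀ t : GL (Fin 4) F,
      (t : Matrix (Fin 4) (Fin 4) F) = 1 + Matrix.vecMulVec u φ → t ∉ N0 i hi) :
    ∃ x ∈ SU4 F p, x ^ 3 = 1 ∧ (∀ z : F, (x : Matrix (Fin 4) (Fin 4) F) ≠ z • 1) ∧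
      ∀ g : GL (Fin 4) F, g⁻¹ * x * g ∉ N0 i hi := by
  subst hp
  have h3 : (3 : F) = 0 := by
    have := CharP.cast_eq_zero F 3
    exact_mod_cast this
  -- the parameter `t`
  obtain ⟨t, ht⟩ := exists_norm_eq_of_fixed hF (a := (-1 : F)) (by
    rw [Odd.neg_pow (by decide), one_pow])
  have ht0 : t ≠ 0 := by
    rintro rfl
    rw [zero_mul] at ht
    exact one_ne_zero (neg_eq_zero.mp ht.symm)
  have hv := vec3b_isotropic t ht
  have hi0 : i ≠ 0 := by
    rintro rfl
    rw [ne_eq, zero_pow (by norm_num)] at *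
    · exact one_ne_zero (neg_eq_zero.mp hi.symm)
  have hic : i + i ^ 3 = 0 := by
    have : i ^ 3 = i ^ 2 * i := by ring
    rw [this, hi]
    ring
  -- the transvection and its inverse
  set X : Matrix (Fin 4) (Fin 4) F := Cfsg.unitaryTransvection 4 3 (vec3b t) i with hX
  set Y : Matrix (Fin 4) (Fin 4) F := Cfsg.unitaryTransvection 4 3 (vec3b t) (-i) with hY
  have hXY : X * Y = 1 := by
    rw [hX, hY, unitaryTransvection_mul _ _ _ hv, add_neg_cancel, unitaryTransvection_zero]
  have hYX : Y * X = 1 := by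
    rw [hX, hY, unitaryTransvection_mul _ _ _ hv, neg_add_cancel, unitaryTransvection_zero]
  let x : GL (Fin 4) F := ⟨X, Y, hXY, hYX⟩
  have hxv : (x : Matrix (Fin 4) (Fin 4) F) = X := rfl
  refine ⟨x, ⟨?_, ?_⟩, ?_, ?_, ?_⟩
  · -- unitary
    exact isU_unitaryTransvection hF _ _ hv hic
  · -- determinant one
    show Matrix.GeneralLinearGroup.det x = 1
    apply Units.ext
    show X.det = 1
    exact det_unitaryTransvection _ _ hv
  · -- order three
    apply Units.ext
    rw [Units.val_pow_eq_pow_val, hxv, hX, pow_succ, pow_two, unitaryTransvection_mul _ _ _ hv,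
      unitaryTransvection_mul _ _ _ hv]
    have : i + i + i = 0 := by linear_combination i * h3
    rw [this, unitaryTransvection_zero]
    rfl
  · -- not scalar
    intro z hz
    rw [hxv] at hz
    have h01 := congrFun (congrFun hz 0) 1
    have e1 : X 0 1 = i * t ^ 3 := by
      show (1 : Matrix (Fin 4) (Fin 4) F) 0 1 + i * (vec3b t 0 * (vec3b t 1) ^ 3) = _
      have a0 : vec3b t 0 = 1 := rfl
      have a1 : vec3b t 1 = t := rfl
      rw [a0, a1, one_mul, Matrix.one_apply_ne (by decide), zero_add]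
    have e2 : (z • (1 : Matrix (Fin 4) (Fin 4) F)) 0 1 = 0 := by
      rw [Matrix.smul_apply, Matrix.one_apply_ne (by decide), smul_zero]
    rw [e1, e2] at h01
    exact mul_ne_zero hi0 (pow_ne_zero 3 ht0) h01
  · -- no conjugate in `N0`
    intro g
    set u : Fin 4 → F := (g⁻¹ : GL (Fin 4) F).1 *ᵥ (i • vec3b t) with hu
    set φ : Fin 4 → F := (fun j => (vec3b t j) ^ 3) ᵥ* (g : Matrix (Fin 4) (Fin 4) F) with hφ
    have hgg : ((g⁻¹ : GL (Fin 4) F) : Matrix (Fin 4) (Fin 4) F) * (g : Matrix (Fin 4) (Fin 4) F)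
        = 1 := by
      rw [← Units.val_mul, inv_mul_cancel, Units.val_one]
    have hgg' : (g : Matrix (Fin 4) (Fin 4) F) * ((g⁻¹ : GL (Fin 4) F) : Matrix (Fin 4) (Fin 4) F)
        = 1 := by
      rw [← Units.val_mul, mul_inv_cancel, Units.val_one]
    have hv0 : vec3b t ≠ 0 := by
      intro h
      have := congrFun h 0
      exact one_ne_zero this
    have hw0 : (fun j => (vec3b t j) ^ 3) ≠ 0 := by
      intro h
      have := congrFun h 0
      have a0 : vec3b t 0 = 1 := rfl
      simp only [a0, one_pow, Pi.zero_apply] at this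
      exact one_ne_zero this
    apply hTV u φ
    · intro h0
      have h1 : (g : Matrix (Fin 4) (Fin 4) F) *ᵥ u = 0 := by rw [h0, Matrix.mulVec_zero]
      rw [hu, Matrix.mulVec_mulVec, hgg', Matrix.one_mulVec] at h1
      have := congrFun h1 0
      have a0 : vec3b t 0 = 1 := rfl
      simp only [Pi.smul_apply, a0, smul_eq_mul, mul_one, Pi.zero_apply] at this
      exact hi0 this
    · intro h0
      have h1 : φ ᵥ* ((g⁻¹ : GL (Fin 4) F) : Matrix (Fin 4) (Fin 4) F) = 0 := by
        rw [h0, Matrix.zero_vecMul]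
      rw [hφ, Matrix.vecMul_vecMul, hgg', Matrix.vecMul_one] at h1
      exact hw0 h1
    · rw [hφ, hu, ← Matrix.dotProduct_mulVec, Matrix.mulVec_mulVec, hgg', Matrix.one_mulVec,
        dotProduct_smul]
      have : (fun j => (vec3b t j) ^ 3) ⬝ᵥ vec3b t = Cfsg.hermForm 4 F 3 (vec3b t) (vec3b t) := by
        simp only [dotProduct, Cfsg.hermForm]
        refine Finset.sum_congr rfl fun j _ => ?_
        ring
      rw [this, hv, smul_zero]
    · rw [Units.val_mul, Units.val_mul, hxv, hX, Cfsg.unitaryTransvection, Matrix.mul_add,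
        Matrix.add_mul, Matrix.mul_one, hgg]
      congr 1
      rw [hu, hφ, Matrix.mul_smul, Matrix.smul_mul, Matrix.mulVec_smul]
      ext a b
      simp only [Matrix.smul_apply, Matrix.vecMulVec_apply, Matrix.mul_apply, Matrix.mulVec,
        Matrix.vecMul, dotProduct, Pi.smul_apply, smul_eq_mul, Finset.sum_mul, Finset.mul_sum]
      refine Finset.sum_congr rfl fun c _ => ?_
      refine Finset.sum_congr rfl fun d _ => ?_
      ring

end Cfsg.Agent.Helper30.U4
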