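import Mathlib
import Cfsg.Agent.Helper44.U4Defs
import Cfsg.Agent.S2677
import Cfsg.Agent.Helper13.UGen1

/-!
# (DX5) of helper44's #9295 (S6001): an element of order 5 of `SU_4(p)`, `p ≡ ±1 (mod 5)`, with
`tr x * tr x⁻¹ ∉ {0, 1}`

`x = diag(u, u)` with `u = [a, b; -bar b, a]`, `a` in the prime field with `(2a)^2 + 2a - 1 = 0`
(`5` is a square mod `p`) and `b * bar b = 1 - a^2`; then `x^2 = (2a) x - 1`, hence `x^5 = 1`, and
`tr x * tr x⁻¹ = 16 a^2`.
-/

set_option autoImplicit false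
open scoped MatrixGroups

namespace Cfsg.Agent.Helper30.U4

open Matrix Cfsg.Agent.Helper99.P4 Cfsg.Geo Cfsg.Agent.Helper44.U4 Cfsg.Agent.Helper13

variable {F : Type*} [Field F]

/-- the matrix `diag(u, u)`, `u = [a, b; -c, a]` -/
def mat5 (a b c : F) : Matrix (Fin 4) (Fin 4) F :=
  !![a, b, 0, 0; -c, a, 0, 0; 0, 0, a, b; 0, 0, -c, a]

theorem mat5_sq (a b c : F) (h : a * a + b * c = 1) :
    mat5 a b c * mat5 a b c = (2 * a) • mat5 a b c - 1 := by
  ext i j
  fin_cases i <;> fin_cases j <;>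
    simp [mat5, Matrix.mul_apply, Fin.sum_univ_four] <;>
    first
      | ring1
      | linear_combination (-1 : F) * h

theorem mat5_unitary (a b c : F) (h : a * a + b * c = 1) :
    (mat5 a b c)ᵀ * mat5 a c b = 1 := by
  ext i j
  fin_cases i <;> fin_cases j <;>
    simp [mat5, Matrix.mul_apply, Fin.sum_univ_four] <;>
    first
      | ring1
      | linear_combination h

theorem mat5_map (f : F →+* F) (a b c : F) : (mat5 a b c).map f = mat5 (f a) (f b) (f c) := by
  ext i j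
  fin_cases i <;> fin_cases j <;> simp [mat5]

theorem mat5_det (a b c : F) : (mat5 a b c).det = (a * a + b * c) ^ 2 := by
  unfold mat5
  rw [Matrix.det_succ_row_zero]
  simp [Fin.sum_univ_succ, Matrix.det_fin_three, Fin.succAbove, Matrix.submatrix]
  ring

theorem mat5_trace (a b c : F) : (mat5 a b c).trace = 4 * a := by
  unfold mat5
  rw [Matrix.trace, Fin.sum_univ_four]
  simp
  ring

/-- `x^2 = s x - 1` and `s^2 + s - 1 = 0` give `x^5 = 1` -/
theorem pow_five_of_sq {R : Type*} [Ring R] [Algebra F R] (x : R) (s : F)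
    (hx : x * x = s • x - 1) (hs : s ^ 2 + s - 1 = 0) : x ^ 5 = 1 := by
  have h3 : x * x * x = (s ^ 2 - 1) • x - s • (1 : R) := by
    calc x * x * x = (s • x - 1) * x := by rw [hx]
      _ = s • (x * x) - x := by rw [sub_mul, smul_mul_assoc, one_mul]
      _ = s • (s • x - 1) - x := by rw [hx]
      _ = (s ^ 2 - 1) • x - s • (1 : R) := by module
  have h4 : x * x * x * x = (s ^ 3 - 2 * s) • x - (s ^ 2 - 1) • (1 : R) := by
    calc x * x * x * x = ((s ^ 2 - 1) • x - s • (1 : R)) * x := by rw [h3]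
      _ = (s ^ 2 - 1) • (x * x) - s • x := by
        rw [sub_mul, smul_mul_assoc, smul_mul_assoc, one_mul]
      _ = (s ^ 2 - 1) • (s • x - 1) - s • x := by rw [hx]
      _ = (s ^ 3 - 2 * s) • x - (s ^ 2 - 1) • (1 : R) := by module
  have c1 : s ^ 4 - 3 * s ^ 2 + 1 = 0 := by linear_combination (s ^ 2 - s - 1) * hs
  have c2 : s ^ 3 - 2 * s = -1 := by linear_combination (s - 1) * hs
  calc x ^ 5 = x * x * x * x * x := by simp only [pow_succ, pow_zero, one_mul]
    _ = ((s ^ 3 - 2 * s) • x - (s ^ 2 - 1) • (1 : R)) * x := by rw [h4]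
    _ = (s ^ 3 - 2 * s) • (x * x) - (s ^ 2 - 1) • x := by
      rw [sub_mul, smul_mul_assoc, smul_mul_assoc, one_mul]
    _ = (s ^ 3 - 2 * s) • (s • x - 1) - (s ^ 2 - 1) • x := by rw [hx]
    _ = (s ^ 4 - 3 * s ^ 2 + 1) • x - (s ^ 3 - 2 * s) • (1 : R) := by module
    _ = 1 := by rw [c1, c2, zero_smul, zero_sub, neg_smul, neg_neg, one_smul]

/-- an element `a` of the prime field with `(2a)^2 + 2a - 1 = 0` -/
theorem exists_half_tau {p : ℕ} [Fact p.Prime] [CharP F p] (hp2 : p ≠ 2)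
    (hp5 : p % 5 = 1 ∨ p % 5 = 4) : ∃ a : F, a ^ p = a ∧ (2 * a) ^ 2 + 2 * a - 1 = 0 := by
  have : Fact (Nat.Prime 5) := ⟨by norm_num⟩
  have hsq : IsSquare ((5 : ℕ) : ZMod p) := by
    apply (ZMod.exists_sq_eq_prime_iff_of_mod_four_eq_one (p := 5) (q := p) (by norm_num) hp2).mp
    have e : ((p : ℕ) : ZMod 5) = ((p % 5 : ℕ) : ZMod 5) := (ZMod.natCast_mod p 5).symm
    rw [e]
    rcases hp5 with h | h <;> rw [h]
    · exact ⟨1, by norm_num⟩
    · exact ⟨2, by norm_num⟩
  obtain ⟨s, hs⟩ := hsq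
  have hs' : s * s = 5 := by rw [← hs]; norm_num
  have h2 : (2 : ZMod p) ≠ 0 := by
    intro h
    have h' : ((2 : ℕ) : ZMod p) = 0 := by exact_mod_cast h
    rw [ZMod.natCast_eq_zero_iff] at h'
    have hp := (Fact.out : p.Prime)
    have := Nat.le_of_dvd (by norm_num) h'
    have := hp.two_le
    omega
  have h4 : (4 : ZMod p) ≠ 0 := by
    have : (4 : ZMod p) = 2 * 2 := by norm_num
    rw [this]
    exact mul_ne_zero h2 h2
  set a0 : ZMod p := (s - 1) / 4 with ha0
  have hrel0 : (2 * a0) ^ 2 + 2 * a0 - 1 = 0 := by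
    have e4 : 4 * a0 = s - 1 := by rw [ha0]; field_simp
    have : (4 : ZMod p) * ((2 * a0) ^ 2 + 2 * a0 - 1) = 0 := by
      linear_combination (4 * a0 + s + 1) * e4 + hs'
    rcases mul_eq_zero.mp this with h | h
    · exact absurd h h4
    · exact h
  refine ⟨ZMod.castHom (dvd_refl p) F a0, ?_, ?_⟩
  · rw [← map_pow, ZMod.pow_card]
  · have := congrArg (ZMod.castHom (dvd_refl p) F) hrel0
    simpa only [map_add, map_sub, map_mul, map_pow, map_ofNat, map_one, map_zero] using this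

/-- (DX5) `x = diag(u,u)`, `u ∈ SU_2` of trace `τ`, `τ^2 + τ - 1 = 0` -/
theorem exists_derangement_five [Fintype F] {p : ℕ} [Fact p.Prime] [CharP F p]
    (hF : Fintype.card F = p ^ 2) (hp4 : p % 4 = 3) (hp5 : p % 5 = 1 ∨ p % 5 = 4) :
    ∃ x ∈ SU4 F p, x ^ 5 = 1 ∧ (∀ z : F, (x : Matrix (Fin 4) (Fin 4) F) ≠ z • 1) ∧
      trT x ≠ 0 ∧ trT x ≠ 1 := by
  have hpp := (Fact.out : p.Prime)
  have hp2 : p ≠ 2 := by rintro rfl; omega
  have hp5' : p ≠ 5 := by rintro rfl; omega
  have h2 : (2 : F) ≠ 0 := by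
    intro h
    have h' : ((2 : ℕ) : F) = 0 := by exact_mod_cast h
    rw [CharP.cast_eq_zero_iff F p] at h'
    have := Nat.le_of_dvd (by norm_num) h'
    have := hpp.two_le
    omega
  have h5 : (5 : F) ≠ 0 := by
    intro h
    have h' : ((5 : ℕ) : F) = 0 := by exact_mod_cast h
    rw [CharP.cast_eq_zero_iff F p] at h'
    exact hp5' ((Nat.prime_dvd_prime_iff_eq hpp (by norm_num)).mp h')
  obtain ⟨a, hap, hrel⟩ := exists_half_tau (F := F) hp2 hp5
  have hc : (1 - a * a) ^ p = 1 - a * a := by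
    rw [frob_sub' hF, one_pow, frob_mul', hap]
  obtain ⟨b, hb⟩ := exists_norm_eq_of_fixed hF hc
  have hnorm : a * a + b * b ^ p = 1 := by rw [hb]; ring
  have hbb : (b ^ p) ^ p = b := frob_frob hF b
  set X : Matrix (Fin 4) (Fin 4) F := mat5 a b (b ^ p) with hX
  set Y : Matrix (Fin 4) (Fin 4) F := (2 * a) • 1 - X with hY
  have hsq := mat5_sq a b (b ^ p) hnorm
  rw [← hX] at hsq
  have hXY : X * Y = 1 := by
    rw [hY, mul_sub, hsq, Matrix.mul_smul, Matrix.mul_one]
    abel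
  have hYX : Y * X = 1 := by
    rw [hY, sub_mul, hsq, Matrix.smul_mul, Matrix.one_mul]
    abel
  let x : GL (Fin 4) F := ⟨X, Y, hXY, hYX⟩
  have hxv : (x : Matrix (Fin 4) (Fin 4) F) = X := rfl
  have hxi : ((x⁻¹ : GL (Fin 4) F) : Matrix (Fin 4) (Fin 4) F) = Y := rfl
  have htr : trT x = 16 * a ^ 2 := by
    unfold trT
    rw [hxv, hxi, hY, Matrix.trace_sub, Matrix.trace_smul, Matrix.trace_one, hX, mat5_trace,
      Fintype.card_fin]
    simp only [smul_eq_mul]
    push_cast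
    ring
  have ha0 : a ≠ 0 := by
    rintro rfl
    rw [mul_zero, zero_pow (by norm_num), zero_add, zero_sub] at hrel
    exact one_ne_zero (neg_eq_zero.mp hrel)
  refine ⟨x, ⟨?_, ?_⟩, ?_, ?_, ?_, ?_⟩
  · -- unitary
    have : ExpChar F p := ExpChar.prime hpp
    show x ∈ Cfsg.GU 4 F p
    rw [Cfsg.Agent.S2677.mem_GU_iff_matrix 4 (frobenius F p) (fun y => frobenius_def p y) x, hxv,
      hX, mat5_map]
    simp only [frobenius_def]
    rw [hap, hbb]
    exact mat5_unitary a b (b ^ p) hnorm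
  · -- determinant one
    show Matrix.GeneralLinearGroup.det x = 1
    apply Units.ext
    show X.det = 1
    rw [hX, mat5_det, hnorm, one_pow]
  · -- order five
    apply Units.ext
    rw [Units.val_pow_eq_pow_val, hxv]
    exact pow_five_of_sq X (2 * a) hsq hrel
  · -- not scalar
    intro z hz
    rw [hxv, hX] at hz
    have h01 := congrFun (congrFun hz 0) 1
    have e1 : mat5 a b (b ^ p) 0 1 = b := rfl
    have e2 : (z • (1 : Matrix (Fin 4) (Fin 4) F)) 0 1 = 0 := by
      rw [Matrix.smul_apply, Matrix.one_apply_ne (by decide), smul_zero]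
    rw [e1, e2] at h01
    have hn : a * a = 1 := by
      rw [h01, zero_mul, add_zero] at hnorm
      exact hnorm
    apply h5
    linear_combination (-(2 * a - 3)) * hrel + (4 * (2 * a - 3) + 4) * hn
  · rw [htr]
    exact mul_ne_zero (by
      have : (16 : F) = 2 ^ 4 := by norm_num
      rw [this]
      exact pow_ne_zero 4 h2) (pow_ne_zero 2 ha0)
  · rw [htr]
    intro e1
    apply h5
    linear_combination (8 * a + 7) * e1 - 4 * (8 * a + 3) * hrel

end Cfsg.Agent.Helper30.U4
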