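import Mathlib
import Cfsg.Agent.Helper38.VL.Defs

/-!
helper30 for helper38 (S3777 Vaughan-Lee, farm index #13454): leaf (LMG) `linear_model_of_key` of
`tools/helper38_vl/Skel.lean.txt`: transport (KEY) to the vector space `V = G/Φ`.
-/

set_option autoImplicit false
set_option linter.unusedVariables false

namespace Cfsg.Agent.Helper30.VL

open Subgroup Cfsg.Agent.Helper38.VL

universe u

/-- a subgroup of prime index is a coatom -/
theorem LMG_isCoatom_of_index_prime {G : Type*} [Group G] {p : ℕ} (hp : p.Prime) (M : Subgroup G)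
    (hM : M.index = p) : IsCoatom M := by
  constructor
  · intro h
    rw [h, Subgroup.index_top] at hM
    exact hp.ne_one hM.symm
  · intro K hK
    have hd : K.index ∣ M.index := Subgroup.index_dvd_of_le hK.le
    rw [hM] at hd
    rcases (Nat.dvd_prime hp).1 hd with h1 | h1
    · exact Subgroup.index_eq_one.1 h1
    · exfalso
      have h2 := Subgroup.relIndex_mul_index hK.le
      rw [hM, h1] at h2
      have h3 : M.relIndex K = 1 :=
        Nat.eq_of_mul_eq_mul_right hp.pos (by rw [h2, one_mul])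
      have h4 : K ≤ M := Subgroup.relIndex_eq_one.1 h3
      exact lt_irrefl _ (lt_of_lt_of_le hK h4)

/-- the linear model for one nonzero functional -/
theorem LMG_aux {G : Type*} [Group G] [Finite G] {p : ℕ} [Fact p.Prime]
    {V : Type*} [AddCommGroup V] [Module (ZMod p) V] [Finite V]
    (π : G →* Multiplicative V) (hπ : Function.Surjective π) (hker : π.ker = frattini G)
    (hkey : ∀ M : Subgroup G, IsCoatom M →
      ∃ R : Subgroup G, frattini G ≤ R ∧ R ≤ M ∧ R.index = p ^ 2 ∧
        ∀ x ∈ M, x ∉ R → ∀ y : G, Commute x y → y ∈ M)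
    (α : Module.Dual (ZMod p) V) (hα : α ≠ 0) :
    ∃ S : Submodule (ZMod p) V, (S ≤ LinearMap.ker α ∧
        Module.finrank (ZMod p) S + 2 = Module.finrank (ZMod p) V) ∧
      ∀ x y : G, α (π x).toAdd = 0 → (π x).toAdd ∉ S → Commute x y → α (π y).toAdd = 0 := by
  have hp : p.Prime := Fact.out
  let φ : G →* Multiplicative (ZMod p) :=
    (AddMonoidHom.toMultiplicative α.toAddMonoidHom).comp π
  have hφ : ∀ g, φ g = Multiplicative.ofAdd (α (π g).toAdd) := fun g => rfl
  have hmem : ∀ g, g ∈ φ.ker ↔ α (π g).toAdd = 0 := by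
    intro g
    rw [MonoidHom.mem_ker, hφ]
    exact ofAdd_eq_one
  have hαs : Function.Surjective α := by
    obtain ⟨v, hv⟩ : ∃ v, α v ≠ 0 := by
      by_contra h
      push Not at h
      exact hα (LinearMap.ext h)
    intro c
    exact ⟨(c / α v) • v, by rw [map_smul, smul_eq_mul, div_mul_cancel₀ _ hv]⟩
  have hφs : Function.Surjective φ := by
    intro c
    obtain ⟨v, hv⟩ := hαs c.toAdd
    obtain ⟨g, hg⟩ := hπ (Multiplicative.ofAdd v)
    refine ⟨g, ?_⟩
    rw [hφ, hg]
    show Multiplicative.ofAdd (α v) = c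
    rw [hv]
    rfl
  have hidx : φ.ker.index = p := by
    rw [Subgroup.index_ker, MonoidHom.range_eq_top.2 hφs, Subgroup.card_top,
      Nat.card_congr Multiplicative.toAdd, Nat.card_zmod]
  obtain ⟨RG, hΦ, hRM, hRidx, hRkey⟩ := hkey φ.ker (LMG_isCoatom_of_index_prime hp _ hidx)
  let S : Submodule (ZMod p) V :=
    AddSubgroup.toZModSubmodule p (Subgroup.toAddSubgroup' (RG.map π))
  have hSmem : ∀ v : V, v ∈ S ↔ ∃ g ∈ RG, π g = Multiplicative.ofAdd v := by
    intro v
    show v ∈ Subgroup.toAddSubgroup' (RG.map π) ↔ _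
    rw [Subgroup.mem_toAddSubgroup', Subgroup.mem_map]
  refine ⟨S, ⟨?_, ?_⟩, ?_⟩
  · intro v hv
    obtain ⟨g, hg, hgv⟩ := (hSmem v).1 hv
    rw [LinearMap.mem_ker]
    have h1 := (hmem g).1 (hRM hg)
    rw [hgv] at h1
    exact h1
  · have h1 : (RG.map π).index = p ^ 2 := by
      rw [Subgroup.index_map_eq _ hπ (by rw [hker]; exact hΦ), hRidx]
    have h2 : Nat.card (RG.map π) * (RG.map π).index = Nat.card (Multiplicative V) :=
      Subgroup.card_mul_index _
    have h3 : Nat.card S = Nat.card (RG.map π) := by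
      apply Nat.card_congr
      exact
        { toFun := fun v => ⟨Multiplicative.ofAdd v.1, (Subgroup.mem_toAddSubgroup' _ _).1 v.2⟩
          invFun := fun g => ⟨g.1.toAdd, (Subgroup.mem_toAddSubgroup' _ _).2 g.2⟩
          left_inv := fun v => rfl
          right_inv := fun g => rfl }
    have h4 : Nat.card V = p ^ Module.finrank (ZMod p) V := by
      rw [Module.natCard_eq_pow_finrank (K := ZMod p), Nat.card_zmod]
    have h5 : Nat.card S = p ^ Module.finrank (ZMod p) S := by
      rw [Module.natCard_eq_pow_finrank (K := ZMod p), Nat.card_zmod]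
    have h7 : Nat.card (Multiplicative V) = Nat.card V := Nat.card_congr Multiplicative.toAdd
    have h6 : p ^ (Module.finrank (ZMod p) S + 2) = p ^ Module.finrank (ZMod p) V := by
      rw [pow_add, ← h5, h3, ← h1, h2, h7, h4]
    exact Nat.pow_right_injective hp.two_le h6
  · intro x y hx hxS hxy
    apply (hmem y).1
    apply hRkey x ((hmem x).2 hx) _ y hxy
    intro hxR
    exact hxS ((hSmem _).2 ⟨x, hxR, rfl⟩)

/-- (LMG) transport (KEY) to the vector space `V = G/Φ`. -/
theorem linear_model_of_key {G : Type*} [Group G] [Finite G] {p : ℕ} [Fact p.Prime]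
    (hG : IsPGroup p G) {V : Type*} [AddCommGroup V] [Module (ZMod p) V] [Finite V]
    (π : G →* Multiplicative V) (hπ : Function.Surjective π) (hker : π.ker = frattini G)
    (hkey : ∀ M : Subgroup G, IsCoatom M →
      ∃ R : Subgroup G, frattini G ≤ R ∧ R ≤ M ∧ R.index = p ^ 2 ∧
        ∀ x ∈ M, x ∉ R → ∀ y : G, Commute x y → y ∈ M) :
    ∃ R : Module.Dual (ZMod p) V → Submodule (ZMod p) V,
      (∀ α : Module.Dual (ZMod p) V, α ≠ 0 → R α ≤ LinearMap.ker α ∧
        Module.finrank (ZMod p) (R α) + 2 = Module.finrank (ZMod p) V) ∧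
      (∀ α : Module.Dual (ZMod p) V, α ≠ 0 → ∀ x y : G, α (π x).toAdd = 0 →
        (π x).toAdd ∉ R α → Commute x y → α (π y).toAdd = 0) := by
  classical
  have h : ∀ α : Module.Dual (ZMod p) V, ∃ S : Submodule (ZMod p) V, α ≠ 0 →
      ((S ≤ LinearMap.ker α ∧
        Module.finrank (ZMod p) S + 2 = Module.finrank (ZMod p) V) ∧
      ∀ x y : G, α (π x).toAdd = 0 → (π x).toAdd ∉ S → Commute x y → α (π y).toAdd = 0) := by
    intro α
    by_cases hα : α = 0
    · exact ⟨⊥, fun h => absurd hα h⟩
    · obtain ⟨S, hS⟩ := LMG_aux π hπ hker hkey α hα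
      exact ⟨S, fun _ => hS⟩
  choose R hR using h
  exact ⟨R, fun α hα => (hR α hα).1, fun α hα => (hR α hα).2⟩

end Cfsg.Agent.Helper30.VL
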