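-- helper30: piece (A10) of helper39's S3366 farm (#11030): `Q` acts regularly on the non-identity inverted elements.
import Cfsg.Agent.Helper39.X648.Defs

set_option autoImplicit false
set_option linter.unusedSectionVars false

namespace Cfsg.Agent.Helper30.X648

open Cfsg.Agent.Helper39.X648

variable {X : Type*} [Group X] [Finite X] {R Z : Subgroup X} {u : X} {t : X}

theorem one_mem_Inv : (1 : X) ∈ Inv R t := by
  refine ⟨one_mem R, ?_⟩
  rw [mul_one, mul_inv_cancel, inv_one]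

/-- there are nine inverted elements -/
theorem setup_ncard_Inv (h : Setup R Z u t) : (Inv R t).ncard = 9 := by
  have himg : (fun p : X × X => p.1 * p.2) '' (Inv R t ×ˢ (Z : Set X)) = (R : Set X) := by
    ext x
    constructor
    · rintro ⟨⟨r, z⟩, ⟨hr, hz⟩, rfl⟩
      exact mul_mem hr.1 (h.base.Z_le hz)
    · intro hx
      obtain ⟨z, hz, hxz⟩ := h.rep1 x hx
      refine ⟨(x * z, z⁻¹), ⟨hxz, inv_mem hz⟩, ?_⟩
      show x * z * z⁻¹ = x
      rw [mul_assoc, mul_inv_cancel, mul_one]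
  have hinj : Set.InjOn (fun p : X × X => p.1 * p.2) (Inv R t ×ˢ (Z : Set X)) := by
    rintro ⟨r, z⟩ ⟨hr, hz⟩ ⟨r', z'⟩ ⟨hr', hz'⟩ hEq
    have hEq' : r * z = r' * z' := hEq
    have h1 : r' = r * (z * z'⁻¹) := by
      rw [← mul_assoc, hEq', mul_assoc, mul_inv_cancel, mul_one]
    have h2 : z * z'⁻¹ = 1 := h.rep2 r hr (z * z'⁻¹) (mul_mem hz (inv_mem hz')) (h1 ▸ hr')
    have h3 : z = z' := by
      rw [← mul_one z, ← inv_mul_cancel z', ← mul_assoc, h2, one_mul]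
    rw [h2, mul_one] at h1
    rw [h1, h3]
  have hcard := hinj.ncard_image
  rw [himg, Set.ncard_prod] at hcard
  have hR : (R : Set X).ncard = 27 := by
    rw [← h.base.cardR]
    rfl
  have hZ : (Z : Set X).ncard = 3 := by
    rw [← h.base.cardZ]
    rfl
  rw [hR, hZ] at hcard
  omega

/-- the action of `Q` on the inverted elements is free -/
theorem setup_free (h : Setup R Z u t) (Q : Subgroup X) (hQ : IsQ t Q) (q : X) (hq : q ∈ Q) (r : X)
    (hr : r ∈ Inv R t) (hr1 : r ≠ 1) (hfix : q * r * q⁻¹ = r) : q = 1 := by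
  by_contra hq1
  have htr : t * r * t⁻¹ = r := by
    rcases hQ.sq q hq hq1 with rfl | hqq
    · exact hfix
    · rw [← hqq]
      calc q * q * r * (q * q)⁻¹ = q * (q * r * q⁻¹) * q⁻¹ := by group
        _ = r := by rw [hfix, hfix]
  have h2 : r⁻¹ = r := by rw [← hr.2, htr]
  have h3 : r ^ 3 = 1 := h.base.exp3 r hr.1
  apply hr1
  calc r = r ^ 3 * (r⁻¹ * r⁻¹) := by group
    _ = r ^ 3 * (r * r⁻¹) := by rw [h2]
    _ = 1 := by rw [h3, mul_inv_cancel, mul_one]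

theorem conj_mem_Inv (hR : R.Normal) (Q : Subgroup X) (hQ : IsQ t Q) (q : X) (hq : q ∈ Q) (r : X)
    (hr : r ∈ Inv R t) : q * r * q⁻¹ ∈ Inv R t := by
  refine ⟨hR.conj_mem r hr.1 q, ?_⟩
  have hqt : q * t = t * q := hQ.comm q hq
  have h2 : q⁻¹ * t⁻¹ = t⁻¹ * q⁻¹ := by
    rw [← mul_inv_rev, ← mul_inv_rev, hqt]
  calc t * (q * r * q⁻¹) * t⁻¹ = (t * q) * r * (q⁻¹ * t⁻¹) := by group
    _ = (q * t) * r * (t⁻¹ * q⁻¹) := by rw [← hqt, h2]
    _ = q * (t * r * t⁻¹) * q⁻¹ := by group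
    _ = q * r⁻¹ * q⁻¹ := by rw [hr.2]
    _ = (q * r * q⁻¹)⁻¹ := by group

theorem Setup.regular (h : Setup R Z u t) (Q : Subgroup X) (hQ : IsQ t Q) :
    ∀ r ∈ Inv R t, r ≠ 1 → ∀ s ∈ Inv R t, s ≠ 1 →
      ∃ q ∈ Q, q * r * q⁻¹ = s ∧ ∀ q' ∈ Q, q' * r * q'⁻¹ = s → q' = q := by
  intro r hr hr1 s hs hs1
  have hinjQ : ∀ q ∈ Q, ∀ q' ∈ Q, q * r * q⁻¹ = q' * r * q'⁻¹ → q = q' := by
    intro q hq q' hq' hEq
    have h1 : (q'⁻¹ * q) * r * (q'⁻¹ * q)⁻¹ = r := by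
      calc (q'⁻¹ * q) * r * (q'⁻¹ * q)⁻¹ = q'⁻¹ * (q * r * q⁻¹) * q' := by group
        _ = q'⁻¹ * (q' * r * q'⁻¹) * q' := by rw [hEq]
        _ = r := by group
    have h2 := setup_free h Q hQ (q'⁻¹ * q) (mul_mem (inv_mem hq') hq) r hr hr1 h1
    calc q = q' * (q'⁻¹ * q) := by group
      _ = q' := by rw [h2, mul_one]
  have hT : (Inv R t \ {1}).ncard = 8 := by
    rw [Set.ncard_sdiff_singleton_of_mem one_mem_Inv, setup_ncard_Inv h]
  have hQc : (Q : Set X).ncard = 8 := by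
    rw [← hQ.card]
    rfl
  have hfin : (Inv R t \ {1}).Finite := Set.toFinite _
  have hsurj := Set.surj_on_of_inj_on_of_ncard_le (s := (Q : Set X)) (t := Inv R t \ {1})
    (fun q _ => q * r * q⁻¹)
    (by
      intro q hq
      refine ⟨conj_mem_Inv h.base.normR Q hQ q hq r hr, ?_⟩
      rw [Set.mem_singleton_iff]
      intro h1
      apply hr1
      calc r = q⁻¹ * (q * r * q⁻¹) * q := by group
        _ = 1 := by rw [h1, mul_one, inv_mul_cancel])
    (by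
      intro q q' hq hq' hEq
      exact hinjQ q hq q' hq' hEq)
    (by rw [hT, hQc]) hfin
  obtain ⟨q, hq, hsq⟩ := hsurj s ⟨hs, by rw [Set.mem_singleton_iff]; exact hs1⟩
  refine ⟨q, hq, hsq.symm, ?_⟩
  intro q' hq' hq's
  exact hinjQ q' hq' q hq (by rw [hq's, ← hsq])

end Cfsg.Agent.Helper30.X648
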