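-- helper30: piece (A9) of helper39's S3366 farm (#11030): the quaternion subgroup `Q ≤ C_X(t)`.
import Cfsg.Agent.Helper39.X648.Defs

set_option autoImplicit false
set_option linter.unusedSectionVars false
set_option linter.unusedVariables false

namespace Cfsg.Agent.Helper30.X648

open Cfsg.Agent.Helper39.X648

variable {X : Type*} [Group X] [Finite X] {R Z : Subgroup X} {u : X} {t : X}

theorem pow_card_of_mem (H : Subgroup X) (x : X) (hx : x ∈ H) : x ^ Nat.card H = 1 := by
  have h := pow_card_eq_one' (G := ↥H) (x := ⟨x, hx⟩)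
  exact congrArg Subtype.val h

theorem eq_one_of_pow_three_eight (x : X) (h3 : x ^ 3 = 1) (h8 : x ^ 8 = 1) : x = 1 := by
  calc x = (x ^ 3) ^ 3 * (x ^ 8)⁻¹ := by group
    _ = 1 := by rw [h3, h8, one_pow, inv_one, mul_one]

theorem mem_centralizer_singleton (g : X) : g ∈ Subgroup.centralizer ({t} : Set X) ↔ t * g = g * t := by
  rw [Subgroup.mem_centralizer_iff]
  constructor
  · intro h
    exact h t (Set.mem_singleton t)
  · intro h x hx
    rw [Set.mem_singleton_iff.mp hx]
    exact h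

theorem Setup.exists_Q (h : Setup R Z u t)
    (hK : Nat.card ↥(Subgroup.centralizer ({t} : Set X)) = 72) :
    ∃ Q : Subgroup X, IsQ t Q := by
  classical
  obtain ⟨M, hMn, hRM, hMc⟩ := h.base.syl2
  have hRn : R.Normal := h.base.normR
  obtain ⟨A, hAdef⟩ : ∃ A : Subgroup X, A = Subgroup.centralizer ({t} : Set X) ⊓ M := ⟨_, rfl⟩
  have hAmem : ∀ x, x ∈ A ↔ (t * x = x * t ∧ x ∈ M) := by
    intro x
    rw [hAdef, Subgroup.mem_inf, mem_centralizer_singleton]
  -- `A ⊔ R = M`
  have hsup : A ⊔ R = M := by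
    apply le_antisymm
    · refine sup_le ?_ hRM
      intro x hx
      exact ((hAmem x).mp hx).2
    · intro m hm
      obtain ⟨r, hr, hcomm⟩ := h.frat m
      have h1 : r⁻¹ * m ∈ A := by
        rw [hAmem]
        exact ⟨hcomm.symm, mul_mem (inv_mem (hRM hr)) hm⟩
      have h2 : m = (r⁻¹ * m) * (m⁻¹ * r * m) := by group
      rw [h2]
      refine Subgroup.mul_mem_sup h1 ?_
      have := hRn.conj_mem r hr m⁻¹
      rwa [inv_inv] at this
  -- `R ⊓ A = Z`
  have hinf : R ⊓ A = Z := by
    ext x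
    rw [Subgroup.mem_inf, hAmem]
    constructor
    · rintro ⟨hxR, hxt, -⟩
      exact h.fix x hxR hxt
    · intro hxZ
      exact ⟨h.base.Z_le hxZ, h.Zcen x hxZ t, hRM (h.base.Z_le hxZ)⟩
  have hZA : Z ≤ A := by
    rw [← hinf]
    exact inf_le_right
  -- `|A| = 24`
  have hAcard : Nat.card A = 24 := by
    have e1 : R.relIndex (A ⊔ R) = R.relIndex A := Subgroup.relIndex_sup_right A R
    have e2 : (R ⊓ A).relIndex A = R.relIndex A := Subgroup.inf_relIndex_right R A
    rw [hsup] at e1
    rw [hinf] at e2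
    have e3 : Nat.card R * R.relIndex M = Nat.card M := by
      have := Subgroup.relIndex_mul_relIndex (H := (⊥ : Subgroup X)) (K := R) (L := M) bot_le hRM
      rwa [Subgroup.relIndex_bot_left, Subgroup.relIndex_bot_left] at this
    have e4 : Nat.card Z * Z.relIndex A = Nat.card A := by
      have := Subgroup.relIndex_mul_relIndex (H := (⊥ : Subgroup X)) (K := Z) (L := A) bot_le hZA
      rwa [Subgroup.relIndex_bot_left, Subgroup.relIndex_bot_left] at this
    rw [h.base.cardR, hMc] at e3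
    rw [h.base.cardZ, e2, ← e1] at e4
    omega
  -- a subgroup of order eight
  have : Fact (Nat.Prime 2) := ⟨Nat.prime_two⟩
  obtain ⟨P', hP'⟩ := Sylow.exists_subgroup_card_pow_prime (G := ↥A) 2 (n := 3) (by rw [hAcard]; norm_num)
  obtain ⟨P, hPdef⟩ : ∃ P : Subgroup X, P = P'.map A.subtype := ⟨_, rfl⟩
  have hPcard : Nat.card P = 8 := by
    rw [hPdef, Subgroup.card_map_of_injective A.subtype_injective, hP']
    norm_num
  have hPA : P ≤ A := by
    rw [hPdef]
    exact Subgroup.map_subtype_le P'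
  have hP8 : ∀ x ∈ P, x ^ 8 = 1 := by
    intro x hx
    have := pow_card_of_mem P x hx
    rwa [hPcard] at this
  have hZ3 : ∀ x ∈ Z, x ^ 3 = 1 := by
    intro x hx
    have := pow_card_of_mem Z x hx
    rwa [h.base.cardZ] at this
  -- every element of `A` is `z * p`
  have hdecomp : ∀ a ∈ A, ∃ z ∈ Z, ∃ p ∈ P, a = z * p := by
    have himg : (fun q : X × X => q.1 * q.2) '' ((Z : Set X) ×ˢ (P : Set X)) ⊆ (A : Set X) := by
      rintro x ⟨⟨z, p⟩, ⟨hz, hp⟩, rfl⟩
      exact mul_mem (hZA hz) (hPA hp)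
    have hinj : Set.InjOn (fun q : X × X => q.1 * q.2) ((Z : Set X) ×ˢ (P : Set X)) := by
      rintro ⟨z, p⟩ ⟨hz, hp⟩ ⟨z', p'⟩ ⟨hz', hp'⟩ hEq
      have hEq' : z * p = z' * p' := hEq
      have h1 : z'⁻¹ * z = p' * p⁻¹ := by
        calc z'⁻¹ * z = z'⁻¹ * (z * p) * p⁻¹ := by group
          _ = p' * p⁻¹ := by rw [hEq']; group
      have h2 : z'⁻¹ * z = 1 := by
        apply eq_one_of_pow_three_eight
        · exact hZ3 _ (mul_mem (inv_mem hz') hz)
        · rw [h1]
          exact hP8 _ (mul_mem hp' (inv_mem hp))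
      have h3 : z = z' := by
        calc z = z' * (z'⁻¹ * z) := by group
          _ = z' := by rw [h2, mul_one]
      have h4 : p = p' := by
        rw [h2] at h1
        calc p = (p' * p⁻¹)⁻¹ * p' := by group
          _ = p' := by rw [← h1, inv_one, one_mul]
      rw [h3, h4]
    have hcard := hinj.ncard_image
    rw [Set.ncard_prod] at hcard
    have hZc : (Z : Set X).ncard = 3 := by
      rw [← h.base.cardZ]
      rfl
    have hPc : (P : Set X).ncard = 8 := by
      rw [← hPcard]
      rfl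
    have hAc : (A : Set X).ncard = 24 := by
      rw [← hAcard]
      rfl
    rw [hZc, hPc] at hcard
    have heq := Set.eq_of_subset_of_ncard_le himg (by rw [hAc, hcard]) (Set.toFinite _)
    intro a ha
    have ha' : a ∈ (fun q : X × X => q.1 * q.2) '' ((Z : Set X) ×ˢ (P : Set X)) := by
      rw [heq]
      exact ha
    obtain ⟨⟨z, p⟩, ⟨hz, hp⟩, hzp⟩ := ha'
    exact ⟨z, hz, p, hp, hzp.symm⟩
  -- elements of `A` killed by eight lie in `P`
  have hL : ∀ a ∈ A, a ^ 8 = 1 → a ∈ P := by
    intro a ha ha8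
    obtain ⟨z, hz, p, hp, rfl⟩ := hdecomp a ha
    have hc : Commute z p := (h.Zcen z hz p).symm
    rw [hc.mul_pow, hP8 p hp, mul_one] at ha8
    have hz1 : z = 1 := eq_one_of_pow_three_eight z (hZ3 z hz) ha8
    rw [hz1, one_mul]
    exact hp
  have ht2 : t ^ 2 = 1 := by
    rw [← h.t_ord]
    exact pow_orderOf_eq_one t
  have ht8 : t ^ 8 = 1 := by
    calc t ^ 8 = (t ^ 2) ^ 4 := by group
      _ = 1 := by rw [ht2, one_pow]
  have hMR : M ≠ R := by
    intro hEq
    rw [hEq, h.base.cardR] at hMc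
    omega
  have huM : u ∈ M := h.base.u_normal M hMn hRM hMR
  have htM : t ∈ M := by
    have h1 : t = (t * u⁻¹) * u := by group
    rw [h1]
    exact mul_mem (hRM h.t_u) huM
  have htA : t ∈ A := by
    rw [hAmem]
    exact ⟨rfl, htM⟩
  have htP : t ∈ P := hL t htA ht8
  have hPR : ∀ x ∈ P, x ∈ R → x = 1 := by
    intro x hxP hxR
    exact eq_one_of_pow_three_eight x (h.base.exp3 x hxR) (hP8 x hxP)
  have hut : u * t⁻¹ ∈ R := by
    have h1 : u * t⁻¹ = (t * u⁻¹)⁻¹ := by group
    rw [h1]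
    exact inv_mem h.t_u
  refine ⟨P, ?_⟩
  refine
    { card := hPcard
      comm := ?_
      norm := ?_
      t_mem := htP
      sq := ?_ }
  · intro q hq
    exact (((hAmem q).mp (hPA hq)).1).symm
  · intro k hk q hq
    have hqA := (hAmem q).mp (hPA hq)
    apply hL
    · rw [hAmem]
      refine ⟨?_, hMn.conj_mem q hqA.2 k⟩
      have hk' : k⁻¹ * t = t * k⁻¹ := by
        calc k⁻¹ * t = k⁻¹ * (t * k) * k⁻¹ := by group
          _ = t * k⁻¹ := by rw [← hk]; group
      calc t * (k * q * k⁻¹) = (t * k) * q * k⁻¹ := by group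
        _ = k * (t * q) * k⁻¹ := by rw [← hk]; group
        _ = k * q * (t * k⁻¹) := by rw [hqA.1]; group
        _ = k * q * k⁻¹ * t := by rw [← hk']; group
    · rw [conj_pow, hP8 q hq, mul_one, mul_inv_cancel]
  · intro q hq hq1
    have hq8 := hP8 q hq
    have hq4R : q ^ 4 ∈ R := h.base.no8 q (by rw [hq8]; exact one_mem R)
    have hq4 : q ^ 4 = 1 := hPR _ (pow_mem hq 4) hq4R
    have hpp : (q * q) * (q * q) = 1 := by
      rw [← hq4, pow_succ, pow_succ, pow_succ, pow_one]
      simp only [mul_assoc]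
    rcases h.base.u_uniq (q * q) (by rw [hpp]; exact one_mem R) with hpR | hpu
    · have hp1 : q * q = 1 := hPR _ (mul_mem hq hq) hpR
      left
      rcases h.base.u_uniq q (by rw [hp1]; exact one_mem R) with hqR | hqu
      · exact absurd (hPR q hq hqR) hq1
      · have h1 : q * t⁻¹ ∈ R := by
          have h2 : q * t⁻¹ = (q * u⁻¹) * (u * t⁻¹) := by group
          rw [h2]
          exact mul_mem hqu hut
        have h3 : q * t⁻¹ = 1 := hPR _ (mul_mem hq (inv_mem htP)) h1
        calc q = (q * t⁻¹) * t := by group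
          _ = t := by rw [h3, one_mul]
    · right
      have h1 : q * q * t⁻¹ ∈ R := by
        have h2 : q * q * t⁻¹ = (q * q * u⁻¹) * (u * t⁻¹) := by group
        rw [h2]
        exact mul_mem hpu hut
      have h3 : q * q * t⁻¹ = 1 := hPR _ (mul_mem (mul_mem hq hq) (inv_mem htP)) h1
      calc q * q = (q * q * t⁻¹) * t := by group
        _ = t := by rw [h3, one_mul]

end Cfsg.Agent.Helper30.X648
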